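import Mathlib

/-!
# An additive subgroup and its multiples in characteristic two

For a proper non-trivial additive subgroup `E` of a finite field of characteristic two, some triple
`E`, `tE`, `sE` violates the product condition. The proof counts the sizes of `E ∩ tE`.
-/

set_option autoImplicit false
set_option maxHeartbeats 400000

namespace Cfsg.Agent.Classical.Binary

variable {F : Type*} [Field F] (E : AddSubgroup F)

/-- `E ∩ tE`. -/
def interT (t : F) : AddSubgroup F := E ⊓ E.comap (AddMonoidHom.mulLeft t⁻¹)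

variable {E}

theorem mem_interT {t x : F} : x ∈ interT E t ↔ x ∈ E ∧ t⁻¹ * x ∈ E := by simp [interT]

/-- `(a, b) ↦ a + t b`. -/
def sumT (E : AddSubgroup F) (t : F) : E × E →+ F :=
  AddMonoidHom.coprod E.subtype ((AddMonoidHom.mulLeft t).comp E.subtype)

theorem sumT_apply (t : F) (p : E × E) : sumT E t p = p.1.1 + t * p.2.1 := rfl

variable [Fintype F]

theorem card_range_sumT {t : F} (ht : t ≠ 0) :
    Nat.card (sumT E t).range * Nat.card (interT E t) = Nat.card E * Nat.card E := by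
  have e : (sumT E t).ker ≃ interT E t :=
    { toFun := fun p => ⟨p.1.1.1, mem_interT.mpr ⟨p.1.1.2, by
        have h : p.1.1.1 + t * p.1.2.1 = 0 := p.2
        rw [eq_neg_of_add_eq_zero_left h, mul_neg, ← mul_assoc, inv_mul_cancel₀ ht, one_mul]
        exact E.neg_mem p.1.2.2⟩⟩
      invFun := fun x => ⟨(⟨x.1, (mem_interT.mp x.2).1⟩, ⟨-(t⁻¹ * x.1), E.neg_mem (mem_interT.mp x.2).2⟩), by
        rw [AddMonoidHom.mem_ker, sumT_apply, mul_neg, ← mul_assoc, mul_inv_cancel₀ ht, one_mul, add_neg_cancel]⟩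
      left_inv := fun p => by
        have h : p.1.1.1 + t * p.1.2.1 = 0 := p.2
        refine Subtype.ext (Prod.ext (Subtype.ext rfl) (Subtype.ext ?_))
        change -(t⁻¹ * p.1.1.1) = p.1.2.1
        rw [eq_neg_of_add_eq_zero_left h]
        field_simp
      right_inv := fun x => rfl }
  rw [← Nat.card_congr e, ← Nat.card_prod ↥E ↥E, AddSubgroup.card_eq_card_quotient_mul_card_addSubgroup (sumT E t).ker,
    Nat.card_congr (QuotientAddGroup.quotientKerEquivRange (sumT E t)).toEquiv]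

/-- `interT` in numbers, with `X = |E|`: what the triple condition gives. -/
theorem inter_bounds (h2 : (2 : F) = 0)
    (h : ∀ t s e b : F, t ≠ 0 → s ≠ 0 → e ∈ E → t⁻¹ * b ∈ E → s⁻¹ * (e - b) ∈ E →
      ∃ x ∈ E, t⁻¹ * x ∈ E ∧ s⁻¹ * (e - x) ∈ E)
    {t : F} (ht0 : t ≠ 0) (ht1 : t ≠ 1) :
    Nat.card E ≤ Nat.card (interT E t) * Nat.card (interT E (1 + t)) ∧
      Nat.card E ^ 3 ≤ Fintype.card F * (Nat.card (interT E t) * Nat.card (interT E (t / (1 + t)))) := by
  have hneg : ∀ a : F, -a = a := fun a => by linear_combination (-a) * h2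
  have h1t : (1 : F) + t ≠ 0 := fun e => ht1 (by linear_combination e - h2)
  constructor
  · rw [← Nat.card_prod]
    let f : interT E t × interT E (1 + t) → E := fun p =>
      ⟨p.1.1 + p.2.1, add_mem (mem_interT.mp p.1.2).1 (mem_interT.mp p.2.2).1⟩
    refine Nat.card_le_card_of_surjective f fun e => ?_
    obtain ⟨x, hx, hxt, hxs⟩ := h t (1 + t) e.1 (t * e.1) ht0 h1t e.2
      (by rw [← mul_assoc, inv_mul_cancel₀ ht0, one_mul]; exact e.2)
      (by rw [show e.1 - t * e.1 = (1 + t) * e.1 by rw [sub_eq_add_neg, ← neg_mul, hneg]; ring,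
        ← mul_assoc, inv_mul_cancel₀ h1t, one_mul]; exact e.2)
    exact ⟨(⟨x, mem_interT.mpr ⟨hx, hxt⟩⟩, ⟨e.1 - x, mem_interT.mpr ⟨sub_mem e.2 hx, hxs⟩⟩),
      Subtype.ext (add_sub_cancel x e.1)⟩
  · set s := t / (1 + t) with hs
    have hs0 : s ≠ 0 := div_ne_zero ht0 h1t
    have hsub : ∀ y, y ∈ (sumT E t).range → y ∈ (sumT E s).range → y ∈ E := by
      rintro y ⟨⟨e1, b⟩, rfl⟩ ⟨⟨e2, c⟩, hy⟩
      rw [sumT_apply, sumT_apply] at hy
      obtain ⟨x, hx, hxt, hxs⟩ := h t s (e1.1 - e2.1) (-(t * b.1)) ht0 hs0 (sub_mem e1.2 e2.2)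
        (by rw [mul_neg, ← mul_assoc, inv_mul_cancel₀ ht0, one_mul]; exact E.neg_mem b.2)
        (by
          rw [show e1.1 - e2.1 - -(t * b.1) = s * c.1 by linear_combination -hy, ← mul_assoc,
            inv_mul_cancel₀ hs0, one_mul]
          exact c.2)
      have key : t * b.1 + x = s⁻¹ * (t * b.1 + x) - t⁻¹ * (t * b.1 + x) := by
        rw [hs]; field_simp; ring
      have hA : t⁻¹ * (t * b.1 + x) ∈ E := by
        rw [mul_add, ← mul_assoc, inv_mul_cancel₀ ht0, one_mul]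
        exact add_mem b.2 hxt
      have hB : s⁻¹ * (t * b.1 + x) ∈ E := by
        rw [show t * b.1 + x = s * c.1 - (e1.1 - e2.1 - x) by linear_combination hy.symm, mul_sub,
          ← mul_assoc, inv_mul_cancel₀ hs0, one_mul]
        exact sub_mem c.2 hxs
      rw [sumT_apply]
      have : t * b.1 + x ∈ E := key ▸ sub_mem hB hA
      rw [show e1.1 + t * b.1 = e1.1 + (t * b.1 + x) - x by ring]
      exact sub_mem (add_mem e1.2 this) hx
    set R₁ := (sumT E t).range
    set R₂ := (sumT E s).range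
    let g : R₁ × R₂ →+ F := AddMonoidHom.coprod R₁.subtype R₂.subtype
    have hker : Nat.card g.ker ≤ Nat.card E := by
      refine Nat.card_le_card_of_injective (fun p => (⟨p.1.1.1, hsub _ p.1.1.2 ?_⟩ : E)) ?_
      · have h0 : p.1.1.1 + p.1.2.1 = 0 := p.2
        rw [eq_neg_of_add_eq_zero_left h0]
        exact neg_mem p.1.2.2
      · rintro ⟨⟨a, b⟩, hp⟩ ⟨⟨a', b'⟩, hp'⟩ hh
        have ha : a.1 = a'.1 := congrArg (fun e : E => (e : F)) hh
        have h0 : a.1 + b.1 = 0 := hp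
        have h0' : a'.1 + b'.1 = 0 := hp'
        exact Subtype.ext (Prod.ext (Subtype.ext ha) (Subtype.ext (by linear_combination h0 - h0' - ha)))
    have hR : Nat.card R₁ * Nat.card R₂ ≤ Fintype.card F * Nat.card E := by
      rw [← Nat.card_prod, AddSubgroup.card_eq_card_quotient_mul_card_addSubgroup g.ker,
        Nat.card_congr (QuotientAddGroup.quotientKerEquivRange g).toEquiv]
      exact Nat.mul_le_mul ((AddSubgroup.card_le_card_addGroup _).trans_eq Nat.card_eq_fintype_card) hker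
    have k1 := card_range_sumT (E := E) ht0
    have k2 := card_range_sumT (E := E) hs0
    have hX : 0 < Nat.card E := Nat.card_pos
    have h4 : Nat.card E ^ 3 * Nat.card E ≤
        Fintype.card F * (Nat.card (interT E t) * Nat.card (interT E s)) * Nat.card E := by
      calc Nat.card E ^ 3 * Nat.card E = (Nat.card R₁ * Nat.card (interT E t)) * (Nat.card R₂ * Nat.card (interT E s)) := by
            rw [k1, k2]; ring
        _ = (Nat.card R₁ * Nat.card R₂) * (Nat.card (interT E t) * Nat.card (interT E s)) := by ring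
        _ ≤ (Fintype.card F * Nat.card E) * (Nat.card (interT E t) * Nat.card (interT E s)) :=
          Nat.mul_le_mul_right _ hR
        _ = _ := by ring
    exact Nat.le_of_mul_le_mul_right h4 hX

theorem sum_inter [DecidableEq F] :
    ∑ t ∈ (Finset.univ : Finset F) \ {0, 1}, Nat.card (interT E t) =
      (Fintype.card F - 2) + (Nat.card E - 1) * (Nat.card E - 2) := by
  classical
  set T := (Finset.univ : Finset F) \ {0, 1} with hT
  set S := (Finset.univ.filter fun x : F => x ∈ E).erase 0 with hS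
  have hSc : S.card = Nat.card E - 1 := by
    rw [hS, Finset.card_erase_of_mem (by simp), Nat.card_eq_fintype_card, Fintype.card_subtype]
  have hTc : T.card = Fintype.card F - 2 := by
    rw [hT, Finset.card_sdiff, Finset.inter_univ, Finset.card_pair zero_ne_one, Finset.card_univ]
  have hf : ∀ t ∈ T, Nat.card (interT E t) = 1 + (S.filter fun x => t⁻¹ * x ∈ E).card := by
    intro t _
    rw [Nat.card_eq_fintype_card, Fintype.card_subtype, ← Finset.card_erase_add_one (a := 0) (by simp), add_comm]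
    congr 2
    ext x
    simp [hS, mem_interT]
    tauto
  rw [Finset.sum_congr rfl hf, Finset.sum_add_distrib, Finset.sum_const, smul_eq_mul, mul_one, hTc]
  congr 1
  rw [← Finset.card_sigma]
  have : (T.sigma fun t => S.filter fun x => t⁻¹ * x ∈ E).card = S.offDiag.card := by
    refine Finset.card_bij' (fun p _ => (p.2, p.1⁻¹ * p.2)) (fun p _ => ⟨p.1 / p.2, p.1⟩) ?_ ?_ ?_ ?_
    · intro p hp
      simp [hT, hS] at hp ⊢
      refine ⟨hp.2.1, ⟨⟨hp.1.1, hp.2.1.1⟩, hp.2.2⟩, fun e => hp.1.2 ?_⟩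
      obtain ⟨⟨h0, h1⟩, ⟨hx, -⟩, -⟩ := hp
      field_simp at e
      exact e
    · intro p hp
      simp [hT, hS] at hp ⊢
      obtain ⟨⟨h1, h1E⟩, ⟨h2, h2E⟩, hne⟩ := hp
      refine ⟨⟨⟨h1, h2⟩, fun e => hne ?_⟩, ⟨h1, h1E⟩, ?_⟩
      · field_simp at e
        exact e
      · rw [div_mul_cancel₀ _ h1]
        exact h2E
    · intro p hp
      simp [hT, hS] at hp
      obtain ⟨⟨h0, h1⟩, ⟨hx, -⟩, -⟩ := hp
      rcases p with ⟨t, x⟩
      simp only at h0 hx ⊢
      congr 1
      field_simp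
    · intro p hp
      simp [hS] at hp
      obtain ⟨⟨h1, -⟩, ⟨h2, -⟩, -⟩ := hp
      rcases p with ⟨x, y⟩
      simp only at h1 h2 ⊢
      congr 1
      field_simp
  rw [this, Finset.offDiag_card, hSc]
  cases Nat.card E <;> simp [Nat.mul_sub_left_distrib]

theorem num_small {q X M : ℕ} (hX : 2 ≤ X) (hdiv : X = 2 ∨ 4 ≤ X) (hq : 4 ≤ q) (hle : X * X ≤ q)
    (hM : M = (q - 2) + (X - 1) * (X - 2)) (h : ∀ k, (X ≤ 2 → k ≤ 3) → k ≤ 4 → (q - 2) * k ≤ 2 * M) : False := by
  obtain ⟨Y, rfl⟩ : ∃ Y, X = Y + 2 := ⟨X - 2, by omega⟩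
  rw [show Y + 2 - 1 = Y + 1 by omega, show Y + 2 - 2 = Y by omega] at hM
  rcases hdiv with h' | h'
  · have := h 3 (fun _ => le_rfl) (by norm_num)
    obtain rfl : Y = 0 := by omega
    omega
  · have := h 4 (fun h => by omega) le_rfl
    nlinarith [Nat.sub_add_cancel (show 2 ≤ q by omega)]

theorem num_large {q X M : ℕ} (hX : 2 ≤ X) (h2q : 2 * q ≤ X * X) (hq : q = 2 * X ∨ 4 * X ≤ q)
    (hM : M = (q - 2) + (X - 1) * (X - 2)) (h : (q - 2) ^ 2 * X ^ 3 ≤ M ^ 2 * q) : False := by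
  obtain ⟨Y, rfl⟩ : ∃ Y, X = Y + 2 := ⟨X - 2, by omega⟩
  obtain ⟨r, rfl⟩ : ∃ r, q = r + 2 := ⟨q - 2, by omega⟩
  simp only [Nat.add_sub_cancel, show Y + 2 - 1 = Y + 1 by omega] at hM h
  rcases hq with hq | hq
  · obtain rfl : r = 2 * Y + 2 := by omega
    have hY : 1 ≤ Y := by nlinarith
    subst hM
    nlinarith [mul_pos (mul_pos (show 0 < Y + 1 by omega) (show 0 < Y + 1 by omega))
      (mul_pos (mul_pos (show 0 < Y + 2 by omega) (show 0 < Y + 2 by omega)) (show 0 < Y + 2 by omega))]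
  · have hY : 1 ≤ Y := by nlinarith
    have hM2 : 2 * M ≤ 3 * ((Y + 2) * Y) := by nlinarith
    have hY4 : 4 * Y + 6 ≤ r := by omega
    have e1 : 4 * (r ^ 2 * (Y + 2) ^ 3) ≤ 9 * ((Y + 2) * Y) ^ 2 * (r + 2) := by
      nlinarith [Nat.mul_le_mul hM2 hM2]
    have e2 : 4 * r ^ 2 * (Y + 2) ≤ 9 * Y ^ 2 * (r + 2) := by
      refine Nat.le_of_mul_le_mul_right ?_ (show 0 < (Y + 2) * (Y + 2) by positivity)
      calc 4 * r ^ 2 * (Y + 2) * ((Y + 2) * (Y + 2)) = 4 * (r ^ 2 * (Y + 2) ^ 3) := by ring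
        _ ≤ _ := e1
        _ = _ := by ring
    nlinarith [Nat.mul_le_mul_left (9 * Y * (r + 2)) hY4]

/-- The failing triple. -/
theorem exists_bad_triple (h2 : (2 : F) = 0) (hbot : E ≠ ⊥) (htop : E ≠ ⊤) :
    ∃ t s e b : F, t ≠ 0 ∧ s ≠ 0 ∧ e ∈ E ∧ t⁻¹ * b ∈ E ∧ s⁻¹ * (e - b) ∈ E ∧
      ∀ x ∈ E, t⁻¹ * x ∈ E → s⁻¹ * (e - x) ∉ E := by
  classical
  by_contra hc
  push Not at hc
  have h : ∀ t s e b : F, t ≠ 0 → s ≠ 0 → e ∈ E → t⁻¹ * b ∈ E → s⁻¹ * (e - b) ∈ E →
      ∃ x ∈ E, t⁻¹ * x ∈ E ∧ s⁻¹ * (e - x) ∈ E := fun t s e b h1 h2 h3 h4 h5 => hc t s e b h1 h2 h3 h4 h5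
  haveI : CharP F 2 := CharTwo.of_one_ne_zero_of_two_eq_zero one_ne_zero h2
  obtain ⟨n, -, hn⟩ := FiniteField.card F 2
  obtain ⟨d, hdn, hd⟩ : ∃ d ≤ (n : ℕ), Nat.card E = 2 ^ d := by
    have := E.card_addSubgroup_dvd_card
    rw [Nat.card_eq_fintype_card (α := F), hn] at this
    obtain ⟨d, hd, he⟩ := (Nat.dvd_prime_pow Nat.prime_two).mp this
    exact ⟨d, hd, he⟩
  set X := Nat.card E with hX
  set q := Fintype.card F with hq
  have hd0 : 1 ≤ d := Nat.one_le_iff_ne_zero.mpr fun e => hbot (AddSubgroup.eq_bot_of_card_eq E (by rw [← hX, hd, e, pow_zero]))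
  have hdlt : d < n := lt_of_le_of_ne hdn fun e => htop (AddSubgroup.eq_top_of_card_eq E (by rw [← hX, hd, e, ← hn, Nat.card_eq_fintype_card]))
  have hX2 : 2 ≤ X := by rw [hd]; exact le_self_pow₀ (by norm_num) (by omega)
  have hXq : 2 * X ≤ q := by rw [hd, hn, ← pow_succ']; exact Nat.pow_le_pow_right (by norm_num) hdlt
  set T := (Finset.univ : Finset F) \ {0, 1} with hT
  set f : F → ℕ := fun t => Nat.card (interT E t) with hf
  set M := (q - 2) + (X - 1) * (X - 2) with hM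
  have hsum : ∑ t ∈ T, f t = M := sum_inter
  have hTm : ∀ t, t ∈ T ↔ t ≠ 0 ∧ t ≠ 1 := fun t => by simp [hT]
  have hTc : T.card = q - 2 := by
    rw [hT, Finset.card_sdiff, Finset.inter_univ, Finset.card_pair zero_ne_one, Finset.card_univ]
  have h1t : ∀ t, t ∈ T → (1 : F) + t ∈ T ∧ t / (1 + t) ∈ T := fun t ht => by
    rw [hTm] at ht
    have h0 : (1 : F) + t ≠ 0 := fun e => ht.2 (by linear_combination e - h2)
    simp only [hTm]
    exact ⟨⟨h0, fun e => ht.1 (by linear_combination e)⟩, div_ne_zero ht.1 h0,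
      fun e => by rw [div_eq_one_iff_eq h0] at e; exact one_ne_zero (by linear_combination -e : (1 : F) = 0)⟩
  have hsum1 : ∑ t ∈ T, (f t + f (1 + t)) = 2 * M := by
    rw [Finset.sum_add_distrib, two_mul, hsum]
    congr 1
    rw [← hsum]
    exact Finset.sum_nbij' (1 + ·) (1 + ·) (fun t ht => (h1t t ht).1) (fun t ht => (h1t t ht).1)
      (fun t _ => by linear_combination h2) (fun t _ => by linear_combination h2) (fun t _ => rfl)
  have hsum2 : ∑ t ∈ T, (f t + f (t / (1 + t))) = 2 * M := by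
    rw [Finset.sum_add_distrib, two_mul, hsum]
    congr 1
    rw [← hsum]
    have hinv : ∀ t ∈ T, (t / (1 + t)) / (1 + t / (1 + t)) = t := fun t ht => by
      have h0 := ((hTm _).mp (h1t t ht).1).1
      have h00 : (1 : F) + t + t = 1 := by linear_combination t * h2
      field_simp
      rw [h00]
      ring
    exact Finset.sum_nbij' (fun t => t / (1 + t)) (fun t => t / (1 + t)) (fun t ht => (h1t t ht).2)
      (fun t ht => (h1t t ht).2) hinv hinv (fun t _ => rfl)
  have hb := fun t (ht : t ∈ T) => inter_bounds h2 h ((hTm t).mp ht).1 ((hTm t).mp ht).2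
  by_cases hcase : X * X ≤ q
  · refine num_small hX2 ?_ (by omega) hcase hM fun k hk3 hk4 => ?_
    · rcases Nat.lt_or_ge d 2 with hd2 | hd2
      · left; rw [hd, show d = 1 by omega, pow_one]
      · right; rw [hd]; exact (Nat.pow_le_pow_right (by norm_num) hd2 : 2 ^ 2 ≤ 2 ^ d)
    rw [← hsum1, ← hTc, ← smul_eq_mul]
    refine Finset.card_nsmul_le_sum _ _ _ fun t ht => ?_
    have hab : X ≤ f t * f (1 + t) := (hb t ht).1
    rcases le_or_gt X 2 with hX' | hX'
    · refine (hk3 hX').trans ?_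
      nlinarith [sq_nonneg ((f t : ℤ) - f (1 + t))]
    · have : 4 ≤ X := by
        rcases Nat.lt_or_ge d 2 with hd2 | hd2
        · rw [hd, show d = 1 by omega] at hX'; norm_num at hX'
        · rw [hd]; exact (Nat.pow_le_pow_right (by norm_num) hd2 : 2 ^ 2 ≤ 2 ^ d)
      refine hk4.trans ?_
      nlinarith [sq_nonneg ((f t : ℤ) - f (1 + t))]
  · rw [not_le] at hcase
    have h2q : 2 * q ≤ X * X := by
      rw [hd, hn, ← pow_succ', ← pow_add] at *
      exact Nat.pow_le_pow_right (by norm_num) ((Nat.pow_lt_pow_iff_right (by norm_num)).mp hcase)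
    have hq' : q = 2 * X ∨ 4 * X ≤ q := by
      rw [hd, hn]
      rcases Nat.lt_or_ge (d + 1) n with hd2 | hd2
      · right
        rw [show 4 * 2 ^ d = 2 ^ (d + 2) by ring]
        exact Nat.pow_le_pow_right (by norm_num) hd2
      · left; rw [← pow_succ']; congr 1; omega
    obtain ⟨t₀, ht₀, hmin⟩ := T.exists_min_image (fun t => f t + f (t / (1 + t)))
      (Finset.card_pos.mp (by rw [hTc]; omega))
    obtain ⟨m, hm⟩ : ∃ m, m = f t₀ + f (t₀ / (1 + t₀)) := ⟨_, rfl⟩
    have hm1 : (q - 2) * m ≤ 2 * M := by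
      rw [← hsum2, ← hTc, ← smul_eq_mul]
      exact Finset.card_nsmul_le_sum _ _ _ fun t ht => hm ▸ hmin t ht
    have hm2 : 4 * X ^ 3 ≤ q * m ^ 2 := by
      have h4 : X ^ 3 ≤ q * (f t₀ * f (t₀ / (1 + t₀))) := (hb t₀ ht₀).2
      rw [hm]
      nlinarith [sq_nonneg ((f t₀ : ℤ) - f (t₀ / (1 + t₀)))]
    refine num_large hX2 h2q hq' hM ?_
    nlinarith [Nat.mul_le_mul hm1 hm1, Nat.mul_le_mul_left ((q - 2) ^ 2) hm2]

end Cfsg.Agent.Classical.Binary
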