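import Cfsg.Agent.Lib.Classical.Binary.Torus
import Cfsg.Agent.Lib.Classical.Dickson.Scaled
import Cfsg.Agent.Lib.Classical.Binary.Lattice

/-!
# Subgroups of Borel groups and subfield subgroups
-/

set_option autoImplicit false
set_option maxHeartbeats 800000

namespace Cfsg.Agent.Classical.Binary

open Cfsg.Agent.Small Cfsg.Agent.Small.SL2C Cfsg.Agent.Classical.Dickson
open Cfsg.Agent.Fusion.Dickson (shifts)

variable {F : Type*} [Field F] [Fintype F]

local notation "SL2" => Matrix.SpecialLinearGroup (Fin 2) F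
local notation "P2" => Matrix.ProjectiveSpecialLinearGroup (Fin 2) F
local notation "M2" => Matrix (Fin 2) (Fin 2) F

theorem mem_lift {G : Subgroup SL2} (hG : Subgroup.center SL2 ≤ G) {X : SL2} :
    PSL2.pr X ∈ G.map PSL2.pr ↔ X ∈ G := by
  refine ⟨?_, fun h => ⟨X, h, rfl⟩⟩
  rintro ⟨Y, hY, he⟩
  have h1 : Y⁻¹ * X ∈ Subgroup.center SL2 := by
    rw [← SL2Four.ker_pr, MonoidHom.mem_ker, map_mul, map_inv, he, inv_mul_cancel]
  have := mul_mem hY (hG h1)
  rwa [mul_inv_cancel_left] at this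

theorem mem_sub_lift {G : Subgroup SL2} (hG : Subgroup.center SL2 ≤ G) {g S : SL2} :
    PSL2.pr S ∈ sub (G.map PSL2.pr) (PSL2.pr g) ↔ S ∈ G ∧ g⁻¹ * S * g ∈ G := by
  rw [mem_sub, pr_conj, mem_lift hG, mem_lift hG]

theorem bin_conj {G : Subgroup SL2} (g : GL (Fin 2) F) (h : IsBin (G.map PSL2.pr)) :
    IsBin ((G.map (PSL2.conjSL g).toMonoidHom).map PSL2.pr) := by
  rw [map_pr_conj]
  exact h.map (PSL2.conjP g)

theorem wS_eq : (PSL2.wS : SL2) = PSL2.uS 1 * PSL2.vS (-1) * PSL2.uS 1 := PSL2.uS_vS_uS.symm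

theorem hS_eq (a : Fˣ) : PSL2.hS a =
    PSL2.uS (a : F) * PSL2.vS (-(a : F)⁻¹) * PSL2.uS (a : F) * (PSL2.wS : SL2)⁻¹ := by
  have := a.ne_zero
  apply Subtype.ext
  ext i j
  fin_cases i <;> fin_cases j <;>
    simp [Matrix.SpecialLinearGroup.coe_inv, Matrix.adjugate_fin_two, Matrix.mul_apply, Matrix.vecMul, dotProduct, Fin.sum_univ_two]

/-- Containing both root groups. -/
theorem eq_top_of_root {G : Subgroup SL2} (h : ∀ x : F, PSL2.uS x ∈ G ∧ PSL2.vS x ∈ G) : G = ⊤ := by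
  refine eq_top_iff.mpr fun A _ => ?_
  refine Matrix.SL2.transvection_induction (fun A => A ∈ G) ?_ ?_ A
  · intro i j hij c
    fin_cases i <;> fin_cases j
    · exact absurd rfl hij
    · convert (h c).1 using 1
      apply Subtype.ext; rw [Matrix.SpecialLinearGroup.transvection_coe, PSL2.uS_val]
      ext a b; fin_cases a <;> fin_cases b <;> simp
    · convert (h c).2 using 1
      apply Subtype.ext; rw [Matrix.SpecialLinearGroup.transvection_coe, PSL2.vS_val]
      ext a b; fin_cases a <;> fin_cases b <;> simp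
    · exact absurd rfl hij
  · exact fun A B hA hB => mul_mem hA hB

/-- Subgroups of subfield type. -/
theorem field_not_bin {G : Subgroup SL2} (hG : Subgroup.center SL2 ≤ G) (hne : G.map PSL2.pr ≠ ⊤)
    (K : Subfield F) (h3 : 3 ≤ Nat.card K) (hlow : ∀ x ∈ K, PSL2.uS x ∈ G ∧ PSL2.vS x ∈ G)
    (hhigh : ∀ y ∈ G, ∃ c : F, ∃ M : M2, (∀ i j, M i j ∈ K) ∧ y.1 = c • M) :
    ¬ IsBin (G.map PSL2.pr) := by
  intro hbin
  obtain ⟨o, ho⟩ : ∃ o : F, o ∉ K := by
    by_contra! hc
    refine hne ?_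
    rw [eq_top_of_root (G := G) fun x => hlow x (hc x), Subgroup.map_top_of_surjective _ PSL2.pr_surjective]
  have hratio : ∀ y ∈ G, ∀ i j k l : Fin 2, y.1 k l / y.1 i j ∈ K := by
    intro y hy i j k l
    obtain ⟨c, M, hM, he⟩ := hhigh y hy
    rcases eq_or_ne c 0 with rfl | hc
    · simp [he]
    · rw [he, Matrix.smul_apply, Matrix.smul_apply, smul_eq_mul, smul_eq_mul, mul_div_mul_left _ _ hc]
      exact K.div_mem (hM k l) (hM i j)
  have hwS : PSL2.pr (PSL2.wS : SL2) ∈ G.map PSL2.pr := ⟨_, by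
    rw [wS_eq]
    exact mul_mem (mul_mem (hlow 1 K.one_mem).1 (hlow _ (K.neg_mem K.one_mem)).2) (hlow 1 K.one_mem).1, rfl⟩
  by_cases h2 : (2 : F) = 0
  · obtain ⟨r, hr⟩ := isSquare_of_two h2 o
    obtain ⟨m, rfl⟩ : ∃ m : Fˣ, (m : F) = r := ⟨Units.mk0 r (fun e => ho (by rw [← hr, e, mul_zero]; exact K.zero_mem)), rfl⟩
    obtain ⟨lam, hlam0, hlam1⟩ : ∃ x : K, x ≠ 0 ∧ x ≠ 1 := by
      haveI : Fintype K := Fintype.ofFinite K
      classical
      by_contra! hc
      have : (Finset.univ : Finset K) ⊆ {0, 1} := fun x _ => by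
        rcases eq_or_ne x 0 with h | h
        · simp [h]
        · simp [hc x h]
      have := (Finset.card_le_card this).trans Finset.card_le_two
      rw [Finset.card_univ, ← Nat.card_eq_fintype_card] at this
      omega
    obtain ⟨l, hl⟩ : ∃ l : Fˣ, (l : F) = lam := ⟨Units.mk0 (lam : F) (by simpa using hlam0), rfl⟩
    have hlK : (l : F) ∈ K := hl ▸ lam.2
    have hlne : (l : F) ≠ 1 := fun e => hlam1 (Subtype.ext (hl.symm.trans e))
    have hlG : PSL2.hS l ∈ G := by
      rw [hS_eq, wS_eq]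
      exact mul_mem (mul_mem (mul_mem (hlow _ hlK).1 (hlow _ (K.neg_mem (K.inv_mem hlK))).2) (hlow _ hlK).1)
        (inv_mem (mul_mem (mul_mem (hlow 1 K.one_mem).1 (hlow _ (K.neg_mem K.one_mem)).2) (hlow 1 K.one_mem).1))
    have hl2 : (l : F) * l ≠ 1 := fun e => hlne (by
      have : ((l : F) - 1) * ((l : F) - 1) = 0 := by linear_combination e + (1 - (l : F)) * h2
      linear_combination mul_self_eq_zero.mp this)
    have hsum : (l : F) * l + 1 ≠ 0 := fun e => hl2 (by linear_combination e - h2)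
    refine not_triple_torus (L := G.map PSL2.pr) ?_ (l := l) ((mem_sub_lift hG (g := PSL2.hS m)).mpr ⟨hlG, ?_⟩) hl2
      (mul_inv_cancel₀ hsum) ⟨_, (hlow 1 K.one_mem).1, rfl⟩
      ⟨_, (hlow _ (K.inv_mem (K.add_mem (K.mul_mem hlK hlK) K.one_mem))).1, rfl⟩ (hbin.sub _)
    · intro s hs
      obtain ⟨S, rfl⟩ := PSL2.pr_surjective s
      obtain ⟨hS, hS'⟩ := (mem_sub_lift hG).mp hs
      refine ⟨S, rfl, ?_⟩
      have hd := PSL2.det_two S
      have h10 : ((PSL2.hS m)⁻¹ * S * PSL2.hS m).1 1 0 = o * S.1 1 0 ∧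
          ((PSL2.hS m)⁻¹ * S * PSL2.hS m).1 0 1 = S.1 0 1 / o ∧
          ((PSL2.hS m)⁻¹ * S * PSL2.hS m).1 0 0 = S.1 0 0 ∧
          ((PSL2.hS m)⁻¹ * S * PSL2.hS m).1 1 1 = S.1 1 1 := by
        have := m.ne_zero
        rw [← hr]
        refine ⟨?_, ?_, ?_, ?_⟩ <;>
          simp [Matrix.SpecialLinearGroup.coe_inv, Matrix.adjugate_fin_two, Matrix.mul_apply, Matrix.vecMul, dotProduct, Fin.sum_univ_two] <;>
          field_simp
      obtain ⟨e10, e01, e00, e11⟩ := h10
      have cancel : ∀ {x d : F}, d ≠ 0 → x / d ∈ K → o * x / d ∈ K → x = 0 := by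
        intro x d hd hx hox
        by_contra hx0
        refine ho ?_
        have := K.div_mem hox hx
        rwa [show o * x / d / (x / d) = o by field_simp] at this
      rcases ne_or_eq (S.1 0 0) 0 with hz | hz
      · refine ⟨?_, cancel hz (hratio _ hS 0 0 1 0) ?_⟩
        · by_contra hb
          refine ho ?_
          have k1 := hratio _ hS 0 0 0 1
          have k2 := hratio _ hS' 0 0 0 1
          rw [e01, e00] at k2
          have := K.div_mem k1 k2
          have ho0 : o ≠ 0 := fun e => ho (e ▸ K.zero_mem)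
          rwa [show S.1 0 1 / S.1 0 0 / (S.1 0 1 / o / S.1 0 0) = o by field_simp] at this
        · have := hratio _ hS' 0 0 1 0
          rwa [e10, e00] at this
      · exfalso
        rw [hz, zero_mul, zero_sub] at hd
        have hc0 : S.1 1 0 ≠ 0 := fun e => by simp [e] at hd
        have hb0 : S.1 0 1 ≠ 0 := fun e => by simp [e] at hd
        rcases ne_or_eq (S.1 1 1) 0 with hz1 | hz1
        · refine hc0 (cancel hz1 (hratio _ hS 1 1 1 0) ?_)
          have := hratio _ hS' 1 1 1 0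
          rwa [e10, e11] at this
        · have k1 := hratio _ hS 0 1 1 0
          have k2 := hratio _ hS' 0 1 1 0
          rw [e10, e01] at k2
          have ho0 : o ≠ 0 := fun e => ho (e ▸ K.zero_mem)
          have hoo : o * o ∈ K := by
            have := K.div_mem k2 k1
            rwa [show o * S.1 1 0 / (S.1 0 1 / o) / (S.1 1 0 / S.1 0 1) = o * o by field_simp] at this
          haveI : Fintype K := Fintype.ofFinite K
          have h2K : (2 : K) = 0 := by
            rw [← one_add_one_eq_two]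
            apply Subtype.ext
            show (1 : F) + 1 = 0
            linear_combination h2
          obtain ⟨w, hw⟩ := isSquare_of_two (F := K) h2K ⟨_, hoo⟩
          have hw' : (w : F) * w = o * o := congrArg Subtype.val hw
          refine ho ?_
          have : (o - w) * (o - w) = 0 := by linear_combination -hw' + ((w : F) * w - o * w) * h2
          rw [sub_eq_zero.mp (mul_self_eq_zero.mp this)]
          exact w.2
    · rw [show (PSL2.hS m)⁻¹ * PSL2.hS l * PSL2.hS m = PSL2.hS l from ?_]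
      · exact hlG
      have := m.ne_zero
      apply Subtype.ext
      ext i j
      fin_cases i <;> fin_cases j <;>
        simp [Matrix.SpecialLinearGroup.coe_inv, Matrix.adjugate_fin_two, Matrix.mul_apply, Matrix.vecMul, dotProduct, Fin.sum_univ_two] <;>
        field_simp
  · refine not_triple_unip h2 ?_ ((mem_sub_lift hG (g := PSL2.uS o)).mpr ⟨(hlow 1 K.one_mem).1, ?_⟩) hwS
      ⟨_, (hlow _ (K.neg_mem (by simpa using K.add_mem K.one_mem K.one_mem))).2, by norm_num⟩ (hbin.sub _)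
    · intro s hs
      obtain ⟨S, rfl⟩ := PSL2.pr_surjective s
      obtain ⟨hS, hS'⟩ := (mem_sub_lift hG).mp hs
      refine ⟨S, rfl, ?_⟩
      have e10 : ((PSL2.uS o)⁻¹ * S * PSL2.uS o).1 1 0 = S.1 1 0 := by
        simp [Matrix.SpecialLinearGroup.coe_inv, Matrix.adjugate_fin_two, Matrix.mul_apply, Matrix.vecMul, dotProduct, Fin.sum_univ_two]
      have e00 : ((PSL2.uS o)⁻¹ * S * PSL2.uS o).1 0 0 = S.1 0 0 - o * S.1 1 0 := by
        simp [Matrix.SpecialLinearGroup.coe_inv, Matrix.adjugate_fin_two, Matrix.mul_apply, Matrix.vecMul, dotProduct, Fin.sum_univ_two]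
        ring
      have e01 : ((PSL2.uS o)⁻¹ * S * PSL2.uS o).1 0 1 =
          S.1 0 1 + o * (S.1 0 0 - S.1 1 1) - o * o * S.1 1 0 := by
        simp [Matrix.SpecialLinearGroup.coe_inv, Matrix.adjugate_fin_two, Matrix.mul_apply, Matrix.vecMul, dotProduct, Fin.sum_univ_two]
        ring
      have h10 : S.1 1 0 = 0 := by
        by_contra hne0
        refine ho ?_
        have := K.sub_mem (hratio _ hS 1 0 0 0) (show _ ∈ K from hratio _ hS' 1 0 0 0)
        rwa [e00, e10, show S.1 0 0 / S.1 1 0 - (S.1 0 0 - o * S.1 1 0) / S.1 1 0 = o by field_simp; ring] at this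
      have hd := PSL2.det_two S
      rw [h10, mul_zero, sub_zero] at hd
      have h00 : S.1 0 0 ≠ 0 := left_ne_zero_of_mul_eq_one hd
      have hdiag : S.1 0 0 = S.1 1 1 := by
        by_contra hne0
        refine ho ?_
        have k := hratio _ hS' 0 0 0 1
        rw [e01, e00, h10, mul_zero, sub_zero, mul_zero, sub_zero] at k
        have := K.div_mem (K.sub_mem k (hratio _ hS 0 0 0 1)) (K.sub_mem K.one_mem (hratio _ hS 0 0 1 1))
        have hsub := sub_ne_zero.mpr hne0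
        rwa [show ((S.1 0 1 + o * (S.1 0 0 - S.1 1 1)) / S.1 0 0 - S.1 0 1 / S.1 0 0) / (1 - S.1 1 1 / S.1 0 0) = o by
          field_simp; ring] at this
      refine commute_val.mpr ?_
      ext i j
      fin_cases i <;> fin_cases j <;> simp [Matrix.mul_apply, Fin.sum_univ_two, h10, hdiag] <;> ring
    · rw [show (PSL2.uS o)⁻¹ * PSL2.uS 1 * PSL2.uS o = PSL2.uS (1 : F) from ?_]
      · exact (hlow 1 K.one_mem).1
      rw [mul_assoc, ← PSL2.uS_add, add_comm, PSL2.uS_add, inv_mul_cancel_left]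

/-- A diagonal element of order at least three in a Borel subgroup. -/
theorem borel_torus {G : Subgroup SL2} (hG : Subgroup.center SL2 ≤ G) (hup : ∀ y ∈ G, y.1 1 0 = 0)
    (hu : PSL2.uS (1 : F) ∈ G) {l : Fˣ} (hl : PSL2.hS l ∈ G) (hl4 : (l : F) ^ 4 ≠ 1) :
    ¬ IsBin (G.map PSL2.pr) := by
  intro hbin
  have hl2 : (l : F) * l ≠ 1 := fun e => hl4 (by linear_combination ((l : F) * l + 1) * e)
  have hl2' : (l : F) * l + 1 ≠ 0 := fun e => hl4 (by linear_combination ((l : F) * l - 1) * e)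
  let E : AddSubgroup F :=
    { carrier := {x | PSL2.uS x ∈ G}
      add_mem' := fun {a b} ha hb => show PSL2.uS (a + b) ∈ G by rw [PSL2.uS_add]; exact mul_mem ha hb
      zero_mem' := show PSL2.uS (0 : F) ∈ G by
        rw [show PSL2.uS (0 : F) = 1 from Subtype.ext (by simp [Matrix.one_fin_two])]; exact one_mem G
      neg_mem' := fun {a} ha => show PSL2.uS (-a) ∈ G by
        rw [show PSL2.uS (-a) = (PSL2.uS a)⁻¹ from eq_inv_of_mul_eq_one_left (by
          rw [← PSL2.uS_add, neg_add_cancel]; exact Subtype.ext (by simp [Matrix.one_fin_two]))]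
        exact inv_mem ha }
  have hmul : ∀ x ∈ E, ((l : F) * l + 1) * x ∈ E := fun x hx => by
    rw [add_mul, one_mul]
    refine add_mem ?_ hx
    show PSL2.uS _ ∈ G
    have h := mul_mem (mul_mem hl hx) (inv_mem hl)
    rwa [PSL2.hS_uS, mul_inv_cancel_right, pow_two] at h
  obtain ⟨⟨z, hzE⟩, hz⟩ := Finite.surjective_of_injective
    (f := fun x : E => (⟨((l : F) * l + 1) * x.1, hmul _ x.2⟩ : E))
    (fun x y h => Subtype.ext (mul_left_cancel₀ hl2' (congrArg Subtype.val h))) ⟨1, hu⟩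
  have hz' : ((l : F) * l + 1) * z = 1 := congrArg Subtype.val hz
  refine not_triple_torus (L := G.map PSL2.pr) ?_ (l := l) ((mem_sub_lift hG (g := PSL2.wS)).mpr ⟨hl, ?_⟩) hl2 hz'
    ⟨_, hu, rfl⟩ ⟨_, hzE, rfl⟩ (hbin.sub _)
  · intro s hs
    obtain ⟨S, rfl⟩ := PSL2.pr_surjective s
    obtain ⟨hS, hS'⟩ := (mem_sub_lift hG).mp hs
    refine ⟨S, rfl, ?_, hup S hS⟩
    have := hup _ hS'
    simpa [Matrix.SpecialLinearGroup.coe_inv, Matrix.adjugate_fin_two, Matrix.mul_apply, Matrix.vecMul, dotProduct, Fin.sum_univ_two] using this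
  · rw [show (PSL2.wS : SL2)⁻¹ * PSL2.hS l * PSL2.wS = (PSL2.hS l)⁻¹ from ?_]
    · exact inv_mem hl
    apply Subtype.ext
    ext i j
    fin_cases i <;> fin_cases j <;>
      simp [Matrix.SpecialLinearGroup.coe_inv, Matrix.adjugate_fin_two, Matrix.mul_apply, Matrix.vecMul, dotProduct, Fin.sum_univ_two]

/-- `E` extended by a reflection. -/
theorem borel_refl (h2 : (2 : F) ≠ 0) {G : Subgroup SL2} (hG : Subgroup.center SL2 ≤ G)
    (hup : ∀ y ∈ G, y.1 1 0 = 0) (hfour : ∀ y ∈ G, y.1 0 0 ^ 4 = 1) {l : Fˣ} (hl : PSL2.hS l ∈ G)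
    (hl2 : (l : F) * l = -1) : ¬ IsBin (G.map PSL2.pr) := by
  intro hbin
  have hl0 := l.ne_zero
  obtain ⟨V, hV⟩ : ∃ V : SL2, V.1 = !![1, -(1 / 2); 1, 1 / 2] :=
    ⟨⟨_, by rw [Matrix.det_fin_two]; simp; field_simp; norm_num⟩, rfl⟩
  obtain ⟨W, hW⟩ : ∃ W : SL2, W.1 = !![(l : F), -(1 / 2); 1, 1 / (2 * l)] :=
    ⟨⟨_, by rw [Matrix.det_fin_two]; simp; field_simp; norm_num⟩, rfl⟩
  let A : SL2 := PSL2.hS l
  have hi : (l : F)⁻¹ = -(l : F) := inv_eq_of_mul_eq_one_right (by linear_combination -hl2)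
  obtain ⟨s, hsA, hsB, hsC⟩ := hbin.triple (u := 1) (v := PSL2.pr V) (w := PSL2.pr W) (a := PSL2.pr A)
    (b := PSL2.pr (V * A * V⁻¹)) trivial trivial trivial
    (by simpa [mem_lift hG] using hl)
    (by rw [pr_conj, show V⁻¹ * (V * A * V⁻¹) * V = A by group]; exact ⟨A, hl, rfl⟩)
    (by
      rw [← map_inv PSL2.pr (V * A * V⁻¹), ← map_mul, pr_conj, show W⁻¹ * ((V * A * V⁻¹)⁻¹ * A) * W = A from ?_]
      · exact ⟨A, hl, rfl⟩
      apply Subtype.ext
      ext i j
      fin_cases i <;> fin_cases j <;>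
        simp [A, hV, hW, Matrix.SpecialLinearGroup.coe_inv, Matrix.adjugate_fin_two, Matrix.mul_apply, Matrix.vecMul, dotProduct, Fin.sum_univ_two, hi] <;>
        field_simp <;> grind)
  obtain ⟨S, rfl⟩ := PSL2.pr_surjective s
  rw [inv_one, one_mul, mul_one, mem_lift hG] at hsA
  rw [pr_conj, mem_lift hG] at hsB
  rw [← map_inv PSL2.pr S, ← map_mul, pr_conj, mem_lift hG] at hsC
  have h10 := hup _ hsA
  have hB := hup _ hsB
  have hC := hup _ hsC
  have h4 := hfour _ hsA
  have hd := PSL2.det_two S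
  rw [h10, mul_zero, sub_zero] at hd
  simp [A, hV, hW, Matrix.SpecialLinearGroup.coe_inv, Matrix.adjugate_fin_two, Matrix.mul_apply, Matrix.vecMul, dotProduct, Fin.sum_univ_two, h10, hi] at hB hC
  rcases mul_eq_zero.mp (show (S.1 0 0 * S.1 0 0 - 1) * (S.1 0 0 * S.1 0 0 + 1) = 0 by linear_combination h4) with h | h
  · grind
  · grind

/-- Elementary abelian two-groups, other than the Sylow subgroups. -/
theorem borel_even (h2 : (2 : F) = 0) {G : Subgroup SL2} (hG : Subgroup.center SL2 ≤ G)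
    (hu : PSL2.uS (1 : F) ∈ G) (hall : ∀ y ∈ G, ∃ x : F, y = PSL2.uS x) {o : F} (ho : PSL2.uS o ∉ G) :
    ¬ IsBin (G.map PSL2.pr) := by
  intro hbin
  let E : AddSubgroup F :=
    { carrier := {x | PSL2.uS x ∈ G}
      add_mem' := fun {a b} ha hb => show PSL2.uS (a + b) ∈ G by rw [PSL2.uS_add]; exact mul_mem ha hb
      zero_mem' := show PSL2.uS (0 : F) ∈ G by
        rw [show PSL2.uS (0 : F) = 1 from Subtype.ext (by simp [Matrix.one_fin_two])]; exact one_mem G
      neg_mem' := fun {a} ha => show PSL2.uS (-a) ∈ G by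
        rwa [show -a = a by linear_combination (-a) * h2] }
  have hE : ∀ x, x ∈ E ↔ PSL2.uS x ∈ G := fun x => Iff.rfl
  obtain ⟨t, s, e, b, ht, hs, he, hb, hc, hbad⟩ := exists_bad_triple (E := E) h2
    (fun h => one_ne_zero (AddSubgroup.mem_bot.mp (h ▸ (show (1 : F) ∈ E from hu))))
    (fun h => ho (h ▸ AddSubgroup.mem_top o : o ∈ E))
  obtain ⟨r, hr⟩ := isSquare_of_two h2 t
  obtain ⟨r', hr'⟩ := isSquare_of_two h2 s
  have hr0 : r ≠ 0 := fun e => ht (by rw [← hr, e, mul_zero])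
  have hr0' : r' ≠ 0 := fun e => hs (by rw [← hr', e, mul_zero])
  have hconj : ∀ (m : Fˣ) (x : F), (PSL2.hS m)⁻¹ * PSL2.uS x * PSL2.hS m = PSL2.uS (((m : F) * m)⁻¹ * x) := by
    intro m x
    have := m.ne_zero
    rw [mul_assoc, inv_mul_eq_iff_eq_mul, PSL2.hS_uS]
    congr 2
    field_simp
  have hsub : ∀ x y : F, (PSL2.uS x)⁻¹ * PSL2.uS y = PSL2.uS (y - x) := fun x y => by
    rw [inv_mul_eq_iff_eq_mul, ← PSL2.uS_add, add_sub_cancel]
  obtain ⟨σ, hσA, hσB, hσC⟩ := hbin.triple (u := 1) (v := PSL2.pr (PSL2.hS (Units.mk0 r hr0)))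
    (w := PSL2.pr (PSL2.hS (Units.mk0 r' hr0'))) (a := PSL2.pr (PSL2.uS e)) (b := PSL2.pr (PSL2.uS b))
    trivial trivial trivial (by simpa [mem_lift hG] using (hE e).mp he)
    (by rw [pr_conj, hconj, Units.val_mk0, hr]; exact ⟨_, hb, rfl⟩)
    (by rw [← map_inv PSL2.pr (PSL2.uS b), ← map_mul, hsub, pr_conj, hconj, Units.val_mk0, hr']; exact ⟨_, hc, rfl⟩)
  rw [inv_one, one_mul, mul_one] at hσA
  obtain ⟨S, hS, rfl⟩ := hσA
  obtain ⟨x, rfl⟩ := hall S hS
  rw [pr_conj, hconj, Units.val_mk0, hr, mem_lift hG] at hσB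
  rw [← map_inv PSL2.pr (PSL2.uS x), ← map_mul, hsub, pr_conj, hconj, Units.val_mk0, hr', mem_lift hG] at hσC
  exact hbad x hS hσB hσC

/-- Subgroups of a Borel group containing a transvection: binary only for Sylow subgroups in even
characteristic. -/
theorem borel_cases {G : Subgroup SL2} (hG : Subgroup.center SL2 ≤ G) (hup : ∀ y ∈ G, y.1 1 0 = 0)
    (hu : PSL2.uS (1 : F) ∈ G) (hbin : IsBin (G.map PSL2.pr)) :
    (2 : F) = 0 ∧ G.map PSL2.pr = PSL2.U := by
  have h4 : ∀ y ∈ G, y.1 0 0 ^ 4 = 1 := by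
    intro x hx
    by_contra hne
    have hd := PSL2.det_two x
    rw [hup x hx, mul_zero, sub_zero] at hd
    have ha := left_ne_zero_of_mul_eq_one hd
    have hsub : x.1 1 1 - x.1 0 0 ≠ 0 := fun e => hne (by
      have h1 : x.1 0 0 * x.1 0 0 = 1 := by linear_combination hd - x.1 0 0 * e
      linear_combination (x.1 0 0 * x.1 0 0 + 1) * h1)
    obtain ⟨r, hr⟩ : ∃ r, r = -(x.1 0 1 / (x.1 1 1 - x.1 0 0)) := ⟨_, rfl⟩
    let P : GL (Fin 2) F := Matrix.SpecialLinearGroup.toGL (PSL2.uS r)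
    have hP : ∀ y : SL2, PSL2.conjSL P y = PSL2.uS r * y * (PSL2.uS r)⁻¹ := fun y => Subtype.ext (by
      rw [PSL2.conjSL_val]; rfl)
    refine borel_torus (G := G.map (PSL2.conjSL P).toMonoidHom) (l := Units.mk0 _ ha) ?_ ?_ ?_ ?_ hne (bin_conj P hbin)
    · exact (map_conjSL_center P).trans (Subgroup.map_mono hG)
    · rintro _ ⟨y, hy, rfl⟩
      rw [MulEquiv.coe_toMonoidHom, hP]
      simp [Matrix.SpecialLinearGroup.coe_inv, Matrix.adjugate_fin_two, Matrix.mul_apply, Matrix.vecMul, dotProduct, Fin.sum_univ_two, hup y hy]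
    · refine ⟨PSL2.uS 1, hu, ?_⟩
      rw [MulEquiv.coe_toMonoidHom, hP, ← PSL2.uS_add, add_comm, PSL2.uS_add, mul_inv_cancel_right]
    · refine ⟨x, hx, ?_⟩
      rw [MulEquiv.coe_toMonoidHom, hP]
      apply Subtype.ext
      have h11 : x.1 1 1 = (x.1 0 0)⁻¹ := (inv_eq_of_mul_eq_one_right hd).symm
      ext i j
      fin_cases i <;> fin_cases j <;>
        simp [Matrix.SpecialLinearGroup.coe_inv, Matrix.adjugate_fin_two, Matrix.mul_apply, Matrix.vecMul, dotProduct, Fin.sum_univ_two, hup x hx, hr] <;>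
        first | exact h11 | (field_simp; ring)
  by_cases h2 : (2 : F) = 0
  · have hall : ∀ y ∈ G, ∃ x : F, y = PSL2.uS x := fun y hy => by
      have h := h4 y hy
      have h1 : y.1 0 0 = 1 := by
        have : ((y.1 0 0 - 1) * (y.1 0 0 - 1)) * ((y.1 0 0 - 1) * (y.1 0 0 - 1)) = 0 := by
          linear_combination h + (1 - 2 * y.1 0 0 ^ 3 + 3 * y.1 0 0 ^ 2 - 2 * y.1 0 0) * h2
        exact sub_eq_zero.mp (mul_self_eq_zero.mp (mul_self_eq_zero.mp this))
      have hd := PSL2.det_two y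
      rw [hup y hy, mul_zero, sub_zero, h1, one_mul] at hd
      refine ⟨y.1 0 1, Subtype.ext ?_⟩
      ext i j
      fin_cases i <;> fin_cases j <;> simp [h1, hd, hup y hy]
    refine ⟨h2, ?_⟩
    by_cases hfull : ∀ o : F, PSL2.uS o ∈ G
    · refine le_antisymm ?_ ?_
      · rintro _ ⟨y, hy, rfl⟩
        obtain ⟨x, rfl⟩ := hall y hy
        exact PSL2.uS_mem x
      · rintro g hg
        obtain ⟨x, rfl⟩ := (PSL2.mem_U g).mp hg
        exact ⟨_, hfull x, rfl⟩
    · push Not at hfull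
      obtain ⟨o, ho⟩ := hfull
      exact absurd hbin (borel_even h2 hG hu hall ho)
  · exfalso
    by_cases hsq : ∀ y ∈ G, y.1 0 0 * y.1 0 0 = 1
    · refine not_triple_unip (M := G.map PSL2.pr) (L := ⊤) h2 ?_ ⟨_, hu, rfl⟩ trivial trivial hbin.triple
      rintro _ ⟨y, hy, rfl⟩
      refine ⟨y, rfl, commute_val.mpr ?_⟩
      have hd := PSL2.det_two y
      rw [hup y hy, mul_zero, sub_zero] at hd
      have h01 : y.1 0 0 = y.1 1 1 := mul_left_cancel₀ (left_ne_zero_of_mul_eq_one hd) ((hsq y hy).trans hd.symm)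
      ext i j
      fin_cases i <;> fin_cases j <;> simp [Matrix.mul_apply, Matrix.vecMul, dotProduct, Fin.sum_univ_two, hup y hy, h01] <;> ring
    · push Not at hsq
      obtain ⟨x, hx, hne⟩ := hsq
      have hd := PSL2.det_two x
      rw [hup x hx, mul_zero, sub_zero] at hd
      have hl : x.1 0 0 * x.1 0 0 = -1 := by
        have h := h4 x hx
        rcases mul_self_eq_one_iff.mp (show (x.1 0 0 * x.1 0 0) * (x.1 0 0 * x.1 0 0) = 1 by linear_combination h) with h' | h'
        · exact absurd h' hne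
        · exact h'
      have ha := left_ne_zero_of_mul_eq_one hd
      have h11 : x.1 1 1 = -x.1 0 0 := mul_left_cancel₀ ha (by linear_combination hd + hl)
      obtain ⟨r, hr⟩ : ∃ r, r = x.1 0 1 / (2 * x.1 0 0) := ⟨_, rfl⟩
      let P : GL (Fin 2) F := Matrix.SpecialLinearGroup.toGL (PSL2.uS r)
      have hP : ∀ y : SL2, PSL2.conjSL P y = PSL2.uS r * y * (PSL2.uS r)⁻¹ := fun y => Subtype.ext (by
        rw [PSL2.conjSL_val]; rfl)
      refine borel_refl h2 (G := G.map (PSL2.conjSL P).toMonoidHom) (l := Units.mk0 _ ha) ?_ ?_ ?_ ?_ hl (bin_conj P hbin)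
      · exact (map_conjSL_center P).trans (Subgroup.map_mono hG)
      · rintro _ ⟨y, hy, rfl⟩
        rw [MulEquiv.coe_toMonoidHom, hP]
        simp [Matrix.SpecialLinearGroup.coe_inv, Matrix.adjugate_fin_two, Matrix.mul_apply, Matrix.vecMul, dotProduct, Fin.sum_univ_two, hup y hy]
      · rintro _ ⟨y, hy, rfl⟩
        rw [MulEquiv.coe_toMonoidHom, hP]
        simp [Matrix.SpecialLinearGroup.coe_inv, Matrix.adjugate_fin_two, Matrix.mul_apply, Matrix.vecMul, dotProduct, Fin.sum_univ_two, hup y hy]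
        exact h4 y hy
      · refine ⟨x, hx, ?_⟩
        rw [MulEquiv.coe_toMonoidHom, hP]
        apply Subtype.ext
        ext i j
        fin_cases i <;> fin_cases j <;>
          simp [Matrix.SpecialLinearGroup.coe_inv, Matrix.adjugate_fin_two, Matrix.mul_apply, Matrix.vecMul, dotProduct, Fin.sum_univ_two, hup x hx, hr, h11] <;>
          field_simp <;> grind

end Cfsg.Agent.Classical.Binary
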