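import Mathlib

/-!
# Binary coset actions

The action of `G` on the cosets of `H` is binary when pairwise compatibility of tuples implies
global compatibility. The basic obstructions used later: three conjugates of `H` (or of an
intersection `H ∩ Hᵍ` inside `H`) violating a product condition, and two-transitivity.
-/

set_option autoImplicit false
set_option maxHeartbeats 400000

namespace Cfsg.Agent.Classical.Binary

variable {G : Type*} [Group G]

/-- Relational complexity two for the action on the cosets of `H`. -/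
def IsBin (H : Subgroup G) : Prop :=
  ∀ (n : ℕ) (I J : Fin n → G ⧸ H), 2 ≤ n →
    (∀ i j : Fin n, i ≠ j → ∃ g : G, g • I i = J i ∧ g • I j = J j) → ∃ g : G, ∀ i, g • I i = J i

theorem smul_mk_iff (H : Subgroup G) (g x y : G) :
    g • (x : G ⧸ H) = (y : G ⧸ H) ↔ y⁻¹ * g * x ∈ H := by
  rw [show g • (x : G ⧸ H) = ((g * x : G) : G ⧸ H) from rfl, eq_comm, QuotientGroup.eq, mul_assoc]

/-- The triple condition on the conjugates of `M` by elements of `L`. -/
def Triple (M L : Subgroup G) : Prop :=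
  ∀ ⦃u v w a b : G⦄, u ∈ L → v ∈ L → w ∈ L → u⁻¹ * a * u ∈ M → v⁻¹ * b * v ∈ M →
    w⁻¹ * (b⁻¹ * a) * w ∈ M →
    ∃ s, u⁻¹ * s * u ∈ M ∧ v⁻¹ * s * v ∈ M ∧ w⁻¹ * (s⁻¹ * a) * w ∈ M

theorem IsBin.triple {H : Subgroup G} (hb : IsBin H) : Triple H ⊤ := by
  intro u v w a b _ _ _ ha hb' hc
  obtain ⟨g, hg⟩ := hb 3 ![(u : G ⧸ H), (v : G ⧸ H), (w : G ⧸ H)]
    ![(u : G ⧸ H), (v : G ⧸ H), ((a * w : G) : G ⧸ H)] (by norm_num) (by
      intro i j hij
      fin_cases i <;> fin_cases j <;> first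
        | exact absurd rfl hij
        | (refine ⟨1, ?_, ?_⟩ <;> simp; done)
        | (refine ⟨a, ?_, ?_⟩ <;>
            simp only [Fin.zero_eta, Fin.mk_one, Fin.reduceFinMk, Fin.isValue, Matrix.cons_val_zero,
              Matrix.cons_val_one, Matrix.cons_val, smul_mk_iff] <;>
            first | exact ha | (group; exact one_mem H); done)
        | (refine ⟨b, ?_, ?_⟩ <;>
            simp only [Fin.zero_eta, Fin.mk_one, Fin.reduceFinMk, Fin.isValue, Matrix.cons_val_zero,
              Matrix.cons_val_one, Matrix.cons_val, smul_mk_iff] <;>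
            first
              | exact hb'
              | (have h := inv_mem hc; group at h ⊢; exact h)))
  have h0 := hg 0
  have h1 := hg 1
  have h2 := hg 2
  simp only [Fin.isValue, Matrix.cons_val_zero, Matrix.cons_val_one, Matrix.cons_val, smul_mk_iff] at h0 h1 h2
  refine ⟨g, h0, h1, ?_⟩
  have h := inv_mem h2
  group at h ⊢
  exact h

/-- The intersection `H ∩ g H g⁻¹`. -/
def sub (H : Subgroup G) (g : G) : Subgroup G := H ⊓ H.comap (MulAut.conj g⁻¹).toMonoidHom

theorem mem_sub {H : Subgroup G} {g x : G} : x ∈ sub H g ↔ x ∈ H ∧ g⁻¹ * x * g ∈ H := by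
  simp [sub]

theorem IsBin.sub {H : Subgroup G} (hb : IsBin H) (g : G) : Triple (sub H g) H := by
  intro u v w a b hu hv hw ha hb' hc
  rw [mem_sub] at ha hb' hc
  have haH : a ∈ H := by
    have := H.mul_mem (H.mul_mem hu ha.1) (inv_mem hu)
    group at this
    simpa using this
  have hbH : b ∈ H := by
    have := H.mul_mem (H.mul_mem hv hb'.1) (inv_mem hv)
    group at this
    simpa using this
  have e1 : ∀ x : G, x • ((1 : G) : G ⧸ H) = ((1 : G) : G ⧸ H) ↔ x ∈ H := fun x => by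
    rw [smul_mk_iff]; simp
  obtain ⟨s, hs⟩ := hb 4 ![((1 : G) : G ⧸ H), ((u * g : G) : G ⧸ H), ((v * g : G) : G ⧸ H), ((w * g : G) : G ⧸ H)]
    ![((1 : G) : G ⧸ H), ((u * g : G) : G ⧸ H), ((v * g : G) : G ⧸ H), ((a * (w * g) : G) : G ⧸ H)] (by norm_num) (by
      intro i j hij
      fin_cases i <;> fin_cases j <;> first
        | exact absurd rfl hij
        | (refine ⟨1, ?_, ?_⟩ <;> simp; done)
        | (refine ⟨a, ?_, ?_⟩ <;>
            simp only [Fin.zero_eta, Fin.mk_one, Fin.reduceFinMk, Fin.isValue, Matrix.cons_val_zero,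
              Matrix.cons_val_one, Matrix.cons_val] <;>
            first
              | exact (e1 a).mpr haH
              | (rw [smul_mk_iff]; have h := ha.2; group at h ⊢; exact h)
              | (rw [smul_mk_iff]; group; exact one_mem H); done)
        | (refine ⟨b, ?_, ?_⟩ <;>
            simp only [Fin.zero_eta, Fin.mk_one, Fin.reduceFinMk, Fin.isValue, Matrix.cons_val_zero,
              Matrix.cons_val_one, Matrix.cons_val, smul_mk_iff] <;>
            first
              | (have h := hb'.2; group at h ⊢; exact h)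
              | (have h := inv_mem hc.2; group at h ⊢; exact h)))
  have h0 := hs 0
  have h1 := hs 1
  have h2 := hs 2
  have h3 := hs 3
  simp only [Fin.isValue, Matrix.cons_val_zero, Matrix.cons_val_one, Matrix.cons_val] at h0 h1 h2 h3
  rw [e1] at h0
  rw [smul_mk_iff] at h1 h2 h3
  refine ⟨s, mem_sub.mpr ⟨?_, ?_⟩, mem_sub.mpr ⟨?_, ?_⟩, mem_sub.mpr ⟨?_, ?_⟩⟩
  · exact H.mul_mem (H.mul_mem (inv_mem hu) h0) hu
  · group at h1 ⊢; exact h1
  · exact H.mul_mem (H.mul_mem (inv_mem hv) h0) hv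
  · group at h2 ⊢; exact h2
  · exact H.mul_mem (H.mul_mem (inv_mem hw) (H.mul_mem (inv_mem h0) haH)) hw
  · have h := inv_mem h3; group at h ⊢; exact h

/-- Binary actions are preserved by isomorphisms. -/
theorem IsBin.map {G' : Type*} [Group G'] {H : Subgroup G} (hb : IsBin H) (φ : G ≃* G') :
    IsBin (H.map φ.toMonoidHom) := by
  intro n I J hn hpair
  have key : ∀ (g x y : G), φ g • ((φ x : G') : G' ⧸ H.map φ.toMonoidHom) = ((φ y : G') : G' ⧸ H.map φ.toMonoidHom) ↔
      g • (x : G ⧸ H) = (y : G ⧸ H) := fun g x y => by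
    rw [smul_mk_iff, smul_mk_iff, ← map_inv, ← map_mul, ← map_mul]
    exact Subgroup.mem_map_iff_mem φ.injective
  obtain ⟨x, rfl⟩ : ∃ x : Fin n → G, (fun i => ((φ (x i) : G') : G' ⧸ H.map φ.toMonoidHom)) = I :=
    ⟨fun i => φ.symm (I i).out, funext fun i => by rw [φ.apply_symm_apply]; exact QuotientGroup.out_eq' _⟩
  obtain ⟨y, rfl⟩ : ∃ y : Fin n → G, (fun i => ((φ (y i) : G') : G' ⧸ H.map φ.toMonoidHom)) = J :=
    ⟨fun i => φ.symm (J i).out, funext fun i => by rw [φ.apply_symm_apply]; exact QuotientGroup.out_eq' _⟩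
  obtain ⟨g, hg⟩ := hb n (fun i => (x i : G ⧸ H)) (fun i => (y i : G ⧸ H)) hn (fun i j hij => by
    obtain ⟨g, h1, h2⟩ := hpair i j hij
    obtain ⟨g, rfl⟩ := φ.surjective g
    exact ⟨g, (key _ _ _).mp h1, (key _ _ _).mp h2⟩)
  exact ⟨φ g, fun i => (key _ _ _).mpr (hg i)⟩

/-- A two-transitive binary action induces the symmetric group. -/
theorem IsBin.two_transitive [Finite G] {H : Subgroup G} (hb : IsBin H) (h2 : 2 ≤ H.index)
    (htr : ∀ x y : G, x ∉ H → y ∉ H → ∃ h ∈ H, y⁻¹ * h * x ∈ H) :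
    (H.index).factorial ≤ Nat.card G := by
  classical
  obtain ⟨e⟩ : Nonempty (Fin H.index ≃ G ⧸ H) := ⟨(Finite.equivFin (G ⧸ H)).symm⟩
  have two : ∀ P Q R S : G ⧸ H, P ≠ Q → R ≠ S → ∃ g : G, g • P = R ∧ g • Q = S := by
    intro P Q R S hPQ hRS
    obtain ⟨p, rfl⟩ := QuotientGroup.mk_surjective P
    obtain ⟨q, rfl⟩ := QuotientGroup.mk_surjective Q
    obtain ⟨r, rfl⟩ := QuotientGroup.mk_surjective R
    obtain ⟨s, rfl⟩ := QuotientGroup.mk_surjective S
    rw [Ne, QuotientGroup.eq] at hPQ hRS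
    obtain ⟨h, hh, hxy⟩ := htr (p⁻¹ * q) (r⁻¹ * s) hPQ hRS
    refine ⟨r * h * p⁻¹, (smul_mk_iff _ _ _ _).mpr ?_, (smul_mk_iff _ _ _ _).mpr ?_⟩
    · group; exact hh
    · group at hxy ⊢; exact hxy
  have hsurj : Function.Surjective (MulAction.toPermHom G (G ⧸ H)) := by
    intro σ
    obtain ⟨g, hg⟩ := hb H.index (fun i => e i) (fun i => σ (e i)) h2 (fun i j hij =>
      two _ _ _ _ (e.injective.ne hij) (σ.injective.ne (e.injective.ne hij)))
    exact ⟨g, Equiv.ext fun P => by
      obtain ⟨i, rfl⟩ := e.surjective P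
      exact hg i⟩
  have := Nat.card_le_card_of_surjective _ hsurj
  rwa [Nat.card_perm] at this

end Cfsg.Agent.Classical.Binary
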