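import Cfsg.Agent.Lib.Classical.Binary.Borel

/-!
# Dihedral subgroups: the parity witness

The points are axes of tori up to sign; a triangle of axes moved by the elements of a Klein group
keeps all pairwise invariants and changes the triangle invariant.
-/

set_option autoImplicit false
set_option maxHeartbeats 800000

namespace Cfsg.Agent.Classical.Binary

open Cfsg.Agent.Small Cfsg.Agent.Small.SL2C Cfsg.Agent.Classical.Dickson

variable {F : Type*} [Field F]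

local notation "SL2" => Matrix.SpecialLinearGroup (Fin 2) F
local notation "P2" => Matrix.ProjectiveSpecialLinearGroup (Fin 2) F
local notation "M2" => Matrix (Fin 2) (Fin 2) F

/-- Every element of `H` fixes `X` up to sign. -/
def Axis (X : M2) (H : Subgroup P2) : Prop :=
  ∀ S : SL2, PSL2.pr S ∈ H → ∃ e : F, e * e = 1 ∧ S.1 * X = e • (X * S.1)

/-- Every element of `H` fixes `W` up to adding one. -/
def Axis₁ (W : M2) (H : Subgroup P2) : Prop :=
  ∀ S : SL2, PSL2.pr S ∈ H → ∃ e : F, (e = 0 ∨ e = 1) ∧ S.1 * W = (W + e • 1) * S.1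

theorem inv_val_mul (U : SL2) : (U⁻¹).1 * U.1 = 1 := by
  rw [← Matrix.SpecialLinearGroup.coe_mul, inv_mul_cancel, Matrix.SpecialLinearGroup.coe_one]

theorem mul_inv_val (U : SL2) : U.1 * (U⁻¹).1 = 1 := by
  rw [← Matrix.SpecialLinearGroup.coe_mul, mul_inv_cancel, Matrix.SpecialLinearGroup.coe_one]

theorem trace_conjSL (S : SL2) (Y : M2) : (S.1 * Y * (S⁻¹).1).trace = Y.trace := by
  rw [Matrix.trace_mul_comm, ← Matrix.mul_assoc, inv_val_mul, Matrix.one_mul]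

theorem axis_conj {X : M2} {H : Subgroup P2} (h : Axis X H) {U S : SL2}
    (hS : PSL2.pr (U⁻¹ * S * U) ∈ H) :
    ∃ e : F, e * e = 1 ∧ S.1 * (U.1 * X * (U⁻¹).1) * (S⁻¹).1 = e • (U.1 * X * (U⁻¹).1) := by
  obtain ⟨e, he, h'⟩ := h _ hS
  refine ⟨e, he, ?_⟩
  have e1 : U.1 * (U⁻¹ * S * U).1 * X = e • (U.1 * X * (U⁻¹ * S * U).1) := by
    rw [Matrix.mul_assoc, h', Matrix.mul_smul, Matrix.mul_assoc]
  rw [← Matrix.SpecialLinearGroup.coe_mul, show U * (U⁻¹ * S * U) = S * U by group,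
    Matrix.SpecialLinearGroup.coe_mul, Matrix.SpecialLinearGroup.coe_mul, Matrix.SpecialLinearGroup.coe_mul] at e1
  calc S.1 * (U.1 * X * (U⁻¹).1) * (S⁻¹).1 = (S.1 * U.1 * X) * (U⁻¹).1 * (S⁻¹).1 := by simp only [Matrix.mul_assoc]
    _ = e • (U.1 * X * (U⁻¹).1 * S.1 * (U.1 * (U⁻¹).1) * (S⁻¹).1) := by
      rw [e1]; simp only [Matrix.smul_mul, Matrix.mul_assoc]
    _ = _ := by rw [mul_inv_val, Matrix.mul_one, Matrix.mul_assoc, mul_inv_val, Matrix.mul_one]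

theorem axis₁_conj {W : M2} {H : Subgroup P2} (h : Axis₁ W H) {U S : SL2}
    (hS : PSL2.pr (U⁻¹ * S * U) ∈ H) :
    ∃ e : F, (e = 0 ∨ e = 1) ∧ S.1 * (U.1 * W * (U⁻¹).1) * (S⁻¹).1 = U.1 * W * (U⁻¹).1 + e • 1 := by
  obtain ⟨e, he, h'⟩ := h _ hS
  refine ⟨e, he, ?_⟩
  have e1 : U.1 * (U⁻¹ * S * U).1 * W = U.1 * (W + e • 1) * (U⁻¹ * S * U).1 := by
    rw [Matrix.mul_assoc, h', Matrix.mul_assoc]
  rw [← Matrix.SpecialLinearGroup.coe_mul, show U * (U⁻¹ * S * U) = S * U by group,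
    Matrix.SpecialLinearGroup.coe_mul, Matrix.SpecialLinearGroup.coe_mul, Matrix.SpecialLinearGroup.coe_mul] at e1
  calc S.1 * (U.1 * W * (U⁻¹).1) * (S⁻¹).1 = (S.1 * U.1 * W) * (U⁻¹).1 * (S⁻¹).1 := by simp only [Matrix.mul_assoc]
    _ = U.1 * (W + e • 1) * (U⁻¹).1 * S.1 * (U.1 * (U⁻¹).1) * (S⁻¹).1 := by
      rw [e1]; simp only [Matrix.mul_assoc]
    _ = _ := by
      rw [mul_inv_val, Matrix.mul_one, Matrix.mul_assoc, mul_inv_val, Matrix.mul_one, Matrix.mul_add,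
        Matrix.add_mul, Matrix.mul_smul, Matrix.smul_mul, Matrix.mul_one, mul_inv_val]

/-- `1 + Q` conjugates a reflection `J` to `Q J`. -/
theorem hilbert {Q J X : M2} {x y : F} (hQ : Q = comb X x y) (hQd : Q.det = 1) (hadj : X.adjugate = X.trace • 1 - X)
    (hJ : J * X = (X.trace • 1 - X) * J) : (1 + Q) * J = Q * J * (1 + Q) := by
  have hJQ : J * Q = Q.adjugate * J := by
    rw [hQ]
    have : (comb X x y).adjugate = x • 1 + y • X.adjugate := by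
      ext i j
      fin_cases i <;> fin_cases j <;> simp [comb, Matrix.adjugate_fin_two]
    rw [this, hadj, comb, Matrix.mul_add, Matrix.mul_smul, Matrix.mul_smul, hJ, Matrix.mul_one,
      Matrix.add_mul, Matrix.smul_mul, Matrix.smul_mul, Matrix.one_mul]
  rw [Matrix.mul_add, Matrix.mul_one, Matrix.mul_assoc Q J Q, hJQ, ← Matrix.mul_assoc, Matrix.mul_adjugate, hQd,
    one_smul, Matrix.one_mul, Matrix.add_mul, Matrix.one_mul, add_comm]

theorem adj_eq (X : M2) : X.adjugate = X.trace • 1 - X := by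
  ext i j
  fin_cases i <;> fin_cases j <;> simp [Matrix.adjugate_fin_two, Matrix.trace_fin_two]

variable [Fintype F]

/-- Two non-zero coordinates on the conic `y² + z² = d`. -/
theorem exists_yz (h2 : (2 : F) ≠ 0) (h7 : 7 ≤ Fintype.card F) {d : F} (hd : d ≠ 0) :
    ∃ y z : F, y ≠ 0 ∧ z ≠ 0 ∧ y * y + z * z = d := by
  classical
  by_cases hs : IsSquare d
  · obtain ⟨s, rfl⟩ := hs
    have hs0 : s ≠ 0 := left_ne_zero_of_mul hd
    have hdeg : (Polynomial.X * (Polynomial.X - 1) * (Polynomial.X + 1) * (Polynomial.X ^ 2 + 1) : Polynomial F).natDegree ≤ 5 := by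
      compute_degree!
    have hp0 : (Polynomial.X * (Polynomial.X - 1) * (Polynomial.X + 1) * (Polynomial.X ^ 2 + 1) : Polynomial F) ≠ 0 := by
      refine mul_ne_zero (mul_ne_zero (mul_ne_zero Polynomial.X_ne_zero ?_) ?_) ?_ <;>
        exact Polynomial.Monic.ne_zero (by monicity!)
    obtain ⟨m, hm⟩ : ∃ m : F, (Polynomial.X * (Polynomial.X - 1) * (Polynomial.X + 1) * (Polynomial.X ^ 2 + 1) : Polynomial F).eval m ≠ 0 := by
      by_contra! hc
      exact hp0 (Polynomial.eq_zero_of_natDegree_lt_card_of_eval_eq_zero _ Function.injective_id hc (by omega))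
    simp only [Polynomial.eval_mul, Polynomial.eval_sub, Polynomial.eval_add, Polynomial.eval_X, Polynomial.eval_one,
      Polynomial.eval_pow, mul_ne_zero_iff] at hm
    obtain ⟨⟨⟨hm0, hm1⟩, hm2⟩, hm3⟩ := hm
    refine ⟨s * (1 - m ^ 2) / (m ^ 2 + 1), s * (2 * m) / (m ^ 2 + 1), ?_, ?_, ?_⟩
    · refine div_ne_zero (mul_ne_zero hs0 ?_) hm3
      rw [show (1 : F) - m ^ 2 = -((m - 1) * (m + 1)) by ring]
      exact neg_ne_zero.mpr (mul_ne_zero hm1 hm2)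
    · exact div_ne_zero (mul_ne_zero hs0 (mul_ne_zero h2 hm0)) hm3
    · field_simp
      ring
  · obtain ⟨u, v, huv⟩ := exists_form_value d 1 h2 one_ne_zero
    rw [one_mul] at huv
    refine ⟨u, v, fun e => hs ⟨v, by rw [← huv, e]; ring⟩, fun e => hs ⟨u, by rw [← huv, e]; ring⟩, huv⟩

/-- A reflection group with axis, in odd characteristic. -/
theorem axis_not_bin (h2 : (2 : F) ≠ 0) (h7 : 7 ≤ Fintype.card F) {H : Subgroup P2} {X₀ : M2} {J : SL2}
    (htr : X₀.trace = 0) (hdet : X₀.det ≠ 0) (hax : Axis X₀ H) (hJH : PSL2.pr J ∈ H)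
    (hJ : J.1 * X₀ = -(X₀ * J.1)) : ¬ IsBin H := by
  intro hbin
  obtain ⟨y, z, hy, hz, hyz⟩ := exists_yz h2 h7 hdet
  obtain ⟨al, be, hab⟩ := exists_form_value (-1 : F) 1 h2 one_ne_zero
  rw [one_mul] at hab
  obtain ⟨R, hR⟩ : ∃ R : SL2, R.1 = !![0, 1; -1, 0] := ⟨PSL2.wS, rfl⟩
  obtain ⟨R', hR'⟩ : ∃ R' : SL2, R'.1 = !![al, be; be, -al] :=
    ⟨⟨_, by rw [Matrix.det_fin_two]; simp; linear_combination -hab⟩, rfl⟩
  obtain ⟨τ, hτ⟩ : ∃ τ : SL2, τ.1 = !![(1 + al + be) / 2, (1 + be - al) / 2; (-1 + be - al) / 2, (1 - al - be) / 2] :=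
    ⟨⟨_, by rw [Matrix.det_fin_two]; simp; field_simp; linear_combination -2 * hab⟩, rfl⟩
  obtain ⟨X₁, hX₁⟩ : ∃ X₁ : M2, X₁ = y • R'.1 + z • (R.1 * R'.1) := ⟨_, rfl⟩
  have hX₁v : X₁ = !![y * al + z * be, y * be - z * al; y * be - z * al, -(y * al) - z * be] := by
    rw [hX₁, hR, hR']
    ext i j
    fin_cases i <;> fin_cases j <;> simp [Matrix.mul_apply, Fin.sum_univ_two] <;> ring
  have htr1 : X₁.trace = 0 := by rw [hX₁v]; simp [Matrix.trace_fin_two]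
  have hdet1 : X₁.det = X₀.det := by
    rw [← hyz, hX₁v, Matrix.det_fin_two]; simp; linear_combination (-y * y - z * z) * hab
  have hnsc : ∀ (Y : M2) (T : SL2), Y.det ≠ 0 → T.1 * Y = -(Y * T.1) → ¬ IsSc Y := by
    rintro Y T hd hT ⟨c, rfl⟩
    simp only [Matrix.mul_smul, Matrix.smul_mul, Matrix.mul_one, Matrix.one_mul] at hT
    have hd' := congrArg Matrix.det (show ((2 : F) * c) • T.1 = 0 by
      rw [mul_smul, two_smul]; nth_rewrite 1 [hT]; exact neg_add_cancel _)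
    rw [Matrix.det_smul, T.2, mul_one, Fintype.card_fin, Matrix.det_zero] at hd'
    have hc : (2 : F) * c = 0 := (pow_eq_zero_iff (by norm_num)).mp hd'
    refine hd ?_
    rw [(mul_eq_zero.mp hc).resolve_left h2, zero_smul, Matrix.det_zero]
  have hR1X : R.1 * X₁ = -(X₁ * R.1) := by
    rw [hX₁v, hR]
    ext i j
    fin_cases i <;> fin_cases j <;> simp [Matrix.mul_apply, Fin.sum_univ_two] <;> ring
  have hns1 : ¬ IsSc X₁ := hnsc X₁ R (hdet1 ▸ hdet) hR1X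
  obtain ⟨P, hP⟩ := exists_conj (hnsc X₀ J hdet hJ) hns1 (htr.trans htr1.symm) hdet1.symm
  obtain ⟨J', hJ'⟩ : ∃ J', J' = PSL2.conjSL P J := ⟨_, rfl⟩
  have hJ'X : J'.1 * X₁ = -(X₁ * J'.1) := by
    rw [hJ', PSL2.conjSL_val]
    calc (P : M2) * J.1 * (P⁻¹ : GL (Fin 2) F).val * X₁
        = (P : M2) * J.1 * ((P⁻¹ : GL (Fin 2) F).val * (X₁ * (P : M2))) * (P⁻¹ : GL (Fin 2) F).val := by
          simp only [Matrix.mul_assoc, Units.mul_inv, Matrix.mul_one]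
      _ = (P : M2) * (J.1 * X₀) * (P⁻¹ : GL (Fin 2) F).val := by
          rw [← hP]
          simp only [Matrix.mul_assoc]
          rw [← Matrix.mul_assoc (P⁻¹ : GL (Fin 2) F).val (P : M2), Units.inv_mul, Matrix.one_mul]
      _ = _ := by
          rw [hJ, Matrix.mul_neg, Matrix.neg_mul, ← Matrix.mul_assoc, hP]; simp only [Matrix.mul_assoc]
  obtain ⟨Q, hQ⟩ : ∃ Q : SL2, Q = R * J'⁻¹ := ⟨_, rfl⟩
  have hQJ : Q * J' = R := by rw [hQ, inv_mul_cancel_right]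
  have hQc : Q.1 * X₁ = X₁ * Q.1 := by
    have hJinv : (J'⁻¹).1 * X₁ = -(X₁ * (J'⁻¹).1) := by
      have := congrArg (fun Y => (J'⁻¹).1 * Y * (J'⁻¹).1) hJ'X
      simp only [Matrix.mul_neg, Matrix.neg_mul, ← Matrix.mul_assoc, inv_val_mul, Matrix.one_mul] at this
      rw [Matrix.mul_assoc ((J'⁻¹).1 * X₁) J'.1, mul_inv_val, Matrix.mul_one] at this
      rw [this, neg_neg]
    rw [hQ, Matrix.SpecialLinearGroup.coe_mul, Matrix.mul_assoc, hJinv, Matrix.mul_neg, ← Matrix.mul_assoc, hR1X,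
      Matrix.neg_mul, neg_neg, Matrix.mul_assoc]
  obtain ⟨x, w, hxw⟩ := exists_comb hns1 hQc
  obtain ⟨P', hP'⟩ : ∃ P' : GL (Fin 2) F, PSL2.conjP P' (PSL2.pr J') = PSL2.pr R ∧ (P' : M2) * X₁ = X₁ * P' := by
    by_cases hsc : IsSc Q.1
    · refine ⟨1, ?_, by simp⟩
      rw [map_one, MulAut.one_apply, ← hQJ, map_mul, pr_eq_one_iff.mpr hsc, one_mul]
    · have hdet2 : ((1 : M2) + Q.1).det ≠ 0 := by
        intro e
        apply hsc
        have hx : x = -1 := by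
          have h1 : Q.1.trace = 2 * x := by
            rw [hxw]; simp [comb, Matrix.trace_add, Matrix.trace_smul, htr1]; ring
          have h2' : ((1 : M2) + Q.1).det = 2 + Q.1.trace := by
            have hd := PSL2.det_two Q
            simp [Matrix.det_fin_two, Matrix.trace_fin_two] at hd ⊢
            linear_combination hd
          rw [e, h1] at h2'
          exact mul_left_cancel₀ h2 (by linear_combination -h2')
        have hd := Q.2
        rw [hxw, det_comb, Qf, htr1, hx] at hd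
        have hw : w = 0 := by
          rcases mul_eq_zero.mp (show X₁.det * (w * w) = 0 by linear_combination hd) with h | h
          · exact absurd (hdet1 ▸ h) hdet
          · exact mul_self_eq_zero.mp h
        exact ⟨x, by rw [hxw, hw]; simp [comb]⟩
      refine ⟨Matrix.GeneralLinearGroup.mkOfDetNeZero _ hdet2, ?_, ?_⟩
      · rw [PSL2.conjP_apply]
        congr 1
        apply Subtype.ext
        rw [PSL2.conjSL_val]
        have hh := hilbert hxw Q.2 (adj_eq X₁) (show J'.1 * X₁ = (X₁.trace • 1 - X₁) * J'.1 by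
          rw [htr1, zero_smul, zero_sub, Matrix.neg_mul]; exact hJ'X)
        show (1 + Q.1) * J'.1 * _ = R.1
        have hu : (1 + Q.1) * ((Matrix.GeneralLinearGroup.mkOfDetNeZero _ hdet2)⁻¹ : GL (Fin 2) F).val = 1 :=
          Units.mul_inv (Matrix.GeneralLinearGroup.mkOfDetNeZero _ hdet2)
        rw [hh, Matrix.mul_assoc, hu, Matrix.mul_one, ← Matrix.SpecialLinearGroup.coe_mul, hQJ]
      · show (1 + Q.1) * X₁ = X₁ * (1 + Q.1)
        rw [Matrix.add_mul, Matrix.mul_add, Matrix.one_mul, Matrix.mul_one, hQc]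
  obtain ⟨hP'J, hP'X⟩ := hP'
  obtain ⟨H₁, hH₁⟩ : ∃ H₁, H₁ = H.map ((PSL2.conjP P).trans (PSL2.conjP P')).toMonoidHom := ⟨_, rfl⟩
  have hb1 : IsBin H₁ := hH₁ ▸ hbin.map _
  have hR1 : PSL2.pr R ∈ H₁ := hH₁ ▸ ⟨_, hJH, by
    show PSL2.conjP P' (PSL2.conjP P (PSL2.pr J)) = _
    rw [PSL2.conjP_apply P, ← hJ', hP'J]⟩
  have hax1 : Axis X₁ H₁ := by
    intro S hS
    rw [hH₁] at hS
    obtain ⟨u, hu, hue⟩ := hS
    obtain ⟨T, rfl⟩ := PSL2.pr_surjective u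
    obtain ⟨e, he, hTX⟩ := hax T hu
    have hST : PSL2.pr S = PSL2.pr (PSL2.conjSL (P' * P) T) := by
      rw [← hue, ← PSL2.conjP_apply, map_mul]; rfl
    obtain ⟨ε, hε, hSv⟩ := (PSL2.pr_eq_iff _ _).mp hST
    refine ⟨e, he, ?_⟩
    have hPX : ((P' * P : GL (Fin 2) F) : M2) * X₀ = X₁ * ((P' * P : GL (Fin 2) F) : M2) := by
      rw [Units.val_mul, Matrix.mul_assoc, hP, ← Matrix.mul_assoc, hP'X, Matrix.mul_assoc]
    generalize P' * P = G at hSv hPX
    rw [hSv, PSL2.conjSL_val]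
    have hi : (G⁻¹ : GL (Fin 2) F).val * X₁ = X₀ * (G⁻¹ : GL (Fin 2) F).val := by
      have := congrArg (fun Y => (G⁻¹ : GL (Fin 2) F).val * Y * (G⁻¹ : GL (Fin 2) F).val) hPX
      simp only [← Matrix.mul_assoc, Units.inv_mul, Matrix.one_mul] at this
      rw [this]; simp [Matrix.mul_assoc]
    calc (ε • ((G : M2) * T.1 * (G⁻¹ : GL (Fin 2) F).val)) * X₁
        = ε • ((G : M2) * (T.1 * X₀) * (G⁻¹ : GL (Fin 2) F).val) := by
          rw [Matrix.smul_mul, Matrix.mul_assoc, hi]; simp only [Matrix.mul_assoc]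
      _ = ε • (e • (((G : M2) * X₀) * T.1 * (G⁻¹ : GL (Fin 2) F).val)) := by
          rw [hTX, Matrix.mul_smul, Matrix.smul_mul]; simp only [Matrix.mul_assoc]
      _ = _ := by
          rw [hPX, smul_comm, Matrix.mul_smul]; simp only [Matrix.mul_assoc]
  -- the triangle
  obtain ⟨s, hsA, hsB, hsC⟩ := hb1.triple (u := 1) (v := PSL2.pr τ) (w := PSL2.pr (τ * τ)) (a := PSL2.pr R)
    (b := PSL2.pr R') trivial trivial trivial (by simpa using hR1)
    (by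
      rw [pr_conj, show τ⁻¹ * R' * τ = R from ?_]
      · exact hR1
      rw [mul_assoc, inv_mul_eq_iff_eq_mul]
      apply Subtype.ext
      ext i j
      fin_cases i <;> fin_cases j <;> simp [hR, hR', hτ, Matrix.mul_apply, Matrix.vecMul, dotProduct, Fin.sum_univ_two] <;>
        field_simp <;> grind)
    (by
      rw [← map_inv PSL2.pr R', ← map_mul, pr_conj, show PSL2.pr ((τ * τ)⁻¹ * (R'⁻¹ * R) * (τ * τ)) = PSL2.pr R from ?_]
      · exact hR1
      congr 1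
      rw [mul_assoc, inv_mul_eq_iff_eq_mul, mul_assoc, inv_mul_eq_iff_eq_mul]
      apply Subtype.ext
      ext i j
      fin_cases i <;> fin_cases j <;> simp [hR, hR', hτ, Matrix.mul_apply, Matrix.vecMul, dotProduct, Fin.sum_univ_two] <;>
        field_simp <;> grind)
  obtain ⟨S, rfl⟩ := PSL2.pr_surjective s
  rw [inv_one, one_mul, mul_one] at hsA
  rw [pr_conj] at hsB
  rw [← map_inv PSL2.pr S, ← map_mul, pr_conj] at hsC
  obtain ⟨e₁, he₁, h1⟩ := axis_conj hax1 (U := 1) (S := S) (by simpa using hsA)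
  obtain ⟨e₂, he₂, h2'⟩ := axis_conj hax1 hsB
  obtain ⟨e₃, he₃, h3⟩ := axis_conj hax1 hsC
  simp only [Matrix.SpecialLinearGroup.coe_one, inv_one, Matrix.one_mul, Matrix.mul_one] at h1
  obtain ⟨X₂, hX₂⟩ : ∃ X₂, X₂ = τ.1 * X₁ * (τ⁻¹).1 := ⟨_, rfl⟩
  obtain ⟨X₃, hX₃⟩ : ∃ X₃, X₃ = (τ * τ).1 * X₁ * ((τ * τ)⁻¹).1 := ⟨_, rfl⟩
  rw [← hX₂] at h2'
  rw [← hX₃] at h3
  have hX₂v : X₂ = z • R.1 + y • (R.1 * R'.1) := by
    rw [hX₂, hX₁v, hR, hR', Matrix.SpecialLinearGroup.coe_inv, hτ]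
    ext i j
    fin_cases i <;> fin_cases j <;> simp [Matrix.adjugate_fin_two, Matrix.mul_apply, Matrix.vecMul, dotProduct, Fin.sum_univ_two] <;>
      field_simp <;> grind
  have hX₃v : X₃ = y • R.1 + z • R'.1 := by
    rw [hX₃, Matrix.SpecialLinearGroup.coe_mul, mul_inv_rev, Matrix.SpecialLinearGroup.coe_mul,
      show τ.1 * τ.1 * X₁ * ((τ⁻¹).1 * (τ⁻¹).1) = τ.1 * (τ.1 * X₁ * (τ⁻¹).1) * (τ⁻¹).1 by
        simp only [Matrix.mul_assoc], ← hX₂, hX₂v, hR, hR', Matrix.SpecialLinearGroup.coe_inv, hτ]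
    ext i j
    fin_cases i <;> fin_cases j <;> simp [Matrix.adjugate_fin_two, Matrix.mul_apply, Matrix.vecMul, dotProduct, Fin.sum_univ_two] <;>
      field_simp <;> grind
  -- the image of `X₃` under `R`
  obtain ⟨Y, hY⟩ : ∃ Y, Y = R.1 * X₃ * (R⁻¹).1 := ⟨_, rfl⟩
  have h3' : S.1 * X₃ * (S⁻¹).1 = e₃ • Y := by
    have := congrArg (fun Z => e₃ • (S.1 * Z * (S⁻¹).1)) h3
    simp only [Matrix.mul_smul, Matrix.smul_mul, smul_smul, he₃, one_smul, Matrix.SpecialLinearGroup.coe_mul,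
      mul_inv_rev, inv_inv] at this
    rw [← this, hY]
    congr 1
    simp only [← Matrix.mul_assoc, mul_inv_val, Matrix.one_mul]
    rw [Matrix.mul_assoc (R.1 * X₃ * (R⁻¹).1) S.1, mul_inv_val, Matrix.mul_one]
  have pair : ∀ A B : M2, ((S.1 * A * (S⁻¹).1) * (S.1 * B * (S⁻¹).1)).trace = (A * B).trace := fun A B => by
    rw [show (S.1 * A * (S⁻¹).1) * (S.1 * B * (S⁻¹).1) = S.1 * (A * ((S⁻¹).1 * S.1) * B) * (S⁻¹).1 by
      simp only [Matrix.mul_assoc], inv_val_mul, Matrix.mul_one, trace_conjSL]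
  have p12 := pair X₁ X₂
  have p13 := pair X₁ X₃
  have p23 := pair X₂ X₃
  simp only [h1, h2', h3', Matrix.smul_mul, Matrix.mul_smul, Matrix.trace_smul, smul_eq_mul] at p12 p13 p23
  have hYv : Y = y • R.1 - z • R'.1 := by
    rw [hY, hX₃v, Matrix.SpecialLinearGroup.coe_inv, hR, hR']
    ext i j
    fin_cases i <;> fin_cases j <;> simp [Matrix.adjugate_fin_two, Matrix.mul_apply, Matrix.vecMul, dotProduct, Fin.sum_univ_two] <;> ring
  rw [hX₁v, hX₂v, hR, hR'] at p12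
  rw [hX₁v, hX₃v, hYv, hR, hR'] at p13
  rw [hX₂v, hX₃v, hYv, hR, hR'] at p23
  simp [Matrix.trace_fin_two, Matrix.mul_apply, Matrix.vecMul, dotProduct, Fin.sum_univ_two] at p12 p13 p23
  have hyz0 : (2 : F) * (y * z) ≠ 0 := mul_ne_zero h2 (mul_ne_zero hy hz)
  have k12 : e₁ * e₂ = 1 := mul_left_cancel₀ hyz0 (by grind)
  have k13 : e₁ * e₃ = -1 := mul_left_cancel₀ hyz0 (by grind)
  have k23 : e₂ * e₃ = 1 := mul_left_cancel₀ hyz0 (by grind)
  obtain rfl : e₂ = e₁ := by linear_combination e₁ * k12 - e₂ * he₁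
  exact h2 (by linear_combination k13 - k23)

/-- A reflection group with axis in characteristic two. -/
theorem axis₁_not_bin (h2 : (2 : F) = 0) (h4 : 4 ≤ Fintype.card F) {H : Subgroup P2} {A₀ J : SL2}
    (ht : A₀.1.trace ≠ 0) (hax : Axis₁ (A₀.1.trace⁻¹ • A₀.1) H) (hJH : PSL2.pr J ∈ H)
    (hJ : J.1 * (A₀.1.trace⁻¹ • A₀.1) = (A₀.1.trace⁻¹ • A₀.1 + 1) * J.1) : ¬ IsBin H := by
  intro hbin
  obtain ⟨t, htt⟩ : ∃ t, t = A₀.1.trace := ⟨_, rfl⟩
  rw [← htt] at hax hJ ht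
  obtain ⟨o, ho0, ho1⟩ : ∃ o : F, o ≠ 0 ∧ o ≠ 1 := by
    obtain ⟨a, ha, ha2⟩ := exists_sq_ne_one h4
    exact ⟨a, ha, fun e => ha2 (by rw [e, mul_one])⟩
  have ho2 : (1 : F) + o ≠ 0 := fun e => ho1 (by linear_combination e - h2)
  obtain ⟨d, hd⟩ : ∃ d, d = (t⁻¹) ^ 2 := ⟨_, rfl⟩
  have htq : t * t ≠ 4 := fun e => ht (mul_self_eq_zero.mp (by linear_combination e + 2 * h2))
  have key : ∀ a : F, a ≠ 0 → ∃ U : SL2, PSL2.pr (U⁻¹ * PSL2.uS a * U) ∈ H ∧
      U.1 * (t⁻¹ • A₀.1) * (U⁻¹).1 = !![0, a * d; a⁻¹, 1] := by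
    intro a ha
    obtain ⟨W, hW⟩ : ∃ W : M2, W = !![0, a * d; a⁻¹, 1] := ⟨_, rfl⟩
    rw [← hW]
    obtain ⟨B, hB⟩ : ∃ B : SL2, B.1 = t • W := ⟨⟨_, by
      rw [Matrix.det_smul, Fintype.card_fin, hW, Matrix.det_fin_two, hd]
      simp
      field_simp
      linear_combination -h2⟩, rfl⟩
    obtain ⟨U₀, hU₀⟩ := isConj_iff.mp (isConj_of_trace (not_isSc_of_trace (g := A₀) (by rw [← htt]; exact htq))
      (show ¬ IsSc B.1 from not_isSc_of_10 (by rw [hB, hW]; simp [ht, ha]))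
      (by rw [← htt, hB, Matrix.trace_smul, hW]; simp [Matrix.trace_fin_two]) (Or.inl h2))
    have hUW : ∀ U : SL2, U * A₀ * U⁻¹ = B → U.1 * (t⁻¹ • A₀.1) * (U⁻¹).1 = W := fun U hU => by
      rw [Matrix.mul_smul, Matrix.smul_mul, ← Matrix.SpecialLinearGroup.coe_mul, ← Matrix.SpecialLinearGroup.coe_mul,
        hU, hB, smul_smul, inv_mul_cancel₀ ht, one_smul]
    obtain ⟨J', hJ'⟩ : ∃ J', J' = U₀ * J * U₀⁻¹ := ⟨_, rfl⟩
    have hJ'W : J'.1 * W = (W + 1) * J'.1 := by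
      rw [← hUW U₀ hU₀, hJ']
      simp only [Matrix.SpecialLinearGroup.coe_mul]
      calc U₀.1 * J.1 * (U₀⁻¹).1 * (U₀.1 * (t⁻¹ • A₀.1) * (U₀⁻¹).1)
          = U₀.1 * (J.1 * ((U₀⁻¹).1 * U₀.1) * (t⁻¹ • A₀.1)) * (U₀⁻¹).1 := by simp only [Matrix.mul_assoc]
        _ = U₀.1 * (t⁻¹ • A₀.1 + 1) * J.1 * (U₀⁻¹).1 := by
            rw [inv_val_mul, Matrix.mul_one, hJ]; simp only [Matrix.mul_assoc]
        _ = _ := by
            rw [show U₀.1 * (t⁻¹ • A₀.1) * (U₀⁻¹).1 + 1 = U₀.1 * (t⁻¹ • A₀.1 + 1) * (U₀⁻¹).1 by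
              rw [Matrix.mul_add, Matrix.add_mul, Matrix.mul_one, mul_inv_val]]
            simp only [← Matrix.mul_assoc]
            rw [Matrix.mul_assoc _ (U₀⁻¹).1 U₀.1, inv_val_mul, Matrix.mul_one]
    obtain ⟨Q, hQ⟩ : ∃ Q : SL2, Q = PSL2.uS a * J'⁻¹ := ⟨_, rfl⟩
    have hQJ : Q * J' = PSL2.uS a := by rw [hQ, inv_mul_cancel_right]
    have huW : (PSL2.uS a).1 * W = (W + 1) * (PSL2.uS a).1 := by
      rw [hW]
      ext i j
      fin_cases i <;> fin_cases j <;> simp [Matrix.mul_apply, Fin.sum_univ_two, ha] <;> grind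
    have hW11 : W + 1 + 1 = W := by
      rw [add_assoc, show (1 : M2) + 1 = 0 by
        ext i j
        fin_cases i <;> fin_cases j <;> simp <;> linear_combination h2, add_zero]
    have hQc : Q.1 * W = W * Q.1 := by
      have hJinv : (J'⁻¹).1 * W = (W + 1) * (J'⁻¹).1 := by
        have h' : J'.1 * (W + 1) = W * J'.1 := by
          rw [Matrix.mul_add, hJ'W, Matrix.mul_one]
          nth_rewrite 2 [← hW11]
          rw [Matrix.add_mul (W + 1) 1, Matrix.one_mul]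
        calc (J'⁻¹).1 * W = (J'⁻¹).1 * (W * J'.1) * (J'⁻¹).1 := by
              simp only [Matrix.mul_assoc, mul_inv_val, Matrix.mul_one]
          _ = _ := by rw [← h', ← Matrix.mul_assoc, inv_val_mul, Matrix.one_mul]
      rw [hQ, Matrix.SpecialLinearGroup.coe_mul, Matrix.mul_assoc, hJinv, ← Matrix.mul_assoc,
        Matrix.mul_add, huW, Matrix.mul_one, Matrix.add_mul, ← Matrix.mul_assoc W]
      have hz : ∀ Y : M2, Y + Y = 0 := fun Y => by
        ext i j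
        simp only [Matrix.add_apply, Matrix.zero_apply]
        linear_combination Y i j * h2
      simp only [Matrix.add_mul, Matrix.one_mul, add_assoc, hz, add_zero, Matrix.mul_assoc]
    have hWns : ¬ IsSc W := not_isSc_of_10 (by rw [hW]; simp [ha])
    obtain ⟨x, w, hxw⟩ := exists_comb hWns hQc
    by_cases hsc : IsSc Q.1
    · refine ⟨U₀, ?_, hUW U₀ hU₀⟩
      rw [← hQJ, hJ', show U₀⁻¹ * (Q * (U₀ * J * U₀⁻¹)) * U₀ = (U₀⁻¹ * Q * U₀) * J by group, map_mul,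
        show PSL2.pr (U₀⁻¹ * Q * U₀) = 1 by
          rw [map_mul, map_mul, pr_eq_one_iff.mpr hsc, mul_one, ← map_mul, inv_mul_cancel, map_one], one_mul]
      exact hJH
    · have hTr : Q.1.trace ≠ 0 := by
        intro e
        apply hsc
        have h1 : Q.1.trace = 2 * x + w * W.trace := by
          rw [hxw]; simp [comb, Matrix.trace_add, Matrix.trace_smul]; ring
        have hWt : W.trace = 1 := by rw [hW]; simp [Matrix.trace_fin_two]
        have hw : w = 0 := by rw [hWt] at h1; linear_combination -h1 + e - x * h2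
        exact ⟨x, by rw [hxw, hw]; simp [comb]⟩
      obtain ⟨r, hr⟩ := isSquare_of_two h2 Q.1.trace
      have hr0 : r ≠ 0 := fun e => hTr (by rw [← hr, e, mul_zero])
      obtain ⟨P, hP⟩ : ∃ P : SL2, P.1 = r⁻¹ • (1 + Q.1) := ⟨⟨_, by
        rw [Matrix.det_smul, Fintype.card_fin]
        have hd' := PSL2.det_two Q
        simp [Matrix.det_fin_two, Matrix.trace_fin_two] at hd' hr ⊢
        field_simp
        linear_combination hd' - hr + h2⟩, rfl⟩
      have hPJ : P * J' = PSL2.uS a * P := by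
        apply Subtype.ext
        have hh := hilbert hxw Q.2 (adj_eq W) (show J'.1 * W = (W.trace • 1 - W) * J'.1 by
          rw [hJ'W]
          congr 1
          rw [hW]
          ext i j
          fin_cases i <;> fin_cases j <;> simp [Matrix.trace_fin_two] <;> grind)
        simp only [Matrix.SpecialLinearGroup.coe_mul, hP, Matrix.smul_mul, Matrix.mul_smul, hh, ← hQJ]
      have hPW : P.1 * W = W * P.1 := by
        rw [hP, Matrix.smul_mul, Matrix.mul_smul, Matrix.add_mul, Matrix.mul_add, Matrix.one_mul, Matrix.mul_one, hQc]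
      refine ⟨P * U₀, ?_, ?_⟩
      · rw [show (P * U₀)⁻¹ * PSL2.uS a * (P * U₀) = U₀⁻¹ * (P⁻¹ * (PSL2.uS a * P)) * U₀ by group, ← hPJ,
          inv_mul_cancel_left, hJ']
        rw [show U₀⁻¹ * (U₀ * J * U₀⁻¹) * U₀ = J by group]
        exact hJH
      · rw [Matrix.SpecialLinearGroup.coe_mul, mul_inv_rev, Matrix.SpecialLinearGroup.coe_mul]
        calc P.1 * U₀.1 * (t⁻¹ • A₀.1) * ((U₀⁻¹).1 * (P⁻¹).1)
            = P.1 * (U₀.1 * (t⁻¹ • A₀.1) * (U₀⁻¹).1) * (P⁻¹).1 := by simp only [Matrix.mul_assoc]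
          _ = _ := by rw [hUW U₀ hU₀, hPW, Matrix.mul_assoc, mul_inv_val, Matrix.mul_one]
  obtain ⟨U₁, hU₁H, hU₁W⟩ := key 1 one_ne_zero
  obtain ⟨U₂, hU₂H, hU₂W⟩ := key o ho0
  obtain ⟨U₃, hU₃H, hU₃W⟩ := key (1 + o) ho2
  obtain ⟨s, hsA, hsB, hsC⟩ := hbin.triple (u := PSL2.pr U₁) (v := PSL2.pr U₂) (w := PSL2.pr U₃)
    (a := PSL2.pr (PSL2.uS 1)) (b := PSL2.pr (PSL2.uS o)) trivial trivial trivial
    (by rw [pr_conj]; exact hU₁H) (by rw [pr_conj]; exact hU₂H)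
    (by
      rw [← map_inv PSL2.pr (PSL2.uS o), ← map_mul, pr_conj, show (PSL2.uS o)⁻¹ * PSL2.uS (1 : F) = PSL2.uS (1 + o) from ?_]
      · exact hU₃H
      rw [inv_mul_eq_iff_eq_mul, ← PSL2.uS_add]
      congr 1
      linear_combination -o * h2)
  obtain ⟨S, rfl⟩ := PSL2.pr_surjective s
  rw [pr_conj] at hsA hsB
  rw [← map_inv PSL2.pr S, ← map_mul, pr_conj] at hsC
  obtain ⟨e₁, he₁, h1⟩ := axis₁_conj hax hsA
  obtain ⟨e₂, he₂, h2'⟩ := axis₁_conj hax hsB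
  obtain ⟨e₃, he₃, h3⟩ := axis₁_conj hax hsC
  rw [hU₁W] at h1
  rw [hU₂W] at h2'
  rw [hU₃W] at h3
  obtain ⟨W₁, hW₁⟩ : ∃ W, W = !![0, 1 * d; (1 : F)⁻¹, 1] := ⟨_, rfl⟩
  obtain ⟨W₂, hW₂⟩ : ∃ W, W = !![0, o * d; o⁻¹, 1] := ⟨_, rfl⟩
  obtain ⟨W₃, hW₃⟩ : ∃ W, W = !![0, (1 + o) * d; (1 + o)⁻¹, 1] := ⟨_, rfl⟩
  rw [← hW₁] at h1
  rw [← hW₂] at h2'
  rw [← hW₃] at h3
  obtain ⟨Y, hY⟩ : ∃ Y, Y = (PSL2.uS (1 : F)).1 * W₃ * ((PSL2.uS (1 : F))⁻¹).1 := ⟨_, rfl⟩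
  have h3' : Y = S.1 * W₃ * (S⁻¹).1 + e₃ • 1 := by
    have := congrArg (fun Z => S.1 * Z * (S⁻¹).1) h3
    simp only [Matrix.SpecialLinearGroup.coe_mul, mul_inv_rev, inv_inv, Matrix.mul_add, Matrix.add_mul,
      Matrix.mul_smul, Matrix.smul_mul, Matrix.mul_one, mul_inv_val] at this
    rw [← this, hY]
    simp only [← Matrix.mul_assoc, mul_inv_val, Matrix.one_mul]
    rw [Matrix.mul_assoc ((PSL2.uS (1 : F)).1 * W₃ * ((PSL2.uS (1 : F))⁻¹).1) S.1, mul_inv_val, Matrix.mul_one]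
  have pair : ∀ A B : M2, ((S.1 * A * (S⁻¹).1) * (S.1 * B * (S⁻¹).1)).trace = (A * B).trace := fun A B => by
    rw [show (S.1 * A * (S⁻¹).1) * (S.1 * B * (S⁻¹).1) = S.1 * (A * ((S⁻¹).1 * S.1) * B) * (S⁻¹).1 by
      simp only [Matrix.mul_assoc], inv_val_mul, Matrix.mul_one, trace_conjSL]
  have hS3 : S.1 * W₃ * (S⁻¹).1 = Y - e₃ • 1 := by rw [h3', add_sub_cancel_right]
  have p12 := pair W₁ W₂
  have p13 := pair W₁ W₃
  have p23 := pair W₂ W₃
  rw [h1, h2'] at p12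
  rw [h1, hS3] at p13
  rw [h2', hS3] at p23
  rw [hY, Matrix.SpecialLinearGroup.coe_inv] at p13 p23
  rw [hW₁, hW₂] at p12
  rw [hW₁, hW₃] at p13
  rw [hW₂, hW₃] at p23
  simp [Matrix.trace_fin_two, Matrix.adjugate_fin_two, Matrix.mul_apply, Matrix.vecMul, dotProduct, Fin.sum_univ_two] at p12 p13 p23
  have k12 : e₁ = e₂ := by grind
  have k13 : e₃ = 1 + e₁ := by grind
  have k23 : e₃ = e₂ := by grind
  exact one_ne_zero (by linear_combination k23 - k13 - k12 : (1 : F) = 0)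

end Cfsg.Agent.Classical.Binary
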