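import Cfsg.Agent.Lib.Classical.Binary.Dihedral

/-!
# Cyclic and dihedral subgroups of semisimple type
-/

set_option autoImplicit false
set_option maxHeartbeats 800000

namespace Cfsg.Agent.Classical.Binary

open Cfsg.Agent.Small Cfsg.Agent.Small.SL2C Cfsg.Agent.Classical.Dickson

variable {F : Type*} [Field F] [Fintype F]

local notation "SL2" => Matrix.SpecialLinearGroup (Fin 2) F
local notation "P2" => Matrix.ProjectiveSpecialLinearGroup (Fin 2) F
local notation "M2" => Matrix (Fin 2) (Fin 2) F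

/-- An element of order prime to the characteristic is semisimple. -/
theorem semisimple_of_order {A : SL2} {k : ℕ} (hk : orderOf (PSL2.pr A) = k) (h2k : 2 ≤ k)
    (hdvd : k ∣ (Fintype.card F - 1) / Nat.gcd 2 (Fintype.card F - 1) ∨
      k ∣ (Fintype.card F + 1) / Nat.gcd 2 (Fintype.card F - 1)) :
    A.1.trace * A.1.trace ≠ 4 := by
  intro ht
  have hns : ¬ IsSc A.1 := fun h => by
    rw [pr_eq_one_iff.mpr h, orderOf_one] at hk
    omega
  obtain ⟨p, hp⟩ := CharP.exists F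
  haveI hpp : Fact p.Prime := ⟨CharP.char_is_prime F p⟩
  obtain ⟨n, -, hn⟩ := FiniteField.card F p
  obtain ⟨x, hx, hc⟩ := exists_pr_uS hns ht
  obtain ⟨c, hc⟩ := isConj_iff.mp hc
  have hpow := pr_uS_pow p x
  rw [← hc, conj_pow] at hpow
  have hkp : k ∣ p := hk ▸ orderOf_dvd_of_pow_eq_one (conj_eq_one_iff.mp hpow)
  obtain rfl : k = p := ((Nat.dvd_prime hpp.out).mp hkp).resolve_left (by omega)
  have hq : k ∣ Fintype.card F := by rw [hn]; exact dvd_pow_self k n.ne_zero
  have h1 : 1 ≤ Fintype.card F := Fintype.card_pos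
  rcases hdvd with h | h
  · have h' : k ∣ Fintype.card F - 1 := h.trans (Nat.div_dvd_of_dvd (Nat.gcd_dvd_right _ _))
    exact hpp.out.not_dvd_one (by
      have := Nat.dvd_sub hq h'
      rwa [show Fintype.card F - (Fintype.card F - 1) = 1 by omega] at this)
  · have hg : Nat.gcd 2 (Fintype.card F - 1) ∣ Fintype.card F + 1 := by
      rw [show Fintype.card F + 1 = (Fintype.card F - 1) + 2 by omega]
      exact dvd_add (Nat.gcd_dvd_right _ _) (Nat.gcd_dvd_left _ _)
    exact hpp.out.not_dvd_one ((Nat.dvd_add_right hq).mp (h.trans (Nat.div_dvd_of_dvd hg)))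

theorem order_three_of_trace_one (h2 : (2 : F) = 0) {A : SL2} (ht : A.1.trace * A.1.trace = 1) :
    PSL2.pr A ^ 3 = 1 := by
  have h1 : A.1.trace = 1 := by
    have : (A.1.trace - 1) * (A.1.trace - 1) = 0 := by linear_combination ht + (1 - A.1.trace) * h2
    exact sub_eq_zero.mp (mul_self_eq_zero.mp this)
  have hsq := sq_eq A
  rw [h1, one_smul] at hsq
  rw [← map_pow, pr_eq_one_iff]
  refine ⟨1, ?_⟩
  rw [Matrix.SpecialLinearGroup.coe_pow, pow_succ, pow_two, hsq, Matrix.sub_mul, hsq, Matrix.one_mul, one_smul]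
  ext i j
  simp only [Matrix.sub_apply]
  linear_combination -((1 : M2) i j) * h2

/-- Non-trivial cyclic subgroups are binary only for order three, `q = 2^a`, `a` odd. -/
theorem cyclic_cases {H : Subgroup P2} (hc : IsCyclic H) {k : ℕ} (hcard : Nat.card H = k) (h2k : 2 ≤ k)
    (hdvd : k ∣ (Fintype.card F - 1) / Nat.gcd 2 (Fintype.card F - 1) ∨
      k ∣ (Fintype.card F + 1) / Nat.gcd 2 (Fintype.card F - 1)) (hbin : IsBin H) :
    (2 : F) = 0 ∧ k = 3 ∧ ¬ 3 ∣ Fintype.card F - 1 := by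
  obtain ⟨g, hg⟩ := (Subgroup.isCyclic_iff_exists_zpowers_eq_top H).mp hc
  obtain ⟨A, rfl⟩ := PSL2.pr_surjective g
  have hord : orderOf (PSL2.pr A) = k := by rw [← Nat.card_zpowers, hg, hcard]
  have ht := semisimple_of_order hord h2k hdvd
  have hbad : (2 : F) = 0 ∧ A.1.trace * A.1.trace = 1 := by
    by_contra hne
    refine cyclic_not_bin ht ?_ (hg ▸ hbin)
    by_cases h2 : (2 : F) = 0
    · exact Or.inr fun h => hne ⟨h2, h⟩
    · exact Or.inl h2
  obtain ⟨h2, ht1⟩ := hbad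
  have hk3 : k = 3 := ((Nat.dvd_prime Nat.prime_three).mp
    (hord ▸ orderOf_dvd_of_pow_eq_one (order_three_of_trace_one h2 ht1))).resolve_left (by omega)
  refine ⟨h2, hk3, fun h3 => ?_⟩
  haveI : Fact (Nat.Prime 3) := ⟨Nat.prime_three⟩
  classical
  obtain ⟨ω, hω⟩ := exists_prime_orderOf_dvd_card (G := Fˣ) 3 (by rwa [Fintype.card_units])
  have hω3 : (ω : F) ^ 3 = 1 := by
    rw [← Units.val_pow_eq_pow_val, ← hω, pow_orderOf_eq_one, Units.val_one]
  have hω1 : (ω : F) - 1 ≠ 0 := sub_ne_zero.mpr fun e => by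
    rw [Units.val_eq_one.mp e, orderOf_one] at hω
    omega
  have hwsum : (ω : F) * ω + ω + 1 = 0 :=
    mul_left_cancel₀ hω1 (by linear_combination hω3)
  have h1 : A.1.trace = 1 := by
    have : (A.1.trace - 1) * (A.1.trace - 1) = 0 := by linear_combination ht1 + (1 - A.1.trace) * h2
    exact sub_eq_zero.mp (mul_self_eq_zero.mp this)
  obtain ⟨A', hA'⟩ : ∃ A' : SL2, A'.1 = !![(ω : F), 0; 0, (ω : F) * ω] :=
    ⟨⟨_, by rw [Matrix.det_fin_two]; simp; linear_combination hω3⟩, rfl⟩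
  obtain ⟨B', hB'⟩ : ∃ B' : SL2, B'.1 = !![(ω : F) * ω, 1; 0, ω] :=
    ⟨⟨_, by rw [Matrix.det_fin_two]; simp; linear_combination hω3⟩, rfl⟩
  refine cyclic_core (A := A') (B := B') (ε := 1) (one_mul 1) ht ?_ ?_ ?_ ?_ (hg ▸ hbin)
  · rw [h1, hA', Matrix.trace_fin_two]; simp; linear_combination hwsum - h2
  · rw [h1, hB', Matrix.trace_fin_two]; simp; linear_combination hwsum - h2
  · rw [h1, Matrix.SpecialLinearGroup.coe_mul, Matrix.SpecialLinearGroup.coe_inv, hA', hB', Matrix.adjugate_fin_two, Matrix.trace_fin_two]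
    simp [Matrix.mul_apply, Matrix.vecMul, dotProduct, Fin.sum_univ_two]
    linear_combination (ω : F) * hω3 + hwsum - h2
  · intro h
    have h01 := congrFun (congrFun (commute_val.mp h) 0) 1
    rw [hA', hB'] at h01
    simp [Matrix.mul_apply, Fin.sum_univ_two] at h01
    exact hω1 (by
      have hne := ω.ne_zero
      simp [h01])

/-- Dihedral subgroups of semisimple type are not binary. -/
theorem dihedral_not_bin (h5 : 4 ≤ Fintype.card F) (h5' : Fintype.card F ≠ 5) {H : Subgroup P2} {k : ℕ}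
    (h2k : 2 ≤ k) (f : H ≃* DihedralGroup k)
    (hdvd : k ∣ (Fintype.card F - 1) / Nat.gcd 2 (Fintype.card F - 1) ∨
      k ∣ (Fintype.card F + 1) / Nat.gcd 2 (Fintype.card F - 1)) : ¬ IsBin H := by
  haveI : NeZero k := ⟨by omega⟩
  obtain ⟨A₀, hA⟩ := PSL2.pr_surjective ((f.symm (DihedralGroup.r 1) : H) : P2)
  obtain ⟨J, hJ⟩ := PSL2.pr_surjective ((f.symm (DihedralGroup.sr 0) : H) : P2)
  have hJH : PSL2.pr J ∈ H := hJ ▸ Subtype.mem _
  have hord : orderOf (PSL2.pr A₀) = k := by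
    rw [hA, Subgroup.orderOf_coe, f.symm.orderOf_eq, DihedralGroup.orderOf_r_one]
  have ht := semisimple_of_order hord h2k hdvd
  have hns := not_isSc_of_trace ht
  have hJns : ¬ IsSc J.1 := fun h => by
    have h' : (f.symm (DihedralGroup.sr 0) : H) = 1 := Subtype.ext (hJ.symm.trans (pr_eq_one_iff.mpr h))
    have := congrArg f h'
    rw [f.apply_symm_apply, map_one, DihedralGroup.one_def] at this
    cases this
  have hJtr : J.1.trace = 0 := by
    have h1 : PSL2.pr (J * J) = 1 := by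
      rw [map_mul, hJ, ← Subgroup.coe_mul, ← map_mul, DihedralGroup.sr_mul_sr, sub_zero, ← DihedralGroup.one_def,
        map_one, Subgroup.coe_one]
    obtain ⟨c, hc⟩ := pr_eq_one_iff.mp h1
    by_contra hne
    refine hJns ⟨J.1.trace⁻¹ * (c + 1), ?_⟩
    rw [Matrix.SpecialLinearGroup.coe_mul, sq_eq, sub_eq_iff_eq_add] at hc
    nth_rewrite 2 [← one_smul F (1 : M2)] at hc
    rw [← add_smul] at hc
    rw [mul_smul, ← hc, smul_smul, inv_mul_cancel₀ hne, one_smul]
  have hrel : PSL2.pr (J * A₀ * J⁻¹) = PSL2.pr A₀⁻¹ := by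
    rw [map_mul, map_mul, map_inv, map_inv, hA, hJ, ← Subgroup.coe_inv, ← Subgroup.coe_inv, ← Subgroup.coe_mul,
      ← Subgroup.coe_mul, ← map_inv, ← map_inv, ← map_mul, ← map_mul,
      inv_eq_of_mul_eq_one_right (show DihedralGroup.sr (0 : ZMod k) * DihedralGroup.sr 0 = 1 by
        rw [DihedralGroup.sr_mul_sr, sub_zero, DihedralGroup.one_def]),
      DihedralGroup.sr_mul_r, DihedralGroup.sr_mul_sr, DihedralGroup.inv_r]
    simp
  obtain ⟨ε, hε, hJA⟩ := (PSL2.pr_eq_iff _ _).mp hrel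
  have hJA' : J.1 * A₀.1 = ε • ((A₀.1.trace • 1 - A₀.1) * J.1) := by
    rw [← adj_eq, ← Matrix.SpecialLinearGroup.coe_inv, ← Matrix.smul_mul, ← hJA, Matrix.SpecialLinearGroup.coe_mul,
      Matrix.mul_assoc, inv_val_mul, Matrix.mul_one, Matrix.SpecialLinearGroup.coe_mul]
  have helts : ∀ S : SL2, PSL2.pr S ∈ H → (∃ (n : ℕ) (δ : F), δ * δ = 1 ∧ S.1 = δ • (A₀ ^ n).1) ∨
      ∃ (n : ℕ) (δ : F), δ * δ = 1 ∧ S.1 = δ • (J * A₀ ^ n).1 := by
    intro S hS
    have hr : ∀ i : ZMod k, ((f.symm (DihedralGroup.r i) : H) : P2) = PSL2.pr (A₀ ^ i.val) := fun i => by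
      rw [map_pow, hA, ← Subgroup.coe_pow, ← map_pow, DihedralGroup.r_one_pow, ZMod.natCast_zmod_val]
    have hS' : PSL2.pr S = ((f.symm (f ⟨_, hS⟩) : H) : P2) := by rw [f.symm_apply_apply]
    revert hS'
    rcases f ⟨_, hS⟩ with i | i <;> intro hS'
    · obtain ⟨δ, hδ, h⟩ := (PSL2.pr_eq_iff _ _).mp (hS'.trans (hr i))
      exact Or.inl ⟨_, δ, hδ, h⟩
    · have : PSL2.pr S = PSL2.pr (J * A₀ ^ i.val) := by
        rw [hS', map_mul, hJ, ← hr, ← Subgroup.coe_mul, ← map_mul, DihedralGroup.sr_mul_r, zero_add]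
      obtain ⟨δ, hδ, h⟩ := (PSL2.pr_eq_iff _ _).mp this
      exact Or.inr ⟨_, δ, hδ, h⟩
  have hpow : ∀ n : ℕ, (A₀ ^ n).1 * A₀.1 = A₀.1 * (A₀ ^ n).1 := fun n => by
    rw [← Matrix.SpecialLinearGroup.coe_mul, ← Matrix.SpecialLinearGroup.coe_mul, ← pow_succ, ← pow_succ']
  have hε1 : A₀.1.trace ≠ 0 → ε = 1 := fun h0 => by
    have := congrArg Matrix.trace hJA
    rw [Matrix.trace_smul, trace_conj (isConj_iff.mpr ⟨J, rfl⟩ : IsConj A₀ (J * A₀ * J⁻¹)).symm,
      Matrix.SpecialLinearGroup.coe_inv, adj_eq, Matrix.trace_sub, Matrix.trace_smul, Matrix.trace_one,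
      Fintype.card_fin, smul_eq_mul, smul_eq_mul] at this
    exact mul_left_cancel₀ h0 (by push_cast at this; linear_combination -this)
  by_cases h2 : (2 : F) = 0
  · have ht0 : A₀.1.trace ≠ 0 := fun e => ht (by rw [e, mul_zero]; linear_combination -2 * h2)
    have hJW : J.1 * (A₀.1.trace⁻¹ • A₀.1) = (A₀.1.trace⁻¹ • A₀.1 + 1) * J.1 := by
      rw [Matrix.mul_smul, hJA', hε1 ht0, one_smul, ← Matrix.smul_mul, smul_sub, smul_smul, inv_mul_cancel₀ ht0,
        one_smul]
      congr 1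
      ext i j
      simp only [Matrix.sub_apply, Matrix.add_apply]
      linear_combination -((A₀.1.trace⁻¹ • A₀.1) i j) * h2
    refine axis₁_not_bin h2 h5 ht0 ?_ hJH hJW
    intro S hS
    rcases helts S hS with ⟨n, δ, -, hn⟩ | ⟨n, δ, -, hn⟩
    · refine ⟨0, Or.inl rfl, ?_⟩
      rw [hn, zero_smul, add_zero, Matrix.mul_smul, Matrix.smul_mul, hpow]
      simp [Matrix.smul_mul, Matrix.mul_smul, smul_smul, mul_comm]
    · refine ⟨1, Or.inr rfl, ?_⟩
      rw [hn, one_smul, Matrix.SpecialLinearGroup.coe_mul, Matrix.smul_mul, Matrix.mul_assoc J.1, Matrix.mul_smul,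
        hpow, ← Matrix.smul_mul A₀.1.trace⁻¹, ← Matrix.mul_assoc J.1, hJW, Matrix.mul_smul, Matrix.mul_assoc]
  · have h7 : 7 ≤ Fintype.card F := by
      have := Nat.odd_iff.mp (Nat.not_even_iff_odd.mp fun h => h2 (two_dvd_iff.mp (even_iff_two_dvd.mp h)))
      omega
    obtain ⟨X, hX⟩ : ∃ X, X = A₀.1 - (A₀.1.trace / 2) • 1 := ⟨_, rfl⟩
    have hJX : J.1 * X = -(X * J.1) := by
      by_cases h0 : A₀.1.trace = 0
      · rw [hX, h0, zero_div, zero_smul, sub_zero, hJA', h0, zero_smul, zero_sub, Matrix.neg_mul]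
        rcases mul_self_eq_one_iff.mp hε with rfl | rfl
        · exact one_smul _ _
        · exfalso
          have hc : J.1 * A₀.1 = A₀.1 * J.1 := by
            rw [hJA', h0, zero_smul, zero_sub, Matrix.neg_mul, neg_one_smul, neg_neg]
          obtain ⟨x, y, hxy⟩ := exists_comb hns hc
          have hx : x = 0 := by
            have h := congrArg Matrix.trace hxy
            simp [comb, Matrix.trace_add, Matrix.trace_smul, h0, hJtr] at h
            exact (h.resolve_right h2)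
          have hd := J.2
          rw [hxy, det_comb, Qf, h0, A₀.2, hx] at hd
          have hpr : PSL2.pr J = PSL2.pr A₀ := (PSL2.pr_eq_iff _ _).mpr ⟨y, by linear_combination hd, by
            rw [hxy, hx]; simp [comb]⟩
          rw [hJ, hA] at hpr
          have := f.symm.injective (Subtype.ext hpr)
          cases this
      · rw [hX, Matrix.mul_sub, hJA', hε1 h0, one_smul, Matrix.mul_smul, Matrix.mul_one, Matrix.sub_mul,
          Matrix.sub_mul, Matrix.smul_mul, Matrix.smul_mul, Matrix.one_mul]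
        ext i j
        simp only [Matrix.sub_apply, Matrix.neg_apply, Matrix.smul_apply, smul_eq_mul]
        field_simp
        ring
    refine axis_not_bin h2 h7 (X₀ := X) ?_ ?_ ?_ hJH hJX
    · rw [hX, Matrix.trace_sub, Matrix.trace_smul, Matrix.trace_one, Fintype.card_fin, smul_eq_mul]
      push_cast
      field_simp
      ring
    · intro e
      apply ht
      have hd := PSL2.det_two A₀
      rw [hX, Matrix.det_fin_two] at e
      simp [Matrix.trace_fin_two] at e hd ⊢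
      field_simp at e
      linear_combination -e + 4 * hd
    · intro S hS
      rcases helts S hS with ⟨n, δ, hδ, hn⟩ | ⟨n, δ, hδ, hn⟩
      · refine ⟨1, one_mul 1, ?_⟩
        rw [hn, one_smul, Matrix.smul_mul, Matrix.mul_smul, hX, Matrix.mul_sub, Matrix.sub_mul, hpow]
        simp
      · refine ⟨-1, by ring, ?_⟩
        have hXn : (A₀ ^ n).1 * X = X * (A₀ ^ n).1 := by
          rw [hX, Matrix.mul_sub, Matrix.sub_mul, hpow]; simp
        rw [hn, Matrix.SpecialLinearGroup.coe_mul, Matrix.smul_mul, Matrix.mul_assoc J.1, hXn,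
          ← Matrix.mul_assoc J.1, hJX, neg_one_smul, Matrix.mul_smul, Matrix.neg_mul, smul_neg,
          Matrix.mul_assoc X]

end Cfsg.Agent.Classical.Binary
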