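import Cfsg.Agent.Lib.Classical.Binary.Small

/-!
# `A₄` in `PSL₂(7)`

A conjugate of `H` not normalising the four-group `V` meets `H` trivially, and a four-group of the
other class gives three conjugates whose product condition fails.
-/

set_option autoImplicit false
set_option maxHeartbeats 800000

namespace Cfsg.Agent.Classical.Binary

open Cfsg.Agent.Small Cfsg.Agent.Small.SL2C Cfsg.Agent.Classical.Dickson
open Cfsg.Agent.Classical.SL2Four (IsPair pairGroup)

variable {F : Type*} [Field F] [Fintype F]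

local notation "SL2" => Matrix.SpecialLinearGroup (Fin 2) F
local notation "P2" => Matrix.ProjectiveSpecialLinearGroup (Fin 2) F

/-- `A₄` in `PSL₂(7)`. -/
theorem a4_not_bin_seven (h2 : (2 : F) ≠ 0) (h7 : Fintype.card F = 7) {H : Subgroup P2}
    (f : H ≃* alternatingGroup (Fin 4)) : ¬ IsBin H := by
  classical
  intro hbin
  have hV := dA4.isPair f
  haveI hk := SL2Four.pairGroup_isKleinFour hV
  obtain ⟨N, hNdef⟩ : ∃ N, N = Subgroup.normalizer (pairGroup hV : Set P2) := ⟨_, rfl⟩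
  have hmemV : ∀ v, (v = dA4.x ∨ v = dA4.y ∨ v = dA4.x * dA4.y) → ((f.symm v : H) : P2) ∈ pairGroup hV := by
    rintro v (rfl | rfl | rfl)
    · exact Or.inr (Or.inl rfl)
    · exact Or.inr (Or.inr (Or.inl rfl))
    · refine Or.inr (Or.inr (Or.inr ?_))
      rw [map_mul, Subgroup.coe_mul]; rfl
  have hle : H ≤ N := fun z hz => by
    rw [hNdef]
    have := dA4.mem_normalizer f (f ⟨z, hz⟩) (fun v hv => dA4_normal _ v hv)
    rwa [f.symm_apply_apply] at this
  have hVH : pairGroup hV ≤ H := by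
    rintro u (rfl | rfl | rfl | rfl)
    · exact one_mem H
    · exact Subtype.mem _
    · exact Subtype.mem _
    · exact mul_mem (Subtype.mem _) (Subtype.mem _)
  have hN : Nat.card N = 24 := by
    rw [hNdef]
    rcases card_normalizer_klein h2 hV with ⟨-, h8⟩ | ⟨h, -⟩
    · omega
    · exact h
  have hH : Nat.card H = 12 := by
    rw [Nat.card_congr f.toEquiv, nat_card_alternatingGroup, Nat.card_fin]; rfl
  have hidx : (H.subgroupOf N).index = 2 := by
    have h := (H.subgroupOf N).card_mul_index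
    rw [Nat.card_congr (Subgroup.subgroupOfEquivOfLe hle).toEquiv, hH, hN] at h
    omega
  -- elements of order three of `N` lie in `H`
  have hthree : ∀ z ∈ N, z ^ 3 = 1 → z ∈ H := fun z hz h3 => by
    have h' : z * z ∈ H := by
      have := Subgroup.mul_self_mem_of_index_two hidx (⟨z, hz⟩ : N)
      simpa [Subgroup.mem_subgroupOf] using this
    have := mul_mem h' h'
    rwa [show z * z * (z * z) = z ^ 3 * z by simp [pow_succ, mul_assoc], h3, one_mul] at this
  obtain ⟨y, hy⟩ : ∃ y, y = ((f.symm rotA4.c : H) : P2) := ⟨_, rfl⟩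
  have hyH : y ∈ H := hy ▸ Subtype.mem _
  haveI : Fact (Nat.Prime 3) := ⟨Nat.prime_three⟩
  haveI : Fact (Nat.Prime 2) := ⟨Nat.prime_two⟩
  have hy3 : orderOf y = 3 := hy ▸ orderOf_rot f rotA4 (by decide +kernel)
  have hcy : ∀ z, Commute z y → z ∈ Subgroup.zpowers y := fun z hz =>
    centralizer_small h2 le_rfl (by rw [h7]; decide) (fun m hm hm' => by rw [h7] at hm'; omega) hy3 z hz
  -- an inverting element of `N`
  obtain ⟨r, hrN, hr⟩ : ∃ r ∈ N, r * y * r⁻¹ = y⁻¹ := by
    obtain ⟨n, hn, hnH⟩ : ∃ n ∈ N, n ∉ H := by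
      by_contra! hc
      have := Subgroup.card_le_of_le (show N ≤ H from hc)
      omega
    have hc' : n * y * n⁻¹ ∈ H := hthree _ (mul_mem (mul_mem hn (hle hyH)) (inv_mem hn)) (by
      rw [conj_pow, ← hy3, pow_orderOf_eq_one, mul_one, mul_inv_cancel])
    have hne : f ⟨_, hc'⟩ ≠ 1 := fun e => by
      have he := congrArg Subtype.val (f.injective (e.trans (map_one f).symm))
      simp only [Subgroup.coe_one] at he
      rw [conj_eq_one_iff] at he
      rw [he, orderOf_one] at hy3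
      omega
    have hcube : f ⟨_, hc'⟩ ^ 3 = 1 := by
      rw [← map_pow, show (⟨_, hc'⟩ : H) ^ 3 = 1 from Subtype.ext (by
        simp only [SubmonoidClass.mk_pow, Subgroup.coe_one]
        rw [conj_pow, ← hy3, pow_orderOf_eq_one, mul_one, mul_inv_cancel]), map_one]
    obtain ⟨h, hh⟩ := a4_three _ hne hcube
    obtain ⟨k, hk⟩ : ∃ k, k = ((f.symm h : H) : P2) := ⟨_, rfl⟩
    have hkH : k ∈ H := hk ▸ Subtype.mem _
    have push : ∀ i : ℕ, h * f ⟨_, hc'⟩ * h⁻¹ = rotA4.c ^ i → (k * n) * y * (k * n)⁻¹ = y ^ i := fun i e => by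
      have := congrArg (fun z => ((f.symm z : H) : P2)) e
      simp only [map_mul, map_inv, map_pow, f.symm_apply_apply, Subgroup.coe_mul, Subgroup.coe_inv, Subgroup.coe_pow, ← hk, ← hy] at this
      rw [← this]; group
    rcases hh with hh | hh
    · exfalso
      have := push 1 (by rw [pow_one]; exact hh)
      rw [pow_one] at this
      have hkn := Subgroup.zpowers_le.mpr hyH (hcy (k * n) (by
        show _ * _ = _ * _
        nth_rewrite 2 [← this]
        group))
      exact hnH (by simpa using mul_mem (inv_mem hkH) hkn)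
    · refine ⟨k * n, mul_mem (hle hkH) hn, ?_⟩
      rw [push 2 hh, eq_inv_iff_mul_eq_one, ← pow_succ]
      exact orderOf_dvd_iff_pow_eq_one.mp hy3.dvd
  -- the normaliser of the rotation group lies in `N`
  have hNc : ∀ z : P2, z * y * z⁻¹ = y ∨ z * y * z⁻¹ = y⁻¹ → z ∈ N := by
    rintro z (h | h)
    · exact hle (Subgroup.zpowers_le.mpr hyH (hcy z (by
        show z * y = y * z
        nth_rewrite 2 [← h]; group)))
    · have hc : Commute (r * z) y := by
        show r * z * y = y * (r * z)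
        have e : r * z * y * (r * z)⁻¹ = y := by
          rw [show r * z * y * (r * z)⁻¹ = r * (z * y * z⁻¹) * r⁻¹ by group, h,
            show r * y⁻¹ * r⁻¹ = (r * y * r⁻¹)⁻¹ by group, hr, inv_inv]
        nth_rewrite 2 [← e]; group
      have := mul_mem (inv_mem hrN) (hle (Subgroup.zpowers_le.mpr hyH (hcy _ hc)))
      rwa [inv_mul_cancel_left] at this
  -- the centraliser of an involution of `V` lies in `N`
  obtain ⟨x₀, hx₀⟩ : ∃ x₀, x₀ = ((f.symm dA4.x : H) : P2) := ⟨_, rfl⟩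
  have hx₀o : orderOf x₀ = 2 := hx₀ ▸ hV.1
  obtain ⟨C, hCdef⟩ : ∃ C, C = Subgroup.centralizer ({x₀} : Set P2) := ⟨_, rfl⟩
  have hCle : C ≤ N := by
    have hC8 : Nat.card C = 8 := by
      obtain ⟨A, hA⟩ := PSL2.pr_surjective x₀
      rw [← hA] at hx₀o
      have hA0 := (SL2Four.orderOf_pr_eq_two_iff h2).mp hx₀o
      have hns := SL2Four.not_isSc_of_trace_zero h2 hA0
      have := card_centralizer_pr A hns
      rw [center_card_odd h2, if_pos ⟨h2, hA0⟩, hA0, (SL2Four.sol_zero h2).2 (by omega), h7] at this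
      rw [hCdef, ← hA]
      omega
    have hin : Nat.card (C ⊓ N : Subgroup P2) ≥ 8 := by
      obtain ⟨S, hS⟩ : ∃ S, S = (C.subgroupOf N) := ⟨_, rfl⟩
      have key : ∀ z : N, z ∈ S ↔ (z : P2) ∈ C := fun z => by rw [hS, Subgroup.mem_subgroupOf]
      have h3 : Nat.card (N ⧸ S) ≤ 3 := by
        let e : Fin 3 → P2 := ![((f.symm dA4.x : H) : P2), ((f.symm dA4.y : H) : P2),
          ((f.symm dA4.x : H) : P2) * ((f.symm dA4.y : H) : P2)]
        have himg : ∀ n : N, ∃ i, e i = (n : P2) * x₀ * (n : P2)⁻¹ := fun n => by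
          have hn : (n : P2) ∈ Subgroup.normalizer (pairGroup hV : Set P2) := hNdef ▸ n.2
          have hx : x₀ ∈ pairGroup hV := hx₀ ▸ Or.inr (Or.inl rfl)
          rcases (Subgroup.mem_normalizer_iff.mp hn x₀).mp hx with h | h | h | h
          · rw [conj_eq_one_iff] at h
            rw [h, orderOf_one] at hx₀o
            omega
          · exact ⟨0, h.symm⟩
          · exact ⟨1, h.symm⟩
          · exact ⟨2, h.symm⟩
        choose ι hι using himg
        have := Nat.card_le_card_of_injective (fun q : N ⧸ S => ι q.out) (fun p q hpq => by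
          rw [← QuotientGroup.out_eq' p, ← QuotientGroup.out_eq' q, QuotientGroup.eq, key,
            hCdef, Subgroup.mem_centralizer_singleton_iff]
          have h := (hι p.out).symm.trans ((congrArg e hpq).trans (hι q.out))
          simp only [Subgroup.coe_mul, Subgroup.coe_inv]
          have h' := congrArg (fun z => (p.out : P2)⁻¹ * z * (q.out : P2)) h
          group at h' ⊢
          exact h'.symm)
        simpa using this
      have hmul : Nat.card (N ⧸ S) * Nat.card S = Nat.card N := (Subgroup.card_eq_card_quotient_mul_card_subgroup S).symm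
      have hSle : Nat.card S ≤ Nat.card (C ⊓ N : Subgroup P2) :=
        Nat.card_le_card_of_injective (fun s : S => (⟨((s : N) : P2), by
          refine ⟨?_, (s : N).2⟩
          exact (key _).mp s.2⟩ : (C ⊓ N : Subgroup P2)))
          (fun a b e => Subtype.ext (Subtype.ext (congrArg (fun z : (C ⊓ N : Subgroup P2) => (z : P2)) e)))
      nlinarith
    exact (Subgroup.eq_of_le_of_card_ge (inf_le_left : C ⊓ N ≤ C) (by omega)).ge.trans inf_le_right
  have two : ∀ (p : P2) (hp : p ∈ H), p ≠ 1 → p * p = 1 →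
      ∃ k ∈ H, k * p * k⁻¹ = x₀ ∧ p ∈ pairGroup hV := by
    intro p hp hne hsq
    have h1 : f ⟨p, hp⟩ ≠ 1 := fun e => hne (congrArg Subtype.val (f.injective (e.trans (map_one f).symm)))
    have h2' : f ⟨p, hp⟩ ^ 2 = 1 := by
      rw [← map_pow, show (⟨p, hp⟩ : H) ^ 2 = 1 from Subtype.ext (by simpa [pow_two] using hsq), map_one]
    obtain ⟨⟨h, hh⟩, hv⟩ := a4_two _ h1 h2'
    refine ⟨_, (f.symm h).2, ?_, ?_⟩
    · have := congrArg (fun z => ((f.symm z : H) : P2)) hh
      simpa [← hx₀] using this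
    · have := hmemV _ hv
      rwa [f.symm_apply_apply] at this
  -- trivial intersection
  have hTI : ∀ g : P2, g ∉ N → ∀ p ∈ H, g⁻¹ * p * g ∈ H → p = 1 := by
    intro g hg p hp hp'
    by_contra hne
    refine hg ?_
    have hne' : g⁻¹ * p * g ≠ 1 := fun e => hne (by
      have := congrArg (fun z => g * z * g⁻¹) e
      simpa [mul_assoc] using this)
    have hord : p ^ 3 = 1 ∨ p ^ 2 = 1 := by
      rcases a4_orders' (f ⟨p, hp⟩) with h | h
      · left; simpa using congrArg (fun z => ((f.symm z : H) : P2)) h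
      · right; simpa using congrArg (fun z => ((f.symm z : H) : P2)) h
    rcases hord with h3 | h2o
    · have h3' : (g⁻¹ * p * g) ^ 3 = 1 := by
        rw [show g⁻¹ * p * g = MulAut.conj g⁻¹ p by simp, ← map_pow, h3, map_one]
      have rot : ∀ (u : P2) (hu : u ∈ H), u ≠ 1 → u ^ 3 = 1 → ∃ k ∈ H, k * u * k⁻¹ = y ∨ k * u * k⁻¹ = y⁻¹ := by
        intro u hu hu1 hu3
        have h1 : f ⟨u, hu⟩ ≠ 1 := fun e => hu1 (congrArg Subtype.val (f.injective (e.trans (map_one f).symm)))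
        have h3u : f ⟨u, hu⟩ ^ 3 = 1 := by
          rw [← map_pow, show (⟨u, hu⟩ : H) ^ 3 = 1 from Subtype.ext (by simpa using hu3), map_one]
        obtain ⟨h, hh⟩ := a4_three _ h1 h3u
        refine ⟨_, (f.symm h).2, hh.imp (fun e => ?_) fun e => ?_⟩
        · simpa [← hy] using congrArg (fun z => ((f.symm z : H) : P2)) e
        · rw [eq_inv_iff_mul_eq_one]
          have := congrArg (fun z => ((f.symm z : H) : P2)) e
          simp [← hy] at this
          rw [this, ← pow_succ]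
          exact orderOf_dvd_iff_pow_eq_one.mp hy3.dvd
      obtain ⟨k₁, hk₁, e₁⟩ := rot p hp hne h3
      obtain ⟨k₂, hk₂, e₂⟩ := rot _ hp' hne' h3'
      have hn : k₂ * g⁻¹ * k₁⁻¹ ∈ N := hNc _ (by
        have e : (k₂ * g⁻¹ * k₁⁻¹) * (k₁ * p * k₁⁻¹) * (k₂ * g⁻¹ * k₁⁻¹)⁻¹ = k₂ * (g⁻¹ * p * g) * k₂⁻¹ := by group
        rcases e₁ with e₁ | e₁
        · rw [e₁] at e; rw [e]; exact e₂
        · rw [e₁, show ∀ a b : P2, a * b⁻¹ * a⁻¹ = (a * b * a⁻¹)⁻¹ from fun a b => by group, inv_eq_iff_eq_inv] at e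
          rw [e]
          rcases e₂ with e₂ | e₂
          · exact Or.inr (by rw [e₂])
          · exact Or.inl (by rw [e₂, inv_inv]))
      have := mul_mem (mul_mem (inv_mem (hle hk₂)) hn) (hle hk₁)
      rw [show k₂⁻¹ * (k₂ * g⁻¹ * k₁⁻¹) * k₁ = g⁻¹ by group] at this
      exact inv_mem_iff.mp this
    · rw [pow_two] at h2o
      have h2' : g⁻¹ * p * g * (g⁻¹ * p * g) = 1 := by
        rw [show g⁻¹ * p * g * (g⁻¹ * p * g) = g⁻¹ * (p * p) * g by group, h2o]; group
      obtain ⟨k₁, hk₁, e₁, -⟩ := two p hp hne h2o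
      obtain ⟨k₂, hk₂, e₂, -⟩ := two _ hp' hne' h2'
      have hn : k₂ * g⁻¹ * k₁⁻¹ ∈ N := hCle (by
        rw [hCdef, Subgroup.mem_centralizer_singleton_iff]
        nth_rewrite 1 [← e₁]
        rw [← e₂]
        group)
      have := mul_mem (mul_mem (inv_mem (hle hk₂)) hn) (hle hk₁)
      rw [show k₂⁻¹ * (k₂ * g⁻¹ * k₁⁻¹) * k₁ = g⁻¹ by group] at this
      exact inv_mem_iff.mp this
  -- a four-group of the other class
  obtain ⟨W, hW, hWc⟩ : ∃ W : Subgroup P2, IsKleinFour W ∧ ∀ g, W ≠ (pairGroup hV).map (MulAut.conj g).toMonoidHom := by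
    by_contra! hall
    obtain ⟨A, hA⟩ := PSL2.pr_surjective ((f.symm dA4.x : H) : P2)
    obtain ⟨j, hj⟩ := PSL2.pr_surjective ((f.symm dA4.y : H) : P2)
    obtain ⟨hA0, hAj⟩ : A.1.trace = 0 ∧ SL2Four.Anti A j :=
      (SL2Four.isPair_pr_iff h2 (A, j)).mp (by
        show IsPair (PSL2.pr A, PSL2.pr j)
        rw [hA, hj]
        exact hV)
    haveI := isCyclic_centralizer (SL2Four.trace_sq_ne_four h2 hA0)
    obtain ⟨⟨c, hct⟩, hgen⟩ := IsCyclic.exists_generator (α := tor A)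
    refine SL2Four.not_all_conj h2 (by omega) hA0 hAj (c := c) (fun t => ⟨fun ht => ?_, ?_⟩)
      hk (by rw [hA]; exact hmemV _ (Or.inl rfl)) (by rw [hj]; exact hmemV _ (Or.inr (Or.inl rfl))) hall
    · obtain ⟨n, hn⟩ := Subgroup.mem_zpowers_iff.mp (hgen ⟨t, ht⟩)
      exact ⟨n, congrArg Subtype.val hn⟩
    · rintro ⟨n, rfl⟩
      exact zpow_mem hct n
  haveI := hW
  obtain ⟨⟨a, b⟩, hab, haW, hbW⟩ := SL2Four.exists_pair W
  have hpr : ∀ p : P2, orderOf p = 2 → ∃ u, u⁻¹ * p * u = x₀ := fun p hp => by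
    obtain ⟨u, hu⟩ := isConj_iff.mp (SL2Four.involutions_conj h2 hx₀o hp)
    exact ⟨u, by rw [← hu]; group⟩
  obtain ⟨ha2, hb2, hcm, hne⟩ := hab
  simp only at ha2 hb2 hcm hne
  have hasq : a * a = 1 := by rw [← pow_two]; exact orderOf_dvd_iff_pow_eq_one.mp ha2.dvd
  have hbsq : b * b = 1 := by rw [← pow_two]; exact orderOf_dvd_iff_pow_eq_one.mp hb2.dvd
  have hc2 : orderOf (b⁻¹ * a) = 2 := orderOf_eq_prime (by
      rw [inv_eq_of_mul_eq_one_left hbsq, pow_two, ← mul_assoc, mul_assoc b a b, hcm.eq, ← mul_assoc, hbsq,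
        one_mul, hasq])
    (fun e => hne (inv_mul_eq_one.mp e).symm)
  obtain ⟨u, hu⟩ := hpr a ha2
  obtain ⟨v, hv⟩ := hpr b hb2
  obtain ⟨w, hw⟩ := hpr _ hc2
  have hx₀H : x₀ ∈ H := hx₀ ▸ Subtype.mem _
  have notN : ∀ {p q : P2} {u' v' : P2}, u'⁻¹ * p * u' = x₀ → v'⁻¹ * q * v' = x₀ → IsPair (p, q) → p ∈ W → q ∈ W →
      u'⁻¹ * v' ∉ N := by
    intro p q u' v' hp hq hpq hpW hqW hn
    haveI := hW
    refine hWc u' ?_
    have hx : x₀ ∈ pairGroup hV := hx₀ ▸ Or.inr (Or.inl rfl)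
    haveI : IsKleinFour ((pairGroup hV).map (MulAut.conj u').toMonoidHom) := SL2Four.klein_map _ u'
    rw [SL2Four.eq_pairGroup (V := W) hpq hpW hqW]
    refine (SL2Four.eq_pairGroup (V := (pairGroup hV).map (MulAut.conj u').toMonoidHom) hpq ?_ ?_).symm
    · exact ⟨x₀, hx, by rw [← hp]; simp [mul_assoc]⟩
    · refine ⟨(u'⁻¹ * v') * x₀ * (u'⁻¹ * v')⁻¹, (Subgroup.mem_normalizer_iff.mp (hNdef ▸ hn) x₀).mp hx, ?_⟩
      rw [← hq]; simp [mul_assoc]
  obtain ⟨s, hs1, hs2, hs3⟩ := hbin.triple (u := u) (v := v) (w := w) (a := a) (b := b) trivial trivial trivial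
    (by rw [hu]; exact hx₀H) (by rw [hv]; exact hx₀H) (by rw [hw]; exact hx₀H)
  have hs : u⁻¹ * s * u = 1 := hTI (u⁻¹ * v) (notN hu hv ⟨ha2, hb2, hcm, hne⟩ haW hbW) _ hs1 (by
    rw [show (u⁻¹ * v)⁻¹ * (u⁻¹ * s * u) * (u⁻¹ * v) = v⁻¹ * s * v by group]; exact hs2)
  have hs' : s = 1 := by
    have := congrArg (fun z => u * z * u⁻¹) hs
    simpa [mul_assoc] using this
  rw [hs', inv_one, one_mul] at hs3
  have hba : a ≠ b⁻¹ * a := fun e => by
    have : b = 1 := by simpa using e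
    rw [this, orderOf_one] at hb2
    omega
  have hau : u⁻¹ * a * u = 1 := hTI (u⁻¹ * w) (notN hu hw ⟨ha2, hc2, (hcm.inv_right).mul_right (Commute.refl a), hba⟩
    haW (mul_mem (inv_mem hbW) haW)) _ (by rw [hu]; exact hx₀H) (by
      rw [show (u⁻¹ * w)⁻¹ * (u⁻¹ * a * u) * (u⁻¹ * w) = w⁻¹ * a * w by group]; exact hs3)
  rw [hu] at hau
  rw [hau, orderOf_one] at hx₀o
  omega

end Cfsg.Agent.Classical.Binary
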