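import Cfsg.Agent.Lib.Classical.Binary.Positive
import Cfsg.Agent.Lib.Classical.Binary.Semisimple
import Cfsg.Agent.Lib.Classical.Binary.SevenAlt
import Cfsg.Agent.Lib.Classical.Dickson.Tools

/-!
# The binary coset actions of `PSL₂(q)`
-/

set_option autoImplicit false
set_option maxHeartbeats 800000

namespace Cfsg.Agent.Classical.Binary

open Cfsg.Agent.Small Cfsg.Agent.Small.SL2C Cfsg.Agent.Classical.Dickson

variable {F : Type*} [Field F] [Fintype F]

local notation "SL2" => Matrix.SpecialLinearGroup (Fin 2) F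
local notation "P2" => Matrix.ProjectiveSpecialLinearGroup (Fin 2) F

theorem exists_two_pow (h2 : (2 : F) = 0) : ∃ a : ℕ, Fintype.card F = 2 ^ a := by
  haveI : CharP F 2 := CharTwo.of_one_ne_zero_of_two_eq_zero one_ne_zero h2
  obtain ⟨n, -, hn⟩ := FiniteField.card F 2
  exact ⟨n, hn⟩

theorem two_eq_zero_of_pow {a : ℕ} (h4 : 4 ≤ Fintype.card F) (ha : Fintype.card F = 2 ^ a) : (2 : F) = 0 := by
  refine two_dvd_iff.mp ?_
  rcases a with _ | a
  · simp at ha; omega
  · exact ⟨2 ^ a, by rw [ha, pow_succ']⟩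

theorem odd_iff_three {a : ℕ} (ha : Fintype.card F = 2 ^ a) : Odd a ↔ ¬ 3 ∣ Fintype.card F - 1 := by
  rw [ha]
  have h4 : ∀ b : ℕ, 4 ^ b % 3 = 1 := fun b => by simp [Nat.pow_mod]
  rcases Nat.even_or_odd' a with ⟨b, rfl | rfl⟩ <;> have := h4 b
  · simp only [Nat.not_odd_iff_even.mpr ⟨b, two_mul b⟩, false_iff, not_not]
    rw [pow_mul]
    norm_num
    omega
  · simp only [show Odd (2 * b + 1) from ⟨b, rfl⟩, true_iff]
    rw [pow_succ, pow_mul]
    norm_num
    omega

/-- `U` is a Sylow subgroup in characteristic two. -/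
noncomputable def sylowU {a : ℕ} (ha : Fintype.card F = 2 ^ a) : Sylow 2 P2 where
  toSubgroup := PSL2.U
  isPGroup' := PSL2.isPGroup_U ha
  is_maximal' hQ hle := PSL2.U_maximal hQ hle

theorem sylow_of_conj_U {a : ℕ} (ha : Fintype.card F = 2 ^ a) {H : Subgroup P2} {φ : MulAut P2}
    (h : H.map φ.toMonoidHom = PSL2.U) : ∃ P : Sylow 2 P2, H = P := by
  refine ⟨⟨H, ?_, ?_⟩, rfl⟩
  · have hU : IsPGroup 2 ↥(H.map φ.toMonoidHom) := h ▸ PSL2.isPGroup_U ha
    exact hU.of_equiv (φ.subgroupMap H).symm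
  · intro Q hQ hle
    refine Subgroup.map_injective (f := φ.toMonoidHom) φ.injective ?_
    rw [h]
    exact PSL2.U_maximal (hQ.map _) (h ▸ Subgroup.map_mono hle)

theorem isBin_sylow {a : ℕ} (ha : Fintype.card F = 2 ^ a) (h4 : 4 ≤ Fintype.card F) (P : Sylow 2 P2) :
    IsBin (P : Subgroup P2) := by
  haveI : Finite P2 := Finite.of_surjective _ PSL2.pr_surjective
  obtain ⟨g, hg⟩ := MulAction.exists_smul_eq P2 (sylowU ha) P
  rw [← hg]
  exact (isBin_U (two_eq_zero_of_pow h4 ha)).map (MulAut.conj g)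

theorem dihedral_three {a : ℕ} (ha : Fintype.card F = 2 ^ a) :
    3 ∣ (Fintype.card F - 1) / Nat.gcd 2 (Fintype.card F - 1) ∨
      3 ∣ (Fintype.card F + 1) / Nat.gcd 2 (Fintype.card F - 1) := by
  have h3 : ¬ 3 ∣ Fintype.card F := by
    rw [ha]; intro h
    have := Nat.prime_three.dvd_of_dvd_pow h
    omega
  have hg : Nat.gcd 2 (Fintype.card F - 1) = 1 := by
    rcases a with _ | a
    · have := Fintype.one_lt_card (α := F)
      rw [pow_zero] at ha
      omega
    · refine (Nat.prime_two.coprime_iff_not_dvd).mpr ?_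
      have : 1 ≤ 2 ^ a := Nat.one_le_two_pow
      rw [ha, pow_succ']
      omega
  rw [hg, Nat.div_one, Nat.div_one]
  omega

theorem sq_one_of (h2 : (2 : F) = 0) (A : SL2) (h00 : A.1 0 0 = 1) (h11 : A.1 1 1 = 1) : A * A = 1 := by
  have hd := A.2
  rw [Matrix.det_fin_two, h00, h11] at hd
  refine Subtype.ext ?_
  rw [Matrix.SpecialLinearGroup.coe_mul, Matrix.SpecialLinearGroup.coe_one]
  ext i j
  fin_cases i <;> fin_cases j <;> simp [Matrix.mul_apply, Fin.sum_univ_two, h00, h11]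
  · exact mul_eq_zero.mp (by linear_combination -hd)
  · linear_combination (A.1 0 1) * h2
  · linear_combination (A.1 1 0) * h2
  · exact mul_eq_zero.mp (by linear_combination -hd)

/-- The subgroup `PGL₂(2)` is not binary. -/
theorem field_two_not_bin (h2 : (2 : F) = 0) (h4 : 4 ≤ Fintype.card F) (h5 : Fintype.card F ≠ 5)
    {H : Subgroup P2} (hu : PSL2.pr (PSL2.uS (1 : F)) ∈ H) (hv : PSL2.pr (PSL2.vS (1 : F)) ∈ H)
    (hcard : Nat.card H = 6) : ¬ IsBin H := by
  haveI : Finite P2 := Finite.of_surjective _ PSL2.pr_surjective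
  have hne : ∀ {A B : SL2}, A ≠ B → PSL2.pr A ≠ PSL2.pr B := fun h h' => h (pr_injective h2 h')
  let t : H := ⟨_, hu⟩
  let c : H := ⟨_, hu⟩ * ⟨_, hv⟩
  have hcv : (c : P2) = PSL2.pr (PSL2.uS (1 : F) * PSL2.vS 1) := by rw [map_mul]; rfl
  have ht2 : t * t = 1 := by
    refine Subtype.ext ?_
    show PSL2.pr (PSL2.uS (1 : F)) * PSL2.pr (PSL2.uS 1) = 1
    rw [← map_mul, sq_one_of h2 (PSL2.uS (1 : F)) (by simp) (by simp) , map_one]
  have hw2 : (⟨_, hv⟩ : H) * ⟨_, hv⟩ = 1 := by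
    refine Subtype.ext ?_
    show PSL2.pr (PSL2.vS (1 : F)) * PSL2.pr (PSL2.vS 1) = 1
    rw [← map_mul, sq_one_of h2 (PSL2.vS (1 : F)) (by simp) (by simp), map_one]
  have hval : (PSL2.uS (1 : F) * PSL2.vS 1 : SL2).1 = !![0, 1; 1, 1] := by
    simp only [Matrix.SpecialLinearGroup.coe_mul, PSL2.uS_val, PSL2.vS_val, Matrix.mul_fin_two]
    ext i j
    fin_cases i <;> fin_cases j <;> simp
    linear_combination h2
  have hc3 : c ^ 3 = 1 := by
    refine Subtype.ext ?_
    rw [Subgroup.coe_pow, Subgroup.coe_one, hcv, ← map_pow, ← map_one PSL2.pr]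
    congr 1
    refine Subtype.ext ?_
    rw [Matrix.SpecialLinearGroup.coe_pow, hval, Matrix.SpecialLinearGroup.coe_one, pow_succ, pow_two,
      Matrix.mul_fin_two, Matrix.mul_fin_two]
    ext i j
    fin_cases i <;> fin_cases j <;> simp <;> linear_combination h2
  have hc1 : c ≠ 1 := by
    intro h
    have h' := congrArg Subtype.val h
    rw [hcv, Subgroup.coe_one, ← map_one PSL2.pr] at h'
    have := congrArg (fun A : SL2 => A.1 0 0) (pr_injective h2 h')
    simp [hval] at this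
  have hinv : t * c * t⁻¹ = c⁻¹ := by
    rw [mul_inv_rev, inv_eq_of_mul_eq_one_right hw2, show t⁻¹ = t from inv_eq_of_mul_eq_one_right ht2]
    show t * (t * _) * t = _
    rw [← mul_assoc, ht2, one_mul]
  haveI : Fact (Nat.Prime 3) := ⟨Nat.prime_three⟩
  have ho : orderOf c = 3 := orderOf_eq_prime hc3 hc1
  have htC : t ∉ Subgroup.zpowers c := by
    intro hmem
    have h3 : orderOf t ∣ 3 := ho ▸ orderOf_dvd_of_mem_zpowers hmem
    have h2' : orderOf t ∣ 2 := orderOf_dvd_of_pow_eq_one (by rw [pow_two]; exact ht2)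
    have ht1 : orderOf t = 1 := Nat.dvd_one.mp (Nat.dvd_gcd h2' h3)
    have h' := congrArg Subtype.val (orderOf_eq_one_iff.mp ht1)
    rw [Subgroup.coe_one, ← map_one PSL2.pr] at h'
    have := congrArg (fun A : SL2 => A.1 0 1) (pr_injective h2 h')
    simp at this
  obtain ⟨f⟩ := dihedral_of (C := Subgroup.zpowers c) inferInstance htC ht2 (fun x hx => by
    obtain ⟨n, rfl⟩ := Subgroup.mem_zpowers_iff.mp hx
    rw [← conj_zpow, hinv, inv_zpow]) (by rw [hcard, Nat.card_zpowers, ho])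
  rw [Nat.card_zpowers, ho] at f
  obtain ⟨a, ha⟩ := exists_two_pow h2
  exact dihedral_not_bin h4 h5 (by norm_num) f (dihedral_three ha)

/-- The binary coset actions. -/
theorem binary_cases (h4 : 4 ≤ Fintype.card F) (h5 : Fintype.card F ≠ 5) {H : Subgroup P2} (hH : H ≠ ⊤)
    (hbin : IsBin H) :
    H = ⊥ ∨ ((∃ a : ℕ, Fintype.card F = 2 ^ a) ∧ ∃ P : Sylow 2 P2, H = P) ∨
      ((∃ a : ℕ, Odd a ∧ Fintype.card F = 2 ^ a) ∧ Nat.card H = 3) := by
  haveI : Finite P2 := Finite.of_surjective _ PSL2.pr_surjective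
  have hG := center_le_comap H
  have hbG : IsBin ((H.comap PSL2.pr).map PSL2.pr) := by rw [map_comap_pr]; exact hbin
  cases classify H with
  | cyclic k hk hc hcard =>
    rw [map_comap_pr] at hc hcard
    rcases Nat.lt_or_ge k 2 with hk2 | hk2
    · exact Or.inl (Subgroup.eq_bot_of_card_eq _ (by have := Nat.card_pos (α := H); omega))
    · obtain ⟨h2, rfl, h3⟩ := cyclic_cases hc hcard hk2 hk hbin
      obtain ⟨a, ha⟩ := exists_two_pow h2
      exact Or.inr (Or.inr ⟨⟨a, (odd_iff_three ha).mpr h3, ha⟩, hcard⟩)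
  | dihedral k hk h2 hiso =>
    rw [map_comap_pr] at hiso
    exact absurd hbin (dihedral_not_bin h4 h5 h2 hiso.some hk)
  | borel g hg hu =>
    obtain ⟨h2, hU⟩ := borel_cases ((map_conjSL_center g).trans (Subgroup.map_mono hG)) hg hu (bin_conj g hbG)
    rw [map_pr_conj, map_comap_pr] at hU
    obtain ⟨a, ha⟩ := exists_two_pow h2
    exact Or.inr (Or.inl ⟨⟨a, ha⟩, sylow_of_conj_U ha hU⟩)
  | a4 h2 hiso =>
    rw [map_comap_pr] at hiso
    by_cases h7 : Fintype.card F = 7
    · exact absurd hbin (a4_not_bin_seven h2 h7 hiso.some)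
    · exact absurd hbin (a4_not_bin h2 h4 h5 h7 hiso.some)
  | s4 h2 hiso =>
    rw [map_comap_pr] at hiso
    by_cases h7 : Fintype.card F = 7
    · exact absurd hbin (s4_not_bin_seven h2 h7 hiso.some)
    · exact absurd hbin (s4_not_bin h2 h4 h7 hiso.some)
  | a5 h2 hiso =>
    rw [map_comap_pr] at hiso
    by_cases hq : Fintype.card F = 9 ∨ Fintype.card F = 11
    · exact absurd hbin (a5_not_bin_small h2 hq hiso.some)
    · exact absurd hbin (a5_not_bin h2 h5 (fun h => hq (Or.inl h)) (fun h => hq (Or.inr h)) hiso.some)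
  | field g K hlow hhigh hiso =>
    exfalso
    have hG' := (map_conjSL_center g).trans (Subgroup.map_mono (f := (PSL2.conjSL g).toMonoidHom) hG)
    have hb' := bin_conj g hbG
    have hne : ((H.comap PSL2.pr).map (PSL2.conjSL g).toMonoidHom).map PSL2.pr ≠ ⊤ := by
      rw [map_pr_conj, map_comap_pr]
      intro h
      refine hH (Subgroup.map_injective (f := (PSL2.conjP g).toMonoidHom) (PSL2.conjP g).injective ?_)
      rw [h]
      exact (Subgroup.map_top_of_surjective _ (PSL2.conjP g).surjective).symm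
    rcases Nat.lt_or_ge (Nat.card K) 3 with hK | hK
    swap
    · exact field_not_bin hG' hne K hK hlow hhigh hb'
    haveI := Fintype.ofFinite K
    have hK2 : Fintype.card K = 2 := by
      have := Fintype.one_lt_card (α := K)
      rw [Nat.card_eq_fintype_card] at hK
      omega
    have h20 : (2 : F) = 0 := by
      have h : (2 : K) = 0 := two_dvd_iff.mp (by rw [hK2])
      simpa [map_ofNat] using congrArg K.subtype h
    rcases hiso with hf | ⟨h2, -⟩
    swap
    · exact h2 h20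
    obtain ⟨f⟩ := hf
    have hcard : Nat.card ↥(((H.comap PSL2.pr).map (PSL2.conjSL g).toMonoidHom).map PSL2.pr) = 6 := by
      rw [map_pr_conj, Subgroup.card_map_of_injective (f := (PSL2.conjP g).toMonoidHom) (PSL2.conjP g).injective,
        Nat.card_congr f.toEquiv, card_pgl, hK2]
      norm_num
    exact field_two_not_bin h20 h4 h5 (Subgroup.mem_map_of_mem _ (hlow 1 K.one_mem).1)
      (Subgroup.mem_map_of_mem _ (hlow 1 K.one_mem).2) hcard hb'

/-- Dickson case analysis, both directions. -/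
theorem binary_iff (h4 : 4 ≤ Fintype.card F) (h5 : Fintype.card F ≠ 5) {H : Subgroup P2} (hH : H ≠ ⊤) :
    IsBin H ↔
    (H = ⊥ ∨ ((∃ a : ℕ, Fintype.card F = 2 ^ a) ∧ ∃ P : Sylow 2 P2, H = P) ∨
      ((∃ a : ℕ, Odd a ∧ Fintype.card F = 2 ^ a) ∧ Nat.card H = 3)) := by
  refine ⟨binary_cases h4 h5 hH, ?_⟩
  rintro (rfl | ⟨⟨a, ha⟩, P, rfl⟩ | ⟨⟨a, hodd, ha⟩, hc⟩)
  · exact isBin_bot
  · exact isBin_sylow ha h4 P
  · exact isBin_three (two_eq_zero_of_pow h4 ha) ((odd_iff_three ha).mp hodd) hc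

end Cfsg.Agent.Classical.Binary
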