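import Cfsg.Agent.Lib.Classical.Binary.Core
import Cfsg.Agent.Lib.Classical.Dickson.Polyhedral

/-!
# Finite facts about `A₄`, `S₄` and `A₅`
-/

set_option autoImplicit false
set_option maxHeartbeats 400000
set_option maxRecDepth 4000
set_option synthInstance.maxSize 4000
set_option synthInstance.maxHeartbeats 400000

namespace Cfsg.Agent.Classical.Binary

open Cfsg.Agent.Classical.Dickson (KleinData dA4 dS4 dA5)

/-- A permutation from its graph and that of its inverse. -/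
def mkP {n : ℕ} (a b : Fin n → Fin n) (h : (∀ i, b (a i) = i) ∧ ∀ i, a (b i) = i) : Equiv.Perm (Fin n) :=
  ⟨a, b, h.1, h.2⟩

/-- Normalising the cyclic group of `c`, of order `m`. -/
abbrev Nrm {X : Type*} [Group X] (m : ℕ) (c x : X) : Prop := ∃ i : Fin m, x * c * x⁻¹ = c ^ (i : ℕ)

/-- A cyclic group of order `m` as a set. -/
abbrev InC {X : Type*} [Group X] (m : ℕ) (c x : X) : Prop := ∃ i : Fin m, x = c ^ (i : ℕ)

/-- Rotation data in a polyhedral group. -/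
structure Rot (X : Type*) [Group X] (m : ℕ) where
  c : X
  y : X
  e₀ : ℕ
  e₁ : ℕ
  e₂ : ℕ
  cpow : c ^ m = 1
  cent : ∀ z : X, z * c = c * z → InC m c z
  hy : y ≠ 1 ∧ y ^ e₀ = 1 ∧ (c * y) ^ e₁ = 1 ∧ (c * c * y) ^ e₂ = 1
  rigid : ∀ z : X, z ≠ 1 → z ^ e₀ = 1 → (c * z) ^ e₁ = 1 → (c * c * z) ^ e₂ = 1 →
    ∃ i : Fin m, z = c ^ (i : ℕ) * y * (c ^ (i : ℕ))⁻¹
  word : ∀ x : X, Nrm m c x ∨ ∃ a b e : Fin m,
    y = c ^ (a : ℕ) * x * c ^ (b : ℕ) ∨ y = c ^ (a : ℕ) * x * c ^ (b : ℕ) * x * c ^ (e : ℕ)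

/-! ### `A₄` -/

def a4c : alternatingGroup (Fin 4) :=
  ⟨mkP ![1, 2, 0, 3] ![2, 0, 1, 3] (by decide), Equiv.Perm.mem_alternatingGroup.mpr (by decide)⟩

def rotA4 : Rot (alternatingGroup (Fin 4)) 3 where
  c := a4c
  y := dA4.x
  e₀ := 2
  e₁ := 3
  e₂ := 3
  cpow := by decide +kernel
  cent := by decide +kernel
  hy := by decide +kernel
  rigid := by decide +kernel
  word := by decide +kernel

theorem a4_gen (S : Subgroup (alternatingGroup (Fin 4))) (hc : rotA4.c ∈ S) (hy : rotA4.y ∈ S) :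
    dA4.x ∈ S ∧ dA4.y ∈ S := by
  refine ⟨hy, ?_⟩
  have h : dA4.y = rotA4.c * rotA4.y * rotA4.c⁻¹ ∨ dA4.y = rotA4.c⁻¹ * rotA4.y * rotA4.c := by decide +kernel
  rcases h with h | h <;> rw [h]
  · exact mul_mem (mul_mem hc hy) (inv_mem hc)
  · exact mul_mem (mul_mem (inv_mem hc) hy) hc

theorem a4_normal_c : ∀ x : alternatingGroup (Fin 4), Nrm 3 rotA4.c x → InC 3 rotA4.c x := by decide +kernel

theorem a4_three : ∀ z : alternatingGroup (Fin 4), z ≠ 1 → z ^ 3 = 1 →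
    ∃ h : alternatingGroup (Fin 4), h * z * h⁻¹ = rotA4.c ∨ h * z * h⁻¹ = rotA4.c ^ 2 := by decide +kernel

theorem a4_two : ∀ z : alternatingGroup (Fin 4), z ≠ 1 → z ^ 2 = 1 →
    (∃ h : alternatingGroup (Fin 4), h * z * h⁻¹ = dA4.x) ∧ (z = dA4.x ∨ z = dA4.y ∨ z = dA4.x * dA4.y) := by
  decide +kernel

theorem a4_orders' : ∀ z : alternatingGroup (Fin 4), z ^ 3 = 1 ∨ z ^ 2 = 1 := by decide +kernel

theorem a4_witness : ∀ s : alternatingGroup (Fin 4),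
    let v : alternatingGroup (Fin 4) := ⟨mkP ![0, 2, 3, 1] ![0, 3, 1, 2] (by decide), Equiv.Perm.mem_alternatingGroup.mpr (by decide)⟩
    let w : alternatingGroup (Fin 4) := ⟨mkP ![0, 3, 1, 2] ![0, 2, 3, 1] (by decide), Equiv.Perm.mem_alternatingGroup.mpr (by decide)⟩
    let b : alternatingGroup (Fin 4) := ⟨mkP ![3, 1, 0, 2] ![2, 1, 3, 0] (by decide), Equiv.Perm.mem_alternatingGroup.mpr (by decide)⟩
    InC 3 rotA4.c rotA4.c ∧ InC 3 rotA4.c (v⁻¹ * b * v) ∧ InC 3 rotA4.c (w⁻¹ * (b⁻¹ * rotA4.c) * w) ∧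
      ¬ (InC 3 rotA4.c s ∧ InC 3 rotA4.c (v⁻¹ * s * v) ∧ InC 3 rotA4.c (w⁻¹ * (s⁻¹ * rotA4.c) * w)) := by
  decide +kernel

/-! ### `S₄` -/

def rotS4 : Rot (Equiv.Perm (Fin 4)) 3 where
  c := mkP ![1, 2, 0, 3] ![2, 0, 1, 3] (by decide)
  y := dS4.x
  e₀ := 2
  e₁ := 3
  e₂ := 3
  cpow := by decide +kernel
  cent := by decide +kernel
  hy := by decide +kernel
  rigid := by decide +kernel
  word := by decide +kernel

theorem s4_normal_c : ∀ x : Equiv.Perm (Fin 4), Nrm 3 rotS4.c x →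
    InC 3 rotS4.c x ∨ x * rotS4.c * x⁻¹ = rotS4.c⁻¹ := by decide +kernel

theorem s4_three : ∀ a b : Equiv.Perm (Fin 4), a ≠ 1 → a ^ 3 = 1 → b ≠ 1 → b ^ 3 = 1 →
    ∃ h, h * a * h⁻¹ = b := by decide +kernel

theorem s4_four : ∀ a b : Equiv.Perm (Fin 4), a * a ≠ 1 → a ^ 4 = 1 → b * b ≠ 1 → b ^ 4 = 1 →
    ∃ h, h * a * h⁻¹ = b := by decide +kernel

theorem s4_orders' : ∀ a : Equiv.Perm (Fin 4), a ^ 3 = 1 ∨ a ^ 4 = 1 ∨ a * a = 1 := by decide +kernel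

theorem s4_elementary : ∀ a b c : Equiv.Perm (Fin 4), a * a = 1 → b * b = 1 → c * c = 1 →
    a * b = b * a → a * c = c * a → b * c = c * b → a ≠ 1 → b ≠ 1 → c ≠ 1 → a ≠ b → a ≠ c → b ≠ c → c = a * b := by
  decide +kernel

theorem s4_witness : ∀ s : Equiv.Perm (Fin 4),
    let v : Equiv.Perm (Fin 4) := mkP ![0, 1, 3, 2] ![0, 1, 3, 2] (by decide)
    let w : Equiv.Perm (Fin 4) := mkP ![0, 2, 3, 1] ![0, 3, 1, 2] (by decide)
    let a : Equiv.Perm (Fin 4) := mkP ![2, 0, 1, 3] ![1, 2, 0, 3] (by decide)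
    let b : Equiv.Perm (Fin 4) := mkP ![3, 0, 2, 1] ![1, 3, 2, 0] (by decide)
    InC 3 rotS4.c a ∧ InC 3 rotS4.c (v⁻¹ * b * v) ∧ InC 3 rotS4.c (w⁻¹ * (b⁻¹ * a) * w) ∧
      ¬ (InC 3 rotS4.c s ∧ InC 3 rotS4.c (v⁻¹ * s * v) ∧ InC 3 rotS4.c (w⁻¹ * (s⁻¹ * a) * w)) := by
  decide +kernel

/-! ### `A₅` -/

def a5v : alternatingGroup (Fin 5) :=
  ⟨mkP ![0, 1, 3, 4, 2] ![0, 1, 4, 2, 3] (by decide), Equiv.Perm.mem_alternatingGroup.mpr (by decide)⟩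

def a5w : alternatingGroup (Fin 5) :=
  ⟨mkP ![0, 1, 4, 2, 3] ![0, 1, 3, 4, 2] (by decide), Equiv.Perm.mem_alternatingGroup.mpr (by decide)⟩

def rotA5 : Rot (alternatingGroup (Fin 5)) 5 where
  c := ⟨mkP ![1, 2, 3, 4, 0] ![4, 0, 1, 2, 3] (by decide), Equiv.Perm.mem_alternatingGroup.mpr (by decide)⟩
  y := ⟨mkP ![1, 2, 0, 3, 4] ![2, 0, 1, 3, 4] (by decide), Equiv.Perm.mem_alternatingGroup.mpr (by decide)⟩
  e₀ := 3
  e₁ := 5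
  e₂ := 2
  cpow := by decide +kernel
  cent := by decide +kernel
  hy := by decide +kernel
  rigid := by decide +kernel
  word := by decide +kernel

theorem a5_coset : ∀ x x' : alternatingGroup (Fin 5), Nrm 5 rotA5.c x → ¬ InC 5 rotA5.c x → Nrm 5 rotA5.c x' →
    InC 5 rotA5.c x' ∨ ∃ i : Fin 5, x' = rotA5.c ^ (i : ℕ) * x := by decide +kernel

theorem a5_five : ∀ z : alternatingGroup (Fin 5), z ≠ 1 → z ^ 5 = 1 →
    ∃ h : alternatingGroup (Fin 5), h * z * h⁻¹ = rotA5.c ∨ h * z * h⁻¹ = rotA5.c * rotA5.c := by decide +kernel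

theorem a5_orders' : ∀ a : alternatingGroup (Fin 5), a ^ 5 = 1 ∨ a ^ 3 = 1 ∨ a * a = 1 := by decide +kernel

theorem a5_klein : ∀ a b : alternatingGroup (Fin 5), a * a = 1 → b * b = 1 → a * b = b * a → a ≠ 1 → b ≠ 1 → a ≠ b →
    ∃ h : alternatingGroup (Fin 5),
      (h * a * h⁻¹ = dA5.x ∨ h * a * h⁻¹ = dA5.y ∨ h * a * h⁻¹ = dA5.x * dA5.y) ∧
      (h * b * h⁻¹ = dA5.x ∨ h * b * h⁻¹ = dA5.y ∨ h * b * h⁻¹ = dA5.x * dA5.y) := by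
  decide +kernel

theorem a5_witness_c : ∀ s : alternatingGroup (Fin 5),
    let b : alternatingGroup (Fin 5) := ⟨mkP ![2, 0, 4, 1, 3] ![1, 3, 0, 4, 2] (by decide), Equiv.Perm.mem_alternatingGroup.mpr (by decide)⟩
    InC 5 rotA5.c rotA5.c ∧ InC 5 rotA5.c (a5v⁻¹ * b * a5v) ∧ InC 5 rotA5.c (a5w⁻¹ * (b⁻¹ * rotA5.c) * a5w) ∧
      ¬ (InC 5 rotA5.c s ∧ InC 5 rotA5.c (a5v⁻¹ * s * a5v) ∧ InC 5 rotA5.c (a5w⁻¹ * (s⁻¹ * rotA5.c) * a5w)) := by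
  decide +kernel

theorem a5_witness_n : ∀ s : alternatingGroup (Fin 5),
    let a : alternatingGroup (Fin 5) := ⟨mkP ![0, 4, 3, 2, 1] ![0, 4, 3, 2, 1] (by decide), Equiv.Perm.mem_alternatingGroup.mpr (by decide)⟩
    let b : alternatingGroup (Fin 5) := ⟨mkP ![0, 2, 1, 4, 3] ![0, 2, 1, 4, 3] (by decide), Equiv.Perm.mem_alternatingGroup.mpr (by decide)⟩
    Nrm 5 rotA5.c a ∧ Nrm 5 rotA5.c (a5v⁻¹ * b * a5v) ∧ Nrm 5 rotA5.c (a5w⁻¹ * (b⁻¹ * a) * a5w) ∧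
      ¬ (Nrm 5 rotA5.c s ∧ Nrm 5 rotA5.c (a5v⁻¹ * s * a5v) ∧ Nrm 5 rotA5.c (a5w⁻¹ * (s⁻¹ * a) * a5w)) := by
  decide +kernel

end Cfsg.Agent.Classical.Binary
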