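import Cfsg.Agent.Lib.Classical.Binary.Rotation

/-!
# Polyhedral subgroups: the general case
-/

set_option autoImplicit false
set_option maxHeartbeats 800000

namespace Cfsg.Agent.Classical.Binary

open Cfsg.Agent.Small Cfsg.Agent.Small.SL2C Cfsg.Agent.Classical.Dickson
open Cfsg.Agent.Classical.SL2Four (pairGroup)

variable {F : Type*} [Field F] [Fintype F]

local notation "SL2" => Matrix.SpecialLinearGroup (Fin 2) F
local notation "P2" => Matrix.ProjectiveSpecialLinearGroup (Fin 2) F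

theorem mem_of_inC {X : Type*} [Group X] {m : ℕ} {c x : X} (h : InC m c x) {S : Subgroup X} (hc : c ∈ S) :
    x ∈ S := by
  obtain ⟨i, rfl⟩ := h
  exact pow_mem hc _

theorem orderOf_rot {H : Subgroup P2} {X : Type*} [Group X] (f : H ≃* X) (R : Rot X 3) (h1 : R.c ≠ 1) :
    orderOf ((f.symm R.c : H) : P2) = 3 := by
  haveI : Fact (Nat.Prime 3) := ⟨Nat.prime_three⟩
  rw [Subgroup.orderOf_coe, f.symm.orderOf_eq]
  exact orderOf_eq_prime R.cpow h1

theorem card_ne_three (h4 : 4 ≤ Fintype.card F) : Fintype.card F ≠ 3 := by omega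

/-- `A₄` away from `q = 7`. -/
theorem a4_not_bin (h2 : (2 : F) ≠ 0) (h4 : 4 ≤ Fintype.card F) (h5 : Fintype.card F ≠ 5)
    (h7 : Fintype.card F ≠ 7) {H : Subgroup P2} (f : H ≃* alternatingGroup (Fin 4)) : ¬ IsBin H := by
  obtain ⟨g, hg, hgc⟩ : ∃ g : P2, Commute g ((f.symm rotA4.c : H) : P2) ∧
      g ∉ Subgroup.zpowers ((f.symm rotA4.c : H) : P2) := by
    rcases exists_centralizing h2 Nat.prime_three (by norm_num) (card_ne_three h4)
        (orderOf_rot f rotA4 (by decide +kernel)) with ⟨g, h1, h2', -⟩ | ⟨-, g, h1, h2'⟩ | ⟨h, -⟩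
    · exact ⟨g, h1, h2'⟩
    · exact ⟨g, h1, h2'⟩
    · omega
  have hgH := notMem_of_rot f rotA4 hg hgc
  have hM : ∀ x, x ∈ meetSet f g ↔ InC 3 rotA4.c x := fun x =>
    ⟨fun hx => a4_normal_c x (meet_normalises f h2 dA4 rotA4 a4_gen hg hgH x hx),
      fun hx => mem_of_inC hx (rot_mem_meetSet f rotA4 hg)⟩
  refine not_bin_of_model f g (u := 1) (a := rotA4.c) ?_ ((hM _).mpr (a4_witness 1).2.1)
    ((hM _).mpr (a4_witness 1).2.2.1) fun s hs => ?_
  · rw [inv_one, one_mul, mul_one]; exact rot_mem_meetSet f rotA4 hg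
  · rw [inv_one, one_mul, mul_one, hM, hM, hM] at hs
    exact (a4_witness s).2.2.2 hs

/-- An isomorphic copy of `S₄` lies in the normaliser of its four-group, so `q ≡ ±1 (mod 8)`. -/
theorem s4_mod_eight (h2 : (2 : F) ≠ 0) {H : Subgroup P2} (f : H ≃* Equiv.Perm (Fin 4)) :
    Fintype.card F % 8 = 1 ∨ Fintype.card F % 8 = 7 := by
  have hle : H ≤ Subgroup.normalizer (dS4.grp f : Set P2) := fun z hz => by
    have := dS4.mem_normalizer f (f ⟨z, hz⟩) (fun v hv => dS4_normal _ v hv)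
    rwa [f.symm_apply_apply] at this
  rcases card_normalizer_klein h2 (dS4.isPair f) with ⟨h, -⟩ | ⟨-, h⟩
  · exfalso
    have hd := Subgroup.card_dvd_of_le hle
    rw [show Nat.card (Subgroup.normalizer (dS4.grp f : Set P2)) = 12 from h,
      Nat.card_congr f.toEquiv, Nat.card_perm, Nat.card_eq_fintype_card, Fintype.card_fin] at hd
    norm_num [Nat.factorial] at hd
  · exact h

/-- `S₄` away from `q = 7`. -/
theorem s4_not_bin (h2 : (2 : F) ≠ 0) (h4 : 4 ≤ Fintype.card F)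
    (h7 : Fintype.card F ≠ 7) {H : Subgroup P2} (f : H ≃* Equiv.Perm (Fin 4)) : ¬ IsBin H := by
  have h8 := s4_mod_eight h2 f
  have hord := orderOf_rot f rotS4 (by decide +kernel)
  obtain ⟨g, hg, hgc, hgg⟩ : ∃ g : P2, Commute g ((f.symm rotS4.c : H) : P2) ∧
      g ∉ Subgroup.zpowers ((f.symm rotS4.c : H) : P2) ∧
      g * g ∉ Subgroup.zpowers ((f.symm rotS4.c : H) : P2) := by
    rcases exists_centralizing h2 Nat.prime_three (by norm_num) (card_ne_three h4) hord with h | ⟨h, -⟩ | ⟨h, -⟩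
    · exact h
    · omega
    · omega
  have hgH := notMem_of_rot f rotS4 hg hgc
  have hggH := notMem_of_rot f rotS4 (hg.mul_left hg) hgg
  have hgen : ∀ S : Subgroup (Equiv.Perm (Fin 4)), rotS4.c ∈ S → rotS4.y ∈ S → dS4.x ∈ S ∧ dS4.y ∈ S := by
    intro S hc hy
    refine ⟨hy, ?_⟩
    have h : dS4.y = rotS4.c * rotS4.y * rotS4.c⁻¹ ∨ dS4.y = rotS4.c⁻¹ * rotS4.y * rotS4.c := by decide +kernel
    rcases h with h | h <;> rw [h]
    · exact mul_mem (mul_mem hc hy) (inv_mem hc)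
    · exact mul_mem (mul_mem (inv_mem hc) hy) hc
  have hM : ∀ x, x ∈ meetSet f g ↔ InC 3 rotS4.c x := fun x => by
    refine ⟨fun hx => ?_, fun hx => mem_of_inC hx (rot_mem_meetSet f rotS4 hg)⟩
    rcases s4_normal_c x (meet_normalises f h2 dS4 rotS4 hgen hg hgH x hx) with h | h
    · exact h
    exfalso
    have hxc : ((f.symm x : H) : P2) * ((f.symm rotS4.c : H) : P2) * ((f.symm x : H) : P2)⁻¹ =
        ((f.symm rotS4.c : H) : P2)⁻¹ := by
      rw [← Subgroup.coe_inv, ← Subgroup.coe_inv, ← Subgroup.coe_mul, ← Subgroup.coe_mul, ← map_inv, ← map_inv,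
        ← map_mul, ← map_mul, h]
    have hinv := inverts_centralizer h2 hord.ge hxc hg
    refine hggH ?_
    have := mul_mem (inv_mem (f.symm x).2) ((mem_meetSet f g).mp hx)
    have e : g⁻¹ = ((f.symm x : H) : P2) * g * ((f.symm x : H) : P2)⁻¹ := hinv.symm
    rwa [e, show ((f.symm x : H) : P2)⁻¹ * (((f.symm x : H) : P2) * g * ((f.symm x : H) : P2)⁻¹ *
      ((f.symm x : H) : P2) * g) = g * g by group] at this
  refine not_bin_of_model f g (u := 1) ?_ ((hM _).mpr (s4_witness 1).2.1) ((hM _).mpr (s4_witness 1).2.2.1)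
    fun s hs => ?_
  · rw [inv_one, one_mul, mul_one]; exact (hM _).mpr (s4_witness 1).1
  · rw [inv_one, one_mul, mul_one, hM, hM, hM] at hs
    exact (s4_witness s).2.2.2 hs

/-- `A₅` away from `q = 9` and `q = 11`. -/
theorem a5_not_bin (h2 : (2 : F) ≠ 0) (h5 : Fintype.card F ≠ 5) (h9 : Fintype.card F ≠ 9)
    (h11 : Fintype.card F ≠ 11) {H : Subgroup P2} (f : H ≃* alternatingGroup (Fin 5)) : ¬ IsBin H := by
  haveI : Fact (Nat.Prime 5) := ⟨Nat.prime_five⟩
  have hord : orderOf ((f.symm rotA5.c : H) : P2) = 5 := by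
    rw [Subgroup.orderOf_coe, f.symm.orderOf_eq]
    exact orderOf_eq_prime rotA5.cpow (by decide +kernel)
  obtain ⟨g, hg, hgc⟩ : ∃ g : P2, Commute g ((f.symm rotA5.c : H) : P2) ∧
      g ∉ Subgroup.zpowers ((f.symm rotA5.c : H) : P2) := by
    rcases exists_centralizing h2 Nat.prime_five (by norm_num) h5 hord with ⟨g, h1, h2', -⟩ | ⟨-, g, h1, h2'⟩ | ⟨h, -⟩
    · exact ⟨g, h1, h2'⟩
    · exact ⟨g, h1, h2'⟩
    · omega
  have hgH := notMem_of_rot f rotA5 hg hgc
  have hgen : ∀ S : Subgroup (alternatingGroup (Fin 5)), rotA5.c ∈ S → rotA5.y ∈ S → dA5.x ∈ S ∧ dA5.y ∈ S := by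
    intro S hc hy
    have hw : (∃ a b e i : Fin 5, dA5.x = rotA5.c ^ (a : ℕ) * rotA5.y ^ (b : ℕ) * rotA5.c ^ (e : ℕ) * rotA5.y ^ (i : ℕ)) ∧
        (∃ a b e i : Fin 5, dA5.y = rotA5.c ^ (a : ℕ) * rotA5.y ^ (b : ℕ) * rotA5.c ^ (e : ℕ) * rotA5.y ^ (i : ℕ)) := by
      decide +kernel
    obtain ⟨⟨a, b, e, i, h⟩, a', b', e', i', h'⟩ := hw
    rw [h, h']
    exact ⟨mul_mem (mul_mem (mul_mem (pow_mem hc _) (pow_mem hy _)) (pow_mem hc _)) (pow_mem hy _),
      mul_mem (mul_mem (mul_mem (pow_mem hc _) (pow_mem hy _)) (pow_mem hc _)) (pow_mem hy _)⟩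
  have hN := meet_normalises f h2 dA5 rotA5 hgen hg hgH
  have hc := rot_mem_meetSet f rotA5 hg
  by_cases hin : ∀ x ∈ meetSet f g, InC 5 rotA5.c x
  · have hM : ∀ x, x ∈ meetSet f g ↔ InC 5 rotA5.c x := fun x => ⟨hin x, fun hx => mem_of_inC hx hc⟩
    refine not_bin_of_model f g (u := 1) (a := rotA5.c) ?_ ((hM _).mpr (a5_witness_c 1).2.1)
      ((hM _).mpr (a5_witness_c 1).2.2.1) fun s hs => ?_
    · rw [inv_one, one_mul, mul_one]; exact hc
    · rw [inv_one, one_mul, mul_one, hM, hM, hM] at hs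
      exact (a5_witness_c s).2.2.2 hs
  · push Not at hin
    obtain ⟨x, hx, hxc⟩ := hin
    have hM : ∀ x', x' ∈ meetSet f g ↔ Nrm 5 rotA5.c x' := fun x' => by
      refine ⟨hN x', fun h => ?_⟩
      rcases a5_coset x x' (hN x hx) (fun ⟨i, hi⟩ => hxc i hi) h with h | ⟨i, rfl⟩
      · exact mem_of_inC h hc
      · exact mul_mem (pow_mem hc _) hx
    refine not_bin_of_model f g (u := 1) ?_ ((hM _).mpr (a5_witness_n 1).2.1)
      ((hM _).mpr (a5_witness_n 1).2.2.1) fun s hs => ?_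
    · rw [inv_one, one_mul, mul_one]; exact (hM _).mpr (a5_witness_n 1).1
    · rw [inv_one, one_mul, mul_one, hM, hM, hM] at hs
      exact (a5_witness_n s).2.2.2 hs

end Cfsg.Agent.Classical.Binary
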