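import Cfsg.Agent.Lib.Classical.Binary.Borel

/-!
# The binary coset actions of `PSL₂`
-/

set_option autoImplicit false
set_option maxHeartbeats 800000

namespace Cfsg.Agent.Classical.Binary

open Cfsg.Agent.Small Cfsg.Agent.Small.SL2C

theorem isBin_bot {G : Type*} [Group G] : IsBin (⊥ : Subgroup G) := by
  intro n I J hn hpair
  obtain ⟨g, hg0, -⟩ := hpair ⟨0, by omega⟩ ⟨1, by omega⟩ (by simp)
  refine ⟨g, fun i => ?_⟩
  by_cases hi : i = ⟨0, by omega⟩
  · rw [hi]; exact hg0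
  obtain ⟨g', h1, h2⟩ := hpair ⟨0, by omega⟩ i (Ne.symm hi)
  obtain ⟨x, hx⟩ := QuotientGroup.mk_surjective (I ⟨0, by omega⟩)
  obtain ⟨y, hy⟩ := QuotientGroup.mk_surjective (J ⟨0, by omega⟩)
  rw [← hx, ← hy, smul_mk_iff, Subgroup.mem_bot] at hg0 h1
  rw [show g = g' from mul_left_cancel (mul_right_cancel (hg0.trans h1.symm))]
  exact h2

/-- Stabilisers meeting trivially and no product-one triples. -/
theorem isBin_of_stab {G : Type*} [Group G] {H : Subgroup G}
    (h : ∀ u v w a b : G, u⁻¹ * a * u ∈ H → v⁻¹ * b * v ∈ H → w⁻¹ * (b⁻¹ * a) * w ∈ H →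
      a = 1 ∨ H.map (MulAut.conj u).toMonoidHom = H.map (MulAut.conj v).toMonoidHom ∨
        H.map (MulAut.conj u).toMonoidHom = H.map (MulAut.conj w).toMonoidHom ∨
        H.map (MulAut.conj v).toMonoidHom = H.map (MulAut.conj w).toMonoidHom) : IsBin H := by
  intro n I J hn hpair
  have hst : ∀ {u a : G}, u⁻¹ * a * u ∈ H ↔ a ∈ H.map (MulAut.conj u).toMonoidHom := fun {u a} => by
    rw [Subgroup.mem_map_equiv, MulAut.conj_symm_apply]
  obtain ⟨x, rfl⟩ : ∃ x : Fin n → G, (fun i => (x i : G ⧸ H)) = I :=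
    ⟨fun i => (I i).out, funext fun i => QuotientGroup.out_eq' _⟩
  have hmv : ∀ {g g' : G} {i : Fin n}, g • (x i : G ⧸ H) = J i →
      (g' • (x i : G ⧸ H) = J i ↔ g⁻¹ * g' ∈ H.map (MulAut.conj (x i)).toMonoidHom) := fun {g g' i} hg => by
    rw [← hg, ← hst, ← smul_mk_iff H (g⁻¹ * g') (x i) (x i), mul_smul, inv_smul_eq_iff]
  have i0 : Fin n := ⟨0, by omega⟩
  by_cases hall : ∀ i, H.map (MulAut.conj (x i0)).toMonoidHom = H.map (MulAut.conj (x i)).toMonoidHom
  · haveI := Fin.nontrivial_iff_two_le.mpr hn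
    obtain ⟨i1, hi1⟩ : ∃ i1, i1 ≠ i0 := exists_ne i0
    obtain ⟨g, hg, -⟩ := hpair i0 i1 hi1.symm
    refine ⟨g, fun i => ?_⟩
    rcases eq_or_ne i i0 with rfl | hi
    · exact hg
    obtain ⟨g', h1, h2⟩ := hpair i0 i hi.symm
    have := (hmv hg).mp h1
    rw [hall i] at this
    exact (hmv h2).mpr (by rw [← inv_inv (g'⁻¹ * g), mul_inv_rev, inv_inv]; exact inv_mem this)
  · push Not at hall
    obtain ⟨j, hj⟩ := hall
    have hij : i0 ≠ j := fun e => hj (e ▸ rfl)
    obtain ⟨g, hg0, hgj⟩ := hpair i0 j hij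
    refine ⟨g, fun k => ?_⟩
    rcases eq_or_ne k i0 with rfl | hk0
    · exact hg0
    rcases eq_or_ne k j with rfl | hkj
    · exact hgj
    obtain ⟨g₁, a1, a2⟩ := hpair i0 k hk0.symm
    obtain ⟨g₂, b1, b2⟩ := hpair j k hkj.symm
    have ha := (hmv hg0).mp a1
    have hb := (hmv hgj).mp b1
    have hc : (g⁻¹ * g₂)⁻¹ * (g⁻¹ * g₁) ∈ H.map (MulAut.conj (x k)).toMonoidHom := by
      rw [mul_inv_rev, inv_inv, mul_assoc, mul_inv_cancel_left]
      exact (hmv b2).mp a2
    rcases h _ _ _ (g⁻¹ * g₁) (g⁻¹ * g₂) (hst.mpr ha) (hst.mpr hb) (hst.mpr hc) with e | e | e | e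
    · rwa [inv_mul_eq_one.mp e]
    · exact absurd e hj
    · exact (hmv a2).mpr (by rw [← e, ← inv_inv (g₁⁻¹ * g), mul_inv_rev, inv_inv]; exact inv_mem ha)
    · exact (hmv b2).mpr (by rw [← e, ← inv_inv (g₂⁻¹ * g), mul_inv_rev, inv_inv]; exact inv_mem hb)

variable {F : Type*} [Field F] [Fintype F]

local notation "SL2" => Matrix.SpecialLinearGroup (Fin 2) F
local notation "P2" => Matrix.ProjectiveSpecialLinearGroup (Fin 2) F
local notation "M2" => Matrix (Fin 2) (Fin 2) F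

theorem pr_injective (h2 : (2 : F) = 0) : Function.Injective (PSL2.pr : SL2 → P2) := fun A B h => by
  obtain ⟨ε, hε, he⟩ := (PSL2.pr_eq_iff _ _).mp h
  have : (ε - 1) * (ε - 1) = 0 := by linear_combination hε + (1 - ε) * h2
  exact Subtype.ext (by rw [he, sub_eq_zero.mp (mul_self_eq_zero.mp this), one_smul])

theorem trace_of_cube (h2 : (2 : F) = 0) {A : SL2} (h : A ^ 3 = 1) (h1 : A ≠ 1) : A.1.trace = 1 := by
  have hns : ¬ IsSc A.1 := fun hsc => h1 (pr_injective h2 (by rw [pr_eq_one_iff.mpr hsc, map_one]))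
  have hA := congrArg Subtype.val h
  rw [Matrix.SpecialLinearGroup.coe_pow, pow_succ, pow_two, sq_eq, Matrix.sub_mul, Matrix.smul_mul, sq_eq,
    Matrix.one_mul, Matrix.SpecialLinearGroup.coe_one] at hA
  obtain ⟨t, ht⟩ : ∃ t, t = A.1.trace := ⟨_, rfl⟩
  rw [← ht] at hA ⊢
  have : (t * t - 1) • A.1 = (1 + t) • (1 : M2) := by
    linear_combination (norm := module) hA
  by_contra hne
  have h0 : t * t - 1 ≠ 0 := fun e => hne (by
    have : (t - 1) * (t - 1) = 0 := by linear_combination e + (1 - t) * h2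
    exact sub_eq_zero.mp (mul_self_eq_zero.mp this))
  exact hns ⟨(t * t - 1)⁻¹ * (1 + t), by rw [mul_smul, ← this, smul_smul, inv_mul_cancel₀ h0, one_smul]⟩

/-- Three rotations of order three with product one span one group, for `q = 2^a`, `a` odd. -/
theorem commute_of_triple (h2 : (2 : F) = 0) (h3 : ¬ 3 ∣ Fintype.card F - 1) {A B : SL2}
    (hA : A.1.trace = 1) (hB : B.1.trace = 1) (hC : (B⁻¹ * A).1.trace = 1) : Commute A B := by
  have htA : A.1.trace * A.1.trace ≠ 4 := fun e => one_ne_zero (by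
    rw [hA, one_mul] at e; linear_combination e + 2 * h2 : (1 : F) = 0)
  obtain ⟨S, hS⟩ := isConj_iff.mp (isConj_of_trace (not_isSc_of_trace htA) (ofTr_not_isSc (1 : F))
    (hA.trans (ofTr_trace 1).symm) (Or.inl h2))
  have hB' : (S * B * S⁻¹).1.trace = 1 :=
    (trace_conj (isConj_iff.mpr ⟨S, rfl⟩ : IsConj B (S * B * S⁻¹))).symm.trans hB
  have hC' : ((S * B * S⁻¹)⁻¹ * ofTr (1 : F)).1.trace = 1 := by
    rw [← hS, show (S * B * S⁻¹)⁻¹ * (S * A * S⁻¹) = S * (B⁻¹ * A) * S⁻¹ by group]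
    exact (trace_conj (isConj_iff.mpr ⟨S, rfl⟩ : IsConj (B⁻¹ * A) _)).symm.trans hC
  suffices Commute (ofTr (1 : F)) (S * B * S⁻¹) by
    rw [← hS] at this
    have h := this.map (MulAut.conj S⁻¹).toMonoidHom
    simpa [mul_assoc] using h
  generalize S * B * S⁻¹ = B' at hB' hC'
  have hd := PSL2.det_two B'
  rw [Matrix.trace_fin_two] at hB'
  rw [Matrix.SpecialLinearGroup.coe_mul, Matrix.SpecialLinearGroup.coe_inv, Matrix.adjugate_fin_two,
    Matrix.trace_fin_two] at hC'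
  simp [ofTr, mkSL_val, comp, Matrix.mul_apply, Fin.sum_univ_two] at hC'
  obtain ⟨u, hu⟩ : ∃ u, u = B'.1 0 0 + 1 := ⟨_, rfl⟩
  obtain ⟨v, hv⟩ : ∃ v, v = B'.1 0 1 + 1 := ⟨_, rfl⟩
  have hq : u * u + u * v + v * v = 0 := by
    rw [hu, hv]
    linear_combination -hd + B'.1 0 0 * hB' - B'.1 0 1 * hC' +
      (2 * B'.1 0 0 + B'.1 0 1 + B'.1 0 0 * B'.1 0 1 + 1) * h2
  have hv0 : v = 0 := by
    by_contra hv0
    obtain ⟨r, hr⟩ : ∃ r, r = u / v := ⟨_, rfl⟩
    have hr2 : r * r + r + 1 = 0 := by rw [hr]; field_simp; linear_combination hq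
    have hr0 : r ≠ 0 := fun e => one_ne_zero (by rw [e] at hr2; linear_combination hr2 : (1 : F) = 0)
    haveI : Fact (Nat.Prime 3) := ⟨Nat.prime_three⟩
    have hord : orderOf (Units.mk0 r hr0) = 3 := by
      refine orderOf_eq_prime (Units.ext ?_) fun e => one_ne_zero (α := F) ?_
      · rw [Units.val_pow_eq_pow_val, Units.val_mk0, Units.val_one]
        linear_combination (r - 1) * hr2
      · have e' : r = 1 := congrArg Units.val e
        rw [e'] at hr2
        linear_combination hr2 - h2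
    classical
    apply h3
    rw [← Fintype.card_units, ← hord]
    exact orderOf_dvd_card
  have hu0 : u = 0 := by rw [hv0] at hq; exact mul_self_eq_zero.mp (by linear_combination hq)
  have e00 : B'.1 0 0 = -1 := by linear_combination hu0 - hu
  have e01 : B'.1 0 1 = -1 := by linear_combination hv0 - hv
  have e11 : B'.1 1 1 = 0 := by linear_combination hB' - e00 + h2
  have e10 : B'.1 1 0 = 1 := by linear_combination hC' - e00 + e01
  refine Subtype.ext ?_
  show (ofTr (1 : F)).1 * B'.1 = B'.1 * (ofTr (1 : F)).1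
  rw [Matrix.eta_fin_two B'.1, e00, e01, e10, e11]
  ext i j
  fin_cases i <;> fin_cases j <;> simp [ofTr, mkSL_val, comp, Matrix.mul_apply, Fin.sum_univ_two]

/-- Order three, `q = 2^a`, `a` odd. -/
theorem isBin_three (h2 : (2 : F) = 0) (h3 : ¬ 3 ∣ Fintype.card F - 1) {H : Subgroup P2}
    (hH : Nat.card H = 3) : IsBin H := by
  haveI : Fact (Nat.Prime 3) := ⟨Nat.prime_three⟩
  refine isBin_of_stab fun u v w a b ha hb hc => ?_
  have hc3 : ∀ u : P2, Nat.card (H.map (MulAut.conj u).toMonoidHom) = 3 := fun u => by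
    rw [← hH]
    exact (Nat.card_congr (H.equivMapOfInjective _ (MulAut.conj u).injective).toEquiv).symm
  have hmem : ∀ {u x : P2}, u⁻¹ * x * u ∈ H → x ∈ H.map (MulAut.conj u).toMonoidHom := fun {u x} hx =>
    ⟨_, hx, by simp [mul_assoc]⟩
  have heq : ∀ {K L : Subgroup P2}, Nat.card K = 3 → Nat.card L = 3 → ∀ x ∈ K, x ∈ L → x ≠ 1 → K = L := by
    intro K L hK hL x hxK hxL hx
    have key : ∀ {M : Subgroup P2}, Nat.card M = 3 → x ∈ M → Subgroup.zpowers x = M := fun {M} hM hxM => by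
      refine Subgroup.eq_of_le_of_card_ge (Subgroup.zpowers_le.mpr hxM) ?_
      rw [hM, Nat.card_zpowers]
      exact (orderOf_eq_prime (by rw [← hM]; exact congrArg Subtype.val (pow_card_eq_one' (x := (⟨x, hxM⟩ : M)))) hx).ge
    rw [← key hK hxK, key hL hxL]
  rcases eq_or_ne a 1 with rfl | ha1
  · exact Or.inl rfl
  have hA := hmem ha
  have hB := hmem hb
  have hC := hmem hc
  rcases eq_or_ne b 1 with rfl | hb1
  · rw [inv_one, one_mul] at hC
    exact Or.inr (Or.inr (Or.inl (heq (hc3 u) (hc3 w) a hA hC ha1)))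
  rcases eq_or_ne a b with rfl | hab
  · exact Or.inr (Or.inl (heq (hc3 u) (hc3 v) a hA hB ha1))
  refine Or.inr (Or.inl ?_)
  have tr : ∀ {K : Subgroup P2}, Nat.card K = 3 → ∀ X : SL2, PSL2.pr X ∈ K → PSL2.pr X ≠ 1 → X.1.trace = 1 :=
    fun {K} hK X hX hX1 => trace_of_cube h2 (pr_injective h2 (by
      rw [map_pow, map_one, ← hK]
      exact congrArg Subtype.val (pow_card_eq_one' (x := (⟨_, hX⟩ : K))))) fun e => hX1 (by rw [e, map_one])
  obtain ⟨A, rfl⟩ := PSL2.pr_surjective a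
  obtain ⟨B, rfl⟩ := PSL2.pr_surjective b
  have hc1 : (PSL2.pr B)⁻¹ * PSL2.pr A ≠ 1 := fun e => hab (inv_mul_eq_one.mp e).symm
  rw [← map_inv, ← map_mul] at hC hc1
  have hcomm := commute_of_triple h2 h3 (tr (hc3 u) A hA ha1) (tr (hc3 v) B hB hb1) (tr (hc3 w) _ hC hc1)
  have hAt := tr (hc3 u) A hA ha1
  have hns : ¬ IsSc A.1 := fun h => ha1 (pr_eq_one_iff.mpr h)
  obtain ⟨x, y, hxy⟩ := exists_comb hns (commute_val.mp hcomm.symm)
  have hBt := tr (hc3 v) B hB hb1
  have hy : y = 1 := by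
    rw [hxy] at hBt
    simp [comb, Matrix.trace_add, Matrix.trace_smul, hAt] at hBt
    linear_combination hBt - x * h2
  have hd := B.2
  rw [hxy, det_comb, Qf, hAt, A.2, hy] at hd
  rcases mul_eq_zero.mp (show x * (x + 1) = 0 by linear_combination hd) with hx | hx
  · exact absurd (congrArg PSL2.pr (show A = B from Subtype.ext (by rw [hxy, hx, hy]; simp [comb]))) hab
  · have hBA : B = A⁻¹ := Subtype.ext (by
      rw [hxy, hy, Matrix.SpecialLinearGroup.coe_inv, adj2 A.1, hAt, show x = -1 by linear_combination hx]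
      ext i j
      simp [comb]
      linear_combination A.1 i j * h2 + (-((1 : M2) i j)) * h2)
    rw [hBA, map_inv] at hB
    exact heq (hc3 u) (hc3 v) _ hA (inv_mem_iff.mp hB) ha1
where
  adj2 (X : M2) : X.adjugate = X.trace • 1 - X := by
    ext i j
    fin_cases i <;> fin_cases j <;> simp [Matrix.adjugate_fin_two, Matrix.trace_fin_two]

/-- The Sylow subgroups in characteristic two. -/
theorem isBin_U (h2 : (2 : F) = 0) : IsBin (PSL2.U : Subgroup P2) := by
  intro n I J hn hpair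
  obtain ⟨X, rfl⟩ : ∃ X : Fin n → SL2, (fun i => ((PSL2.pr (X i) : P2) : P2 ⧸ PSL2.U)) = I := by
    refine ⟨fun i => (PSL2.pr_surjective (I i).out).choose, funext fun i => ?_⟩
    rw [(PSL2.pr_surjective (I i).out).choose_spec, QuotientGroup.out_eq']
  obtain ⟨Y, rfl⟩ : ∃ Y : Fin n → SL2, (fun i => ((PSL2.pr (Y i) : P2) : P2 ⧸ PSL2.U)) = J := by
    refine ⟨fun i => (PSL2.pr_surjective (J i).out).choose, funext fun i => ?_⟩
    rw [(PSL2.pr_surjective (J i).out).choose_spec, QuotientGroup.out_eq']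
  have key : ∀ (g : SL2) (i : Fin n),
      PSL2.pr g • ((PSL2.pr (X i) : P2) : P2 ⧸ PSL2.U) = ((PSL2.pr (Y i) : P2) : P2 ⧸ PSL2.U) ↔
      ((g * X i).1 0 0 = (Y i).1 0 0 ∧ (g * X i).1 1 0 = (Y i).1 1 0) := by
    intro g i
    rw [smul_mk_iff, ← map_inv, ← map_mul, ← map_mul, PSL2.mem_U, mul_assoc]
    generalize g * X i = Z
    constructor
    · rintro ⟨x, hx⟩
      have hZ : Z = Y i * PSL2.uS x := by rw [pr_injective h2 hx, mul_inv_cancel_left]
      rw [hZ]
      simp [Matrix.mul_apply, Fin.sum_univ_two]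
    · rintro ⟨e0, e1⟩
      have hd := PSL2.det_two Z
      have hd' := PSL2.det_two (Y i)
      refine ⟨((Y i)⁻¹ * Z).1 0 1, congrArg PSL2.pr (Subtype.ext ?_)⟩
      rw [Matrix.eta_fin_two ((Y i)⁻¹ * Z).1]
      ext a b
      fin_cases a <;> fin_cases b <;>
        simp [Matrix.SpecialLinearGroup.coe_inv, Matrix.adjugate_fin_two, Matrix.mul_apply, Matrix.vecMul, dotProduct, Fin.sum_univ_two] <;>
        grind
  have inv2 : ∀ (g : SL2) (i j : Fin n),
      (g * X i).1 0 0 * (g * X j).1 1 0 - (g * X i).1 1 0 * (g * X j).1 0 0 =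
      (X i).1 0 0 * (X j).1 1 0 - (X i).1 1 0 * (X j).1 0 0 := by
    intro g i j
    have hd := PSL2.det_two g
    simp [Matrix.mul_apply, Fin.sum_univ_two]
    grind
  by_cases hind : ∃ i j, (X i).1 0 0 * (X j).1 1 0 - (X i).1 1 0 * (X j).1 0 0 ≠ 0
  · obtain ⟨i, j, hd⟩ := hind
    have hij : i ≠ j := fun e => hd (by rw [e]; ring)
    obtain ⟨g, hi, hj⟩ := hpair i j hij
    obtain ⟨g, rfl⟩ := PSL2.pr_surjective g
    rw [key] at hi hj
    refine ⟨PSL2.pr g, fun k => (key g k).mpr ?_⟩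
    have e : ∀ l, (g * X l).1 0 0 = (Y l).1 0 0 ∧ (g * X l).1 1 0 = (Y l).1 1 0 →
        (g * X l).1 0 0 * (g * X k).1 1 0 - (g * X l).1 1 0 * (g * X k).1 0 0 =
        (g * X l).1 0 0 * (Y k).1 1 0 - (g * X l).1 1 0 * (Y k).1 0 0 := by
      intro l hl
      rcases eq_or_ne l k with rfl | hlk
      · rw [hl.1, hl.2]
      obtain ⟨g', h1, h2'⟩ := hpair l k hlk
      obtain ⟨g', rfl⟩ := PSL2.pr_surjective g'
      rw [key] at h1 h2'
      rw [inv2, ← inv2 g' l k, h1.1, h1.2, h2'.1, h2'.2, hl.1, hl.2]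
    have ei := e i hi
    have ej := e j hj
    rw [← inv2 g] at hd
    generalize (g * X i).1 0 0 = a at *
    generalize (g * X i).1 1 0 = b at *
    generalize (g * X j).1 0 0 = c at *
    generalize (g * X j).1 1 0 = d at *
    constructor
    · exact mul_left_cancel₀ hd (by linear_combination c * ei - a * ej)
    · exact mul_left_cancel₀ hd (by linear_combination d * ei - b * ej)
  · push Not at hind
    obtain ⟨g, h0, -⟩ := hpair ⟨0, by omega⟩ ⟨1, by omega⟩ (by simp)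
    obtain ⟨g, rfl⟩ := PSL2.pr_surjective g
    rw [key] at h0
    refine ⟨PSL2.pr g, fun k => (key g k).mpr ?_⟩
    by_cases hk : k = ⟨0, by omega⟩
    · rw [hk]; exact h0
    obtain ⟨g', h1, h2'⟩ := hpair ⟨0, by omega⟩ k (Ne.symm hk)
    obtain ⟨g', rfl⟩ := PSL2.pr_surjective g'
    rw [key] at h1 h2'
    obtain ⟨c, hc0, hc1⟩ : ∃ c, (X k).1 0 0 = c * (X ⟨0, by omega⟩).1 0 0 ∧ (X k).1 1 0 = c * (X ⟨0, by omega⟩).1 1 0 := by
      have hc := hind ⟨0, by omega⟩ k
      by_cases hz : (X ⟨0, by omega⟩).1 0 0 = 0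
      · have hne : (X ⟨0, by omega⟩).1 1 0 ≠ 0 := fun e => by
          have hd := PSL2.det_two (X ⟨0, by omega⟩)
          rw [hz, e] at hd
          simp at hd
        refine ⟨(X k).1 1 0 / (X ⟨0, by omega⟩).1 1 0, ?_, (div_mul_cancel₀ _ hne).symm⟩
        rw [hz, mul_zero]
        rw [hz, zero_mul, zero_sub, neg_eq_zero] at hc
        exact (mul_eq_zero.mp hc).resolve_left hne
      · refine ⟨(X k).1 0 0 / (X ⟨0, by omega⟩).1 0 0, (div_mul_cancel₀ _ hz).symm, ?_⟩
        field_simp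
        linear_combination hc
    have hlin : ∀ (g : SL2) (r : Fin 2), (g * X k).1 r 0 = c * (g * X ⟨0, by omega⟩).1 r 0 := fun g r => by
      simp [Matrix.mul_apply, Fin.sum_univ_two, hc0, hc1]
      ring
    exact ⟨by rw [hlin, h0.1, ← h1.1, ← hlin, h2'.1], by rw [hlin, h0.2, ← h1.2, ← hlin, h2'.2]⟩

end Cfsg.Agent.Classical.Binary
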