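import Cfsg.Agent.Lib.Classical.Binary.Borel
import Cfsg.Agent.Lib.Classical.Binary.Models

/-!
# Centralisers of rotations, and conjugates meeting in the normaliser of a rotation group
-/

set_option autoImplicit false
set_option maxHeartbeats 800000

namespace Cfsg.Agent.Classical.Binary

open Cfsg.Agent.Small Cfsg.Agent.Small.SL2C Cfsg.Agent.Classical.Dickson
open Cfsg.Agent.Classical.SL2Four (pairGroup)

variable {F : Type*} [Field F] [Fintype F]

local notation "SL2" => Matrix.SpecialLinearGroup (Fin 2) F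
local notation "P2" => Matrix.ProjectiveSpecialLinearGroup (Fin 2) F
local notation "M2" => Matrix (Fin 2) (Fin 2) F

/-- An element of order at least three has non-zero trace. -/
theorem trace_ne_zero {A : SL2} (h : 3 ≤ orderOf (PSL2.pr A)) : A.1.trace ≠ 0 := by
  intro ht
  have h2 : PSL2.pr A ^ 2 = 1 := by
    rw [← map_pow, pr_eq_one_iff]
    refine ⟨-1, ?_⟩
    rw [Matrix.SpecialLinearGroup.coe_pow, pow_two, sq_eq, ht, zero_smul, zero_sub, neg_smul, one_smul]
  have := Nat.le_of_dvd two_pos (orderOf_dvd_of_pow_eq_one h2)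
  omega

/-- Elements commuting with a rotation lift to its torus. -/
theorem lift_commute (h2 : (2 : F) ≠ 0) {A G : SL2} (ht : A.1.trace ≠ 0)
    (h : Commute (PSL2.pr G) (PSL2.pr A)) : G ∈ tor A := by
  have h' := h.eq
  rw [← map_mul, ← map_mul, PSL2.pr_eq_iff] at h'
  obtain ⟨ε, hε, he⟩ := h'
  rw [val_mul', val_mul'] at he
  rcases sign_cases hε he with rfl | ⟨-, ht'⟩
  · rw [one_smul] at he
    exact mem_tor.mpr he
  · exact absurd (mul_left_cancel₀ h2 (by linear_combination ht' : (2 : F) * A.1.trace = 2 * 0)) ht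

/-- An element inverting a rotation inverts its centraliser. -/
theorem inverts_centralizer (h2 : (2 : F) ≠ 0) {y x g : P2} (h3 : 3 ≤ orderOf y) (hx : x * y * x⁻¹ = y⁻¹)
    (hg : Commute g y) : x * g * x⁻¹ = g⁻¹ := by
  obtain ⟨A, rfl⟩ := PSL2.pr_surjective y
  obtain ⟨X, rfl⟩ := PSL2.pr_surjective x
  obtain ⟨G, rfl⟩ := PSL2.pr_surjective g
  have ht := trace_ne_zero h3
  have hns : ¬ IsSc A.1 := fun h => by
    rw [pr_eq_one_iff.mpr h, orderOf_one] at h3
    omega
  rw [← map_inv, ← map_mul, ← map_mul, ← map_inv, PSL2.pr_eq_iff] at hx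
  obtain ⟨ε, hε, he⟩ := hx
  have hε1 : ε = 1 := by
    have := congrArg Matrix.trace he
    rw [Matrix.trace_smul, trace_conj (isConj_iff.mpr ⟨X, rfl⟩ : IsConj A (X * A * X⁻¹)).symm,
      Matrix.SpecialLinearGroup.coe_inv, Matrix.adjugate_fin_two, Matrix.trace_fin_two, Matrix.trace_fin_two] at this
    rw [Matrix.trace_fin_two] at ht
    simp at this
    exact mul_left_cancel₀ ht (by linear_combination -this)
  rw [hε1, one_smul] at he
  have hXA : X * A = A⁻¹ * X := mul_inv_eq_iff_eq_mul.mp (Subtype.ext he)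
  have := SL2C.inverts hns hXA (lift_commute h2 ht hg)
  rw [← map_inv, ← map_mul, ← map_mul, ← map_inv, this, mul_inv_cancel_right]

/-- The centraliser of a rotation of prime order `r`: large enough unless the torus has order `r` or `2r`. -/
theorem exists_centralizing (h2 : (2 : F) ≠ 0) {r : ℕ} (hr : r.Prime) (hr2 : r ≠ 2) (hq : Fintype.card F ≠ r)
    {y : P2} (hy : orderOf y = r) :
    (∃ g : P2, Commute g y ∧ g ∉ Subgroup.zpowers y ∧ g * g ∉ Subgroup.zpowers y) ∨
    ((Fintype.card F = 4 * r + 1 ∨ Fintype.card F + 1 = 4 * r) ∧ ∃ g : P2, Commute g y ∧ g ∉ Subgroup.zpowers y) ∨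
    ((Fintype.card F = 2 * r + 1 ∨ Fintype.card F + 1 = 2 * r) ∧ Nat.card (Subgroup.centralizer ({y} : Set P2)) = r) := by
  haveI : Fact r.Prime := ⟨hr⟩
  obtain ⟨A, rfl⟩ := PSL2.pr_surjective y
  have h3 : 3 ≤ orderOf (PSL2.pr A) := by have := hr.two_le; omega
  have ht0 := trace_ne_zero h3
  have hns : ¬ IsSc A.1 := fun h => by
    rw [pr_eq_one_iff.mpr h, orderOf_one] at h3
    omega
  by_cases ht : A.1.trace * A.1.trace = 4
  · left
    obtain ⟨p, hp⟩ := CharP.exists F
    haveI : Fact p.Prime := ⟨CharP.char_is_prime F p⟩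
    obtain ⟨x, hx, hconj⟩ := exists_pr_uS hns ht
    obtain ⟨c, hc⟩ := isConj_iff.mp hconj
    have hord : orderOf (PSL2.pr (PSL2.uS x)) = r := by
      rw [← hc, ← MulAut.conj_apply, MulEquiv.orderOf_eq, hy]
    have hpr : p = r := by rw [← hord, orderOf_pr_uS p hx]
    obtain ⟨n, hn0, hn⟩ := FiniteField.card F p
    have hlt : r < Fintype.card F :=
      lt_of_le_of_ne (by rw [hn, hpr]; exact Nat.le_self_pow n.ne_zero r) (Ne.symm hq)
    obtain ⟨z, hz⟩ : ∃ z : F, PSL2.pr (PSL2.uS z) ∉ Subgroup.zpowers (PSL2.pr (PSL2.uS x)) := by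
      by_contra! hcon
      have := Nat.card_le_card_of_injective
        (fun z : F => (⟨_, hcon z⟩ : Subgroup.zpowers (PSL2.pr (PSL2.uS x))))
        (fun a b h => PSL2.pr_uS_inj (congrArg Subtype.val h))
      rw [Nat.card_zpowers, hord, Nat.card_eq_fintype_card] at this
      omega
    have hmap : ∀ u : P2, c⁻¹ * u * c ∈ Subgroup.zpowers (PSL2.pr A) → u ∈ Subgroup.zpowers (PSL2.pr (PSL2.uS x)) := by
      rintro u ⟨k, hk⟩
      refine ⟨k, ?_⟩
      show PSL2.pr (PSL2.uS x) ^ k = u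
      rw [← hc, conj_zpow]
      simp only at hk
      rw [hk]; group
    refine ⟨c⁻¹ * PSL2.pr (PSL2.uS z) * c, ?_, fun h => hz (hmap _ h), fun h => hz ?_⟩
    · show _ * _ = _ * _
      rw [show PSL2.pr A = c⁻¹ * PSL2.pr (PSL2.uS x) * c by rw [← hc]; group]
      have e : PSL2.pr (PSL2.uS z) * PSL2.pr (PSL2.uS x) = PSL2.pr (PSL2.uS x) * PSL2.pr (PSL2.uS z) := by
        rw [← map_mul, ← map_mul, ← PSL2.uS_add, ← PSL2.uS_add, add_comm]
      calc c⁻¹ * PSL2.pr (PSL2.uS z) * c * (c⁻¹ * PSL2.pr (PSL2.uS x) * c)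
          = c⁻¹ * (PSL2.pr (PSL2.uS z) * PSL2.pr (PSL2.uS x)) * c := by group
        _ = _ := by rw [e]; group
    · have hsq := hmap (PSL2.pr (PSL2.uS z) * PSL2.pr (PSL2.uS z)) (by convert h using 1; group)
      have hp2 : p % 2 = 1 := by rw [hpr]; exact hr.eq_two_or_odd.resolve_left hr2
      have e : (PSL2.pr (PSL2.uS z) * PSL2.pr (PSL2.uS z)) ^ ((p + 1) / 2) = PSL2.pr (PSL2.uS z) := by
        rw [← pow_two, ← pow_mul, show 2 * ((p + 1) / 2) = p + 1 by omega, pow_succ, pr_uS_pow p z, one_mul]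
      rw [← e]
      exact pow_mem hsq _
  · set C := Subgroup.centralizer ({PSL2.pr A} : Set P2)
    haveI := isCyclic_centralizer ht
    obtain ⟨⟨T, hT⟩, hgen⟩ := IsCyclic.exists_generator (α := tor A)
    have hTA : Commute T A := commute_val.mpr (mem_tor.mp hT)
    have hgenP : ∀ u : P2, Commute u (PSL2.pr A) → u ∈ Subgroup.zpowers (PSL2.pr T) := fun u hu => by
      obtain ⟨U, rfl⟩ := PSL2.pr_surjective u
      obtain ⟨k, hk⟩ := Subgroup.mem_zpowers_iff.mp (hgen ⟨U, lift_commute h2 ht0 hu⟩)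
      exact ⟨k, by
        show PSL2.pr T ^ k = PSL2.pr U
        rw [← map_zpow]; exact congrArg PSL2.pr (congrArg Subtype.val hk)⟩
    have hCeq : C = Subgroup.zpowers (PSL2.pr T) := by
      ext u
      rw [Subgroup.mem_centralizer_singleton_iff]
      exact ⟨fun h => hgenP u h, fun ⟨k, hk⟩ => hk ▸ ((hTA.map PSL2.pr).zpow_left k).eq⟩
    have hN : 2 * Nat.card C = sol A.1.trace 1 := by
      have := card_centralizer_pr A hns
      rwa [center_card_odd h2, if_neg (fun h => ht0 h.2), mul_one] at this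
    have hcard : Nat.card C = orderOf (PSL2.pr T) := by rw [hCeq, Nat.card_zpowers]
    have hrN : r ∣ Nat.card C := by
      rw [← hy, ← Nat.card_zpowers]
      exact Subgroup.card_dvd_of_le (Subgroup.zpowers_le.mpr (Subgroup.mem_centralizer_singleton_iff.mpr rfl))
    have h2r : ∀ k, PSL2.pr T ^ k ∈ Subgroup.zpowers (PSL2.pr A) → Nat.card C ∣ k * r := fun k hk => by
      obtain ⟨j, hj⟩ := hk
      rw [hcard]
      refine orderOf_dvd_of_pow_eq_one ?_
      rw [pow_mul, ← hj]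
      show (PSL2.pr A ^ j) ^ r = 1
      rw [← zpow_natCast, ← zpow_mul, mul_comm, zpow_mul, zpow_natCast, ← hy, pow_orderOf_eq_one, one_zpow]
    have hsol := sol_eq ht
    have hodd := SL2Four.card_odd_of_two_ne_zero h2
    by_cases hN1 : Nat.card C = r
    · right; right
      exact ⟨by rcases hsol with ⟨-, h⟩ | ⟨-, h⟩ <;> omega, hN1⟩
    by_cases hN2 : Nat.card C = 2 * r
    · right; left
      refine ⟨by rcases hsol with ⟨-, h⟩ | ⟨-, h⟩ <;> omega, PSL2.pr T, hTA.map _, fun h => hN1 ?_⟩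
      have := h2r 1 (by rwa [pow_one])
      rw [one_mul] at this
      exact Nat.dvd_antisymm this hrN
    left
    obtain ⟨k, hk⟩ := hrN
    have key : ∀ e, e ∣ 2 → PSL2.pr T ^ e ∉ Subgroup.zpowers (PSL2.pr A) := fun e he h => by
      have h' := (h2r e h).trans (Nat.mul_dvd_mul_right he r)
      rw [hk, mul_comm r k] at h'
      rcases (Nat.dvd_prime Nat.prime_two).mp (Nat.dvd_of_mul_dvd_mul_right hr.pos h') with rfl | rfl
      · exact hN1 (by rw [hk, mul_one])
      · exact hN2 (by rw [hk, mul_comm])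
    exact ⟨PSL2.pr T, hTA.map _, by simpa using key 1 (one_dvd _), by simpa [pow_two] using key 2 dvd_rfl⟩

section Model

variable {G : Type*} [Group G] {H : Subgroup G} {X : Type*} [Group X] (f : H ≃* X) (g : G)

/-- The part of the model inside `g H g⁻¹`. -/
def meetSet : Subgroup X := ((sub H g).subgroupOf H).comap f.symm.toMonoidHom

theorem mem_meetSet {x : X} : x ∈ meetSet f g ↔ g⁻¹ * ((f.symm x : H) : G) * g ∈ H := by
  simp [meetSet, Subgroup.mem_subgroupOf, mem_sub, mul_assoc]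

/-- A violated triple in the model. -/
theorem not_bin_of_model {u v w a b : X} (ha : u⁻¹ * a * u ∈ meetSet f g) (hb : v⁻¹ * b * v ∈ meetSet f g)
    (hc : w⁻¹ * (b⁻¹ * a) * w ∈ meetSet f g)
    (h : ∀ s, ¬ (u⁻¹ * s * u ∈ meetSet f g ∧ v⁻¹ * s * v ∈ meetSet f g ∧ w⁻¹ * (s⁻¹ * a) * w ∈ meetSet f g)) :
    ¬ IsBin H := by
  intro hbin
  have push : ∀ {x : X}, x ∈ meetSet f g → ((f.symm x : H) : G) ∈ sub H g := fun {x} hx =>
    mem_sub.mpr ⟨(f.symm x).2, (mem_meetSet f g).mp hx⟩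
  obtain ⟨s, hs1, hs2, hs3⟩ := hbin.sub g (u := ((f.symm u : H) : G)) (v := ((f.symm v : H) : G))
    (w := ((f.symm w : H) : G)) (a := ((f.symm a : H) : G)) (b := ((f.symm b : H) : G))
    (f.symm u).2 (f.symm v).2 (f.symm w).2 (by simpa using push ha) (by simpa using push hb) (by simpa using push hc)
  have hsH : s ∈ H := by
    have := H.mul_mem (H.mul_mem (f.symm u).2 (mem_sub.mp hs1).1) (inv_mem (f.symm u).2)
    group at this
    simpa using this
  obtain ⟨s, rfl⟩ : ∃ s' : X, ((f.symm s' : H) : G) = s := ⟨f ⟨s, hsH⟩, by simp⟩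
  have pull : ∀ {x : X}, ((f.symm x : H) : G) ∈ sub H g → x ∈ meetSet f g := fun {x} hx =>
    (mem_meetSet f g).mpr (mem_sub.mp hx).2
  exact h s ⟨pull (by simpa using hs1), pull (by simpa using hs2), pull (by simpa using hs3)⟩

variable {g} {m : ℕ} (R : Rot X m)

theorem rot_mem_meetSet (hg : Commute g ((f.symm R.c : H) : G)) : R.c ∈ meetSet f g := by
  rw [mem_meetSet, mul_assoc, ← hg.eq, inv_mul_cancel_left]
  exact (f.symm R.c).2

theorem notMem_of_rot [NeZero m] (hg : Commute g ((f.symm R.c : H) : G))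
    (hg' : g ∉ Subgroup.zpowers ((f.symm R.c : H) : G)) : g ∉ H := by
  intro hH
  refine hg' ?_
  have hc : f ⟨g, hH⟩ * R.c = R.c * f ⟨g, hH⟩ := f.symm.injective (by
    rw [map_mul, map_mul, f.symm_apply_apply]
    exact Subtype.ext hg.eq)
  obtain ⟨i, hi⟩ := R.cent _ hc
  refine ⟨(i : ℕ), ?_⟩
  show ((f.symm R.c : H) : G) ^ ((i : ℕ) : ℤ) = g
  rw [zpow_natCast, ← Subgroup.coe_pow, ← map_pow, ← hi, f.symm_apply_apply]

end Model

/-- If `g ∉ H` centralises the rotation, what it keeps in `H` normalises the rotation group. -/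
theorem meet_normalises {H : Subgroup P2} {X : Type*} [Group X] (f : H ≃* X) (h2 : (2 : F) ≠ 0) (d : KleinData X) {m : ℕ} (R : Rot X m)
    (hgen : ∀ S : Subgroup X, R.c ∈ S → R.y ∈ S → d.x ∈ S ∧ d.y ∈ S)
    {g : P2} (hg : Commute g ((f.symm R.c : H) : P2)) (hgH : g ∉ H) :
    ∀ x ∈ meetSet f g, Nrm m R.c x := by
  intro x hx
  rcases R.word x with h | ⟨a, b, e, hw⟩
  · exact h
  exfalso
  have hc : R.c ∈ meetSet f g := rot_mem_meetSet f R hg
  have hy : R.y ∈ meetSet f g := by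
    rcases hw with hw | hw <;> rw [hw]
    · exact mul_mem (mul_mem (pow_mem hc _) hx) (pow_mem hc _)
    · exact mul_mem (mul_mem (mul_mem (mul_mem (pow_mem hc _) hx) (pow_mem hc _)) hx) (pow_mem hc _)
  obtain ⟨z, hz⟩ : ∃ z, z = f ⟨_, (mem_meetSet f g).mp hy⟩ := ⟨_, rfl⟩
  have hzv : ((f.symm z : H) : P2) = g⁻¹ * ((f.symm R.y : H) : P2) * g := by rw [hz, f.symm_apply_apply]
  obtain ⟨hy1, hy0, hy1', hy2⟩ := R.hy
  have hpow : ∀ (p : X) (p' : X) (n : ℕ), ((f.symm p' : H) : P2) = g⁻¹ * ((f.symm p : H) : P2) * g →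
      p ^ n = 1 → p' ^ n = 1 := fun p p' n he hn => f.symm.injective (Subtype.ext (by
    rw [map_pow, map_one, Subgroup.coe_pow, Subgroup.coe_one, he,
      show g⁻¹ * ((f.symm p : H) : P2) * g = MulAut.conj g⁻¹ ((f.symm p : H) : P2) by simp,
      ← map_pow, ← Subgroup.coe_pow, ← map_pow, hn, map_one, Subgroup.coe_one, map_one]))
  have hcv : g⁻¹ * ((f.symm R.c : H) : P2) * g = ((f.symm R.c : H) : P2) := by
    rw [mul_assoc, ← hg.eq, inv_mul_cancel_left]
  have hmulc : ∀ {p p' : X}, ((f.symm p' : H) : P2) = g⁻¹ * ((f.symm p : H) : P2) * g →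
      ((f.symm (R.c * p') : H) : P2) = g⁻¹ * ((f.symm (R.c * p) : H) : P2) * g := fun {p p'} he => by
    rw [map_mul, map_mul, Subgroup.coe_mul, Subgroup.coe_mul, he]
    nth_rewrite 1 [← hcv]
    group
  obtain ⟨i, hi⟩ := R.rigid z (fun e => hy1 (f.symm.injective (Subtype.ext (by
      rw [e, map_one, Subgroup.coe_one] at hzv
      rw [map_one, Subgroup.coe_one]
      have := congrArg (fun u => g * u * g⁻¹) hzv.symm
      simpa [mul_assoc] using this))))
    (hpow _ _ _ hzv hy0) (hpow _ _ _ (hmulc hzv) hy1')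
    (hpow _ _ _ (by rw [mul_assoc R.c, mul_assoc R.c]; exact hmulc (hmulc hzv)) hy2)
  obtain ⟨k, hk⟩ : ∃ k, k = ((f.symm (R.c ^ (i : ℕ)) : H) : P2) := ⟨_, rfl⟩
  have hkH : k ∈ H := hk ▸ Subtype.mem _
  have hgkc : Commute (g * k) ((f.symm R.c : H) : P2) := by
    refine hg.mul_left ?_
    rw [hk, map_pow, Subgroup.coe_pow]
    exact (Commute.refl _).pow_left _
  have hgky : Commute (g * k) ((f.symm R.y : H) : P2) := by
    rw [hi, map_mul, map_mul, map_inv, Subgroup.coe_mul, Subgroup.coe_mul, Subgroup.coe_inv, ← hk] at hzv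
    calc g * k * ((f.symm R.y : H) : P2) = g * (k * ((f.symm R.y : H) : P2) * k⁻¹) * k := by group
      _ = _ := by rw [hzv]; group
  let S : Subgroup X :=
    ((Subgroup.centralizer ({g * k} : Set P2)).comap H.subtype).comap f.symm.toMonoidHom
  have hmem : ∀ {u : X}, u ∈ S ↔ Commute ((f.symm u : H) : P2) (g * k) := fun {u} => by
    simp only [S, Subgroup.mem_comap, Subgroup.subtype_apply, MulEquiv.coe_toMonoidHom, Subgroup.mem_centralizer_singleton_iff, commute_iff_eq]
  obtain ⟨hdx, hdy⟩ := hgen S (hmem.mpr hgkc.symm) (hmem.mpr hgky.symm)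
  rw [hmem] at hdx hdy
  refine hgH ?_
  have hV := SL2Four.klein_self_centralizing h2 (SL2Four.pairGroup_isKleinFour (d.isPair f))
    (show g * k ∈ Subgroup.centralizer (pairGroup (d.isPair f) : Set P2) from Subgroup.mem_centralizer_iff.mpr (by
      rintro u (rfl | rfl | rfl | rfl)
      · simp
      · exact hdx.eq
      · exact hdy.eq
      · exact (hdx.mul_left hdy).eq))
  have hgk : g * k ∈ H := by
    rcases hV with h | h | h | h <;> rw [h]
    · exact one_mem H
    · exact Subtype.mem _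
    · exact Subtype.mem _
    · exact mul_mem (Subtype.mem _) (Subtype.mem _)
  have := mul_mem hgk (inv_mem hkH)
  rwa [mul_inv_cancel_right] at this

end Cfsg.Agent.Classical.Binary
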