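import Cfsg.Agent.Lib.Classical.Binary.Poly

/-!
# Polyhedral subgroups of `PSL₂(7)`, `PSL₂(9)` and `PSL₂(11)`
-/

set_option autoImplicit false
set_option maxHeartbeats 800000

namespace Cfsg.Agent.Classical.Binary

open Cfsg.Agent.Small Cfsg.Agent.Small.SL2C Cfsg.Agent.Classical.Dickson
open Cfsg.Agent.Classical.SL2Four (IsPair pairGroup)

/-- Two-transitivity from small intersections. -/
theorem two_transitive_of_meet {G : Type*} [Group G] [Finite G] {H : Subgroup G}
    (h : ∀ x : G, x ∉ H → (H.index - 1) * Nat.card (sub H x) ≤ Nat.card H) :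
    ∀ x y : G, x ∉ H → y ∉ H → ∃ k ∈ H, y⁻¹ * k * x ∈ H := by
  classical
  intro x y hx hy
  haveI : Fintype (G ⧸ H) := Fintype.ofFinite _
  obtain ⟨P, hP⟩ : ∃ P : G ⧸ H, P = (x : G ⧸ H) := ⟨_, rfl⟩
  have hne : ∀ {z : G}, z ∉ H → ((z : G) : G ⧸ H) ≠ ((1 : G) : G ⧸ H) := fun {z} hz e =>
    hz (by rw [QuotientGroup.eq, mul_one] at e; exact inv_mem_iff.mp e)
  have hsub : MulAction.orbit H P ⊆ ({((1 : G) : G ⧸ H)}ᶜ : Set (G ⧸ H)) := by
    rintro Q ⟨k, rfl⟩
    rw [hP]
    exact hne (z := (k : G) * x) fun e => hx (by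
      have := mul_mem (inv_mem k.2) e
      rwa [inv_mul_cancel_left] at this)
  have hcard : Nat.card ({((1 : G) : G ⧸ H)}ᶜ : Set (G ⧸ H)) = H.index - 1 := by
    rw [Nat.card_coe_set_eq, Set.ncard_compl, Set.ncard_singleton, Subgroup.index]
  have hst : Nat.card (MulAction.stabilizer H P) ≤ Nat.card (sub H x) :=
    Nat.card_le_card_of_injective (fun k => (⟨((k : H) : G), mem_sub.mpr ⟨(k : H).2, by
      have hk : ((k : H) : G) • P = P := k.2
      have hk' : ((k : H) : G) • ((x : G) : G ⧸ H) = ((x : G) : G ⧸ H) := by rw [← hP]; exact hk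
      exact (smul_mk_iff H _ _ _).mp hk'⟩⟩ : sub H x)) (fun a b e => Subtype.ext (Subtype.ext (congrArg (fun s : sub H x => (s : G)) e)))
  have horb : Nat.card (MulAction.orbit H P) * Nat.card (MulAction.stabilizer H P) = Nat.card H := by
    rw [← Nat.card_prod]
    exact Nat.card_congr (MulAction.orbitProdStabilizerEquivGroup H P)
  have hge : H.index - 1 ≤ Nat.card (MulAction.orbit H P) := by
    refine Nat.le_of_mul_le_mul_right ?_ (Nat.card_pos (α := MulAction.stabilizer H P))
    exact (Nat.mul_le_mul_left _ hst).trans ((h x hx).trans horb.ge)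
  have heq := Set.eq_of_subset_of_ncard_le hsub (by rwa [← Nat.card_coe_set_eq, ← Nat.card_coe_set_eq, hcard])
  obtain ⟨k, hk⟩ : ((y : G) : G ⧸ H) ∈ MulAction.orbit H P := by rw [heq]; exact hne hy
  refine ⟨k, k.2, ?_⟩
  rw [hP] at hk
  exact (smul_mk_iff H _ _ _).mp hk

section Fusion

variable {G : Type*} [Group G] {H : Subgroup G} {X : Type*} [Group X] (f : H ≃* X)

/-- An element kept in `H`, conjugate in `H` to its image, with centraliser inside `H`. -/
theorem mem_of_fused {g a : G} (ha : a ∈ H) (ha' : g⁻¹ * a * g ∈ H) {h : X}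
    (hh : h * f ⟨a, ha⟩ * h⁻¹ = f ⟨_, ha'⟩) (hC : ∀ z : G, Commute z a → z ∈ H) : g ∈ H := by
  have h' : ((f.symm h : H) : G) * a * ((f.symm h : H) : G)⁻¹ = g⁻¹ * a * g := by
    have := congrArg (fun z : X => ((f.symm z : H) : G)) hh
    simpa using this
  have hcomm : Commute (g * ((f.symm h : H) : G)) a := by
    show _ * _ = _ * _
    calc g * ((f.symm h : H) : G) * a = g * (((f.symm h : H) : G) * a * ((f.symm h : H) : G)⁻¹) * ((f.symm h : H) : G) := by group
      _ = _ := by rw [h']; group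
  have := mul_mem (hC _ hcomm) (inv_mem (f.symm h).2)
  rwa [mul_inv_cancel_right] at this

end Fusion

variable {F : Type*} [Field F] [Fintype F]

local notation "SL2" => Matrix.SpecialLinearGroup (Fin 2) F
local notation "P2" => Matrix.ProjectiveSpecialLinearGroup (Fin 2) F

theorem two_mul_card_P2 (h2 : (2 : F) ≠ 0) :
    2 * Nat.card P2 = Fintype.card F * (Fintype.card F ^ 2 - 1) := by
  have := card_P2 (F := F)
  rw [two_dvd_pred h2] at this
  omega

theorem index_eq (h2 : (2 : F) ≠ 0) {H : Subgroup P2} {n : ℕ} (hn : Nat.card H = n) {i : ℕ}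
    (hi : 2 * (n * i) = Fintype.card F * (Fintype.card F ^ 2 - 1)) (hn0 : 0 < n) : H.index = i := by
  have h := H.card_mul_index
  rw [hn] at h
  have := two_mul_card_P2 (F := F) h2
  exact Nat.eq_of_mul_eq_mul_left hn0 (by omega)

/-- Rotations of order `k` generating their centraliser. -/
theorem centralizer_small (h2 : (2 : F) ≠ 0) {k : ℕ} (hk3 : 3 ≤ k) (hco : Nat.Coprime k (Fintype.card F))
    (hm : ∀ m, k ∣ m → (2 * m + 1 = Fintype.card F ∨ 2 * m = Fintype.card F + 1) → m = k)
    {y : P2} (hy : orderOf y = k) : ∀ z, Commute z y → z ∈ Subgroup.zpowers y := by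
  obtain ⟨A, rfl⟩ := PSL2.pr_surjective y
  have h3 : 3 ≤ orderOf (PSL2.pr A) := by omega
  have ht0 := trace_ne_zero h3
  have hns : ¬ IsSc A.1 := fun h => by
    rw [pr_eq_one_iff.mpr h, orderOf_one] at h3
    omega
  have ht : A.1.trace * A.1.trace ≠ 4 := by
    intro ht
    obtain ⟨p, hp⟩ := CharP.exists F
    haveI : Fact p.Prime := ⟨CharP.char_is_prime F p⟩
    obtain ⟨n, -, hn⟩ := FiniteField.card F p
    obtain ⟨x, hx, hc⟩ := exists_pr_uS hns ht
    obtain ⟨c, hc⟩ := isConj_iff.mp hc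
    have hord := orderOf_pr_uS p hx
    rw [← hc, ← MulAut.conj_apply, MulEquiv.orderOf_eq, hy] at hord
    have h1 : k ∣ Fintype.card F := by rw [hn, hord]; exact dvd_pow_self p n.ne_zero
    have := Nat.dvd_gcd dvd_rfl h1
    rw [hco.gcd_eq_one, Nat.dvd_one] at this
    omega
  have hN : 2 * Nat.card (Subgroup.centralizer ({PSL2.pr A} : Set P2)) = sol A.1.trace 1 := by
    have := card_centralizer_pr A hns
    rwa [center_card_odd h2, if_neg (fun h => ht0 h.2), mul_one] at this
  have hle : Subgroup.zpowers (PSL2.pr A) ≤ Subgroup.centralizer ({PSL2.pr A} : Set P2) :=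
    Subgroup.zpowers_le.mpr (Subgroup.mem_centralizer_singleton_iff.mpr rfl)
  have hd := Subgroup.card_dvd_of_le hle
  rw [Nat.card_zpowers, hy] at hd
  have hq : 1 ≤ Fintype.card F := Fintype.card_pos
  have hcard : Nat.card (Subgroup.centralizer ({PSL2.pr A} : Set P2)) = k :=
    hm _ hd (by rcases sol_eq ht with ⟨-, h⟩ | ⟨-, h⟩ <;> omega)
  intro z hz
  rw [Subgroup.eq_of_le_of_card_ge hle (by rw [Nat.card_zpowers, hy, hcard])]
  exact Subgroup.mem_centralizer_singleton_iff.mpr hz.eq

/-- `S₄` in `PSL₂(7)`. -/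
theorem s4_not_bin_seven (h2 : (2 : F) ≠ 0) (h7 : Fintype.card F = 7) {H : Subgroup P2}
    (f : H ≃* Equiv.Perm (Fin 4)) : ¬ IsBin H := by
  intro hbin
  have hH : Nat.card H = 24 := by
    rw [Nat.card_congr f.toEquiv, Nat.card_perm, Nat.card_eq_fintype_card, Fintype.card_fin]; rfl
  have hidx : H.index = 7 := index_eq h2 hH (by rw [h7]; norm_num) (by norm_num)
  have hnoc : ∀ g : P2, g ∉ H → ∀ a ∈ sub H g, a ^ 3 = 1 ∨ a ^ 4 = 1 → a * a = 1 := by
    intro g hg a ha hord
    obtain ⟨haH, haH'⟩ := mem_sub.mp ha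
    by_contra hne
    refine hg ?_
    have key : ∀ k, 3 ≤ k → k ≤ 4 → orderOf a = k → (∀ p q : Equiv.Perm (Fin 4),
        orderOf p = k → orderOf q = k → ∃ h, h * p * h⁻¹ = q) → g ∈ H := by
      intro k hk3 hk4 hk hconj
      obtain ⟨h, hh⟩ := hconj (f ⟨a, haH⟩) (f ⟨_, haH'⟩)
        (by rw [f.orderOf_eq, Subgroup.orderOf_mk, hk])
        (by rw [f.orderOf_eq, Subgroup.orderOf_mk, show g⁻¹ * a * g = MulAut.conj g⁻¹ a by simp, MulEquiv.orderOf_eq, hk])
      refine mem_of_fused f haH haH' hh fun z hz => ?_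
      exact Subgroup.zpowers_le.mpr haH (centralizer_small h2 hk3 (by interval_cases k <;> rw [h7] <;> decide)
        (fun m hm hm' => by rw [h7] at hm'; interval_cases k <;> omega) hk z hz)
    rcases hord with h3 | h4
    · haveI : Fact (Nat.Prime 3) := ⟨Nat.prime_three⟩
      refine key 3 le_rfl (by norm_num) (orderOf_eq_prime h3 fun e => hne (by rw [e, mul_one])) fun p q hp hq => ?_
      refine s4_three p q ?_ (orderOf_dvd_iff_pow_eq_one.mp hp.dvd) ?_ (orderOf_dvd_iff_pow_eq_one.mp hq.dvd) <;>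
        intro e <;> simp [e] at hp hq
    · haveI : Fact (Nat.Prime 2) := ⟨Nat.prime_two⟩
      have hord4 : orderOf a = 2 ^ (1 + 1) :=
        orderOf_eq_prime_pow (by rw [pow_one, pow_two]; exact hne) (by norm_num; exact h4)
      refine key 4 (by norm_num) le_rfl (by rw [hord4]; norm_num) fun p q hp hq => ?_
      refine s4_four p q ?_ (orderOf_dvd_iff_pow_eq_one.mp hp.dvd) ?_ (orderOf_dvd_iff_pow_eq_one.mp hq.dvd) <;> intro e
      · have := Nat.le_of_dvd two_pos (orderOf_dvd_of_pow_eq_one (show p ^ 2 = 1 by rw [pow_two]; exact e)); omega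
      · have := Nat.le_of_dvd two_pos (orderOf_dvd_of_pow_eq_one (show q ^ 2 = 1 by rw [pow_two]; exact e)); omega
  have hmeet : ∀ g : P2, g ∉ H → (H.index - 1) * Nat.card (sub H g) ≤ Nat.card H := by
    intro g hg
    rw [hidx, hH]
    have hsq : ∀ a ∈ sub H g, a * a = 1 := by
      intro a ha
      have hf : ∀ n, (f ⟨a, (mem_sub.mp ha).1⟩) ^ n = 1 → a ^ n = 1 := fun n h => by
        have := congrArg (fun z => ((f.symm z : H) : P2)) h
        simpa using this
      rcases s4_orders' (f ⟨a, (mem_sub.mp ha).1⟩) with h | h | h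
      · exact hnoc g hg a ha (Or.inl (hf 3 h))
      · exact hnoc g hg a ha (Or.inr (hf 4 h))
      · rw [← pow_two]; exact hf 2 (by rw [pow_two]; exact h)
    suffices Nat.card (sub H g) ≤ 4 by omega
    classical
    by_contra hgt
    push Not at hgt
    haveI : Fintype (sub H g) := Fintype.ofFinite _
    rw [Nat.card_eq_fintype_card, ← Finset.card_univ] at hgt
    obtain ⟨a, -, ha⟩ := Finset.exists_mem_notMem_of_card_lt_card
      (show ({1} : Finset (sub H g)).card < Finset.univ.card by rw [Finset.card_singleton]; omega)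
    obtain ⟨b, -, hb⟩ := Finset.exists_mem_notMem_of_card_lt_card
      (show ({1, a} : Finset (sub H g)).card < Finset.univ.card from lt_of_le_of_lt Finset.card_le_two (by omega))
    obtain ⟨c, -, hc⟩ := Finset.exists_mem_notMem_of_card_lt_card
      (show ({1, a, b, a * b} : Finset (sub H g)).card < Finset.univ.card from lt_of_le_of_lt Finset.card_le_four (by omega))
    simp only [Finset.mem_insert, Finset.mem_singleton, not_or] at ha hb hc
    let ψ : sub H g →* Equiv.Perm (Fin 4) := f.toMonoidHom.comp (Subgroup.inclusion inf_le_left)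
    have hψ : Function.Injective ψ := f.injective.comp (Subgroup.inclusion_injective _)
    have hs : ∀ u : sub H g, ψ u * ψ u = 1 := fun u => by
      rw [← map_mul, show u * u = 1 from Subtype.ext (hsq _ u.2), map_one]
    have hcm : ∀ u v : sub H g, ψ u * ψ v = ψ v * ψ u := fun u v => by
      have h := hs (u * v)
      rw [map_mul] at h
      rw [mul_eq_one_iff_eq_inv] at h
      rw [h, mul_inv_rev, inv_eq_of_mul_eq_one_left (hs u), inv_eq_of_mul_eq_one_left (hs v)]
    have hne : ∀ {u v : sub H g}, ¬ u = v → ψ u ≠ ψ v := fun h => hψ.ne h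
    have h1 : ∀ {u : sub H g}, ¬ u = 1 → ψ u ≠ 1 := fun h e => h (hψ (e.trans (map_one ψ).symm))
    have := s4_elementary (ψ a) (ψ b) (ψ c) (hs a) (hs b) (hs c) (hcm a b) (hcm a c) (hcm b c) (h1 ha) (h1 hb.1)
      (h1 hc.1) (hne (Ne.symm hb.2)) (hne (Ne.symm hc.2.1)) (hne (Ne.symm hc.2.2.1))
    rw [← map_mul] at this
    exact hc.2.2.2 (hψ this)
  have := hbin.two_transitive (by omega) (two_transitive_of_meet hmeet)
  have hP := two_mul_card_P2 (F := F) h2
  rw [h7] at hP
  rw [hidx] at this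
  norm_num [Nat.factorial] at this hP
  omega

/-- `A₅` in `PSL₂(9)` and `PSL₂(11)`. -/
theorem a5_not_bin_small (h2 : (2 : F) ≠ 0) (hq : Fintype.card F = 9 ∨ Fintype.card F = 11) {H : Subgroup P2}
    (f : H ≃* alternatingGroup (Fin 5)) : ¬ IsBin H := by
  intro hbin
  haveI : Fact (Nat.Prime 5) := ⟨Nat.prime_five⟩
  have hH : Nat.card H = 60 := by
    rw [Nat.card_congr f.toEquiv, nat_card_alternatingGroup, Nat.card_fin]; rfl
  have hcs : ∀ {y : P2}, orderOf y = 5 → ∀ z, Commute z y → z ∈ Subgroup.zpowers y := fun {y} hy =>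
    centralizer_small h2 (by norm_num) (by rcases hq with h | h <;> rw [h] <;> decide)
      (fun m hm hm' => by omega) hy
  have hno5 : ∀ g : P2, g ∉ H → ∀ a ∈ sub H g, a ^ 5 = 1 → a = 1 := by
    intro g hg a ha h5
    obtain ⟨haH, haH'⟩ := mem_sub.mp ha
    by_contra hne
    have hord : orderOf a = 5 := orderOf_eq_prime h5 hne
    have hne' : f ⟨a, haH⟩ ≠ 1 := fun e => hne (congrArg Subtype.val (f.injective (e.trans (map_one f).symm)))
    have h5' : f ⟨a, haH⟩ ^ 5 = 1 := by
      rw [← map_pow, show (⟨a, haH⟩ : H) ^ 5 = 1 from Subtype.ext (by simpa using h5), map_one]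
    have hcp : f ⟨_, haH'⟩ ^ 5 = 1 := by
      rw [← map_pow, show (⟨_, haH'⟩ : H) ^ 5 = 1 from Subtype.ext (by
        simp only [SubmonoidClass.mk_pow, Subgroup.coe_one]
        rw [show g⁻¹ * a * g = MulAut.conj g⁻¹ a by simp, ← map_pow, h5, map_one]), map_one]
    have hne'' : f ⟨_, haH'⟩ ≠ 1 := fun e => hne (by
      have := congrArg Subtype.val (f.injective (e.trans (map_one f).symm))
      simp only [Subgroup.coe_one] at this
      have h' := congrArg (fun z => g * z * g⁻¹) this
      simpa [mul_assoc] using h')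
    obtain ⟨h₁, hh₁⟩ := a5_five _ hne' h5'
    obtain ⟨h₂, hh₂⟩ := a5_five _ hne'' hcp
    by_cases hsame : ∃ h, h * f ⟨a, haH⟩ * h⁻¹ = f ⟨_, haH'⟩
    · obtain ⟨h, hh⟩ := hsame
      exact hg (mem_of_fused f haH haH' hh fun z hz => Subgroup.zpowers_le.mpr haH (hcs hord z hz))
    · have hsq : ∃ n : P2, n * a * n⁻¹ = a * a ∨ ∃ b : P2, orderOf b = 5 ∧ n * b * n⁻¹ = b * b := by
        obtain ⟨p, hp⟩ : ∃ p, p = ((f.symm rotA5.c : H) : P2) := ⟨_, rfl⟩
        have hp5 : orderOf p = 5 := by
          rw [hp, Subgroup.orderOf_coe, f.symm.orderOf_eq]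
          exact orderOf_eq_prime rotA5.cpow (by decide +kernel)
        obtain ⟨k₁, hk₁⟩ : ∃ k, k = ((f.symm h₁ : H) : P2) := ⟨_, rfl⟩
        obtain ⟨k₂, hk₂⟩ : ∃ k, k = ((f.symm h₂ : H) : P2) := ⟨_, rfl⟩
        have push : ∀ {h x y : alternatingGroup (Fin 5)}, h * x * h⁻¹ = y →
            ((f.symm h : H) : P2) * ((f.symm x : H) : P2) * ((f.symm h : H) : P2)⁻¹ = ((f.symm y : H) : P2) :=
          fun {h x y} e => by rw [← e]; simp
        have sq : ((f.symm (rotA5.c * rotA5.c) : H) : P2) = p * p := by rw [hp]; simp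
        rcases hh₁ with e₁ | e₁ <;> rcases hh₂ with e₂ | e₂
        · exact absurd ⟨h₂⁻¹ * h₁, by rw [show h₂⁻¹ * h₁ * f ⟨a, haH⟩ * (h₂⁻¹ * h₁)⁻¹ = h₂⁻¹ * (h₁ * f ⟨a, haH⟩ * h₁⁻¹) * h₂ by group, e₁, ← e₂]; group⟩ hsame
        · have q₁ := push e₁
          have q₂ := push e₂
          rw [f.symm_apply_apply, ← hk₁, ← hp] at q₁
          rw [f.symm_apply_apply, ← hk₂, sq] at q₂
          exact ⟨k₂ * g⁻¹ * k₁⁻¹, Or.inr ⟨p, hp5, by rw [← q₂]; nth_rewrite 1 [← q₁]; group⟩⟩
        · have q₁ := push e₁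
          have q₂ := push e₂
          rw [f.symm_apply_apply, ← hk₁, sq] at q₁
          rw [f.symm_apply_apply, ← hk₂, ← hp] at q₂
          exact ⟨k₁ * g * k₂⁻¹, Or.inr ⟨p, hp5, by rw [← q₁]; nth_rewrite 1 [← q₂]; group⟩⟩
        · exact absurd ⟨h₂⁻¹ * h₁, by rw [show h₂⁻¹ * h₁ * f ⟨a, haH⟩ * (h₂⁻¹ * h₁)⁻¹ = h₂⁻¹ * (h₁ * f ⟨a, haH⟩ * h₁⁻¹) * h₂ by group, e₁, ← e₂]; group⟩ hsame
      obtain ⟨n, hn | ⟨b, hb, hn⟩⟩ := hsq
      · exact not_square_conj h2 hq hord hn
      · exact not_square_conj h2 hq hb hn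
  have horders : ∀ {g : P2} (a : sub H g), (a : P2) ^ 5 = 1 ∨ (a : P2) ^ 3 = 1 ∨ (a : P2) * a = 1 := fun {g} a => by
    have := a5_orders' (f ⟨_, (mem_sub.mp a.2).1⟩)
    have hf : ∀ n, (f ⟨_, (mem_sub.mp a.2).1⟩) ^ n = 1 → (a : P2) ^ n = 1 := fun n h => by
      have := congrArg (fun z => ((f.symm z : H) : P2)) h
      simpa using this
    rcases this with h | h | h
    · exact Or.inl (hf 5 h)
    · exact Or.inr (Or.inl (hf 3 h))
    · exact Or.inr (Or.inr (by rw [← pow_two]; exact hf 2 (by rw [pow_two]; exact h)))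
  have hdvd : ∀ g : P2, g ∉ H → Nat.card (sub H g) ∣ 12 := by
    intro g hg
    have h60 : Nat.card (sub H g) ∣ 60 := hH ▸ Subgroup.card_dvd_of_le inf_le_left
    refine Nat.Coprime.dvd_of_dvd_mul_right ?_ (show Nat.card (sub H g) ∣ 12 * 5 from h60)
    refine ((Nat.Prime.coprime_iff_not_dvd Nat.prime_five).mpr fun h5 => ?_).symm
    obtain ⟨a, ha⟩ := exists_prime_orderOf_dvd_card' (G := sub H g) 5 h5
    have := hno5 g hg a a.2 (by rw [← Subgroup.coe_pow, ← ha, pow_orderOf_eq_one]; rfl)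
    rw [show a = 1 from Subtype.ext this, orderOf_one] at ha
    omega
  have hmeet : ∀ g : P2, g ∉ H → (H.index - 1) * Nat.card (sub H g) ≤ Nat.card H := by
    intro g hg
    rcases hq with h9 | h11
    · rw [index_eq h2 hH (i := 6) (by rw [h9]; norm_num) (by norm_num), hH]
      have := Nat.le_of_dvd (by norm_num) (hdvd g hg)
      omega
    · rw [index_eq h2 hH (i := 11) (by rw [h11]; norm_num) (by norm_num), hH]
      suffices Nat.card (sub H g) ≠ 12 by
        have h := hdvd g hg
        have := Nat.le_of_dvd (by norm_num) h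
        interval_cases Nat.card (sub H g) <;> omega
      intro h12
      haveI : Fact (Nat.Prime 2) := ⟨Nat.prime_two⟩
      obtain ⟨W, hW⟩ := Sylow.exists_subgroup_card_pow_prime (G := sub H g) 2 (n := 2) (by rw [h12]; norm_num)
      have hWsq : ∀ w ∈ W, (w : P2) * w = 1 := fun w hw => by
        have h4 : (w : P2) ^ 4 = 1 := by
          have := congrArg (fun z : W => ((z : sub H g) : P2)) (pow_card_eq_one' (x := (⟨w, hw⟩ : W)))
          rw [hW] at this
          simpa using this
        rcases horders w with h | h | h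
        · have h1 : (w : P2) = 1 := by rw [pow_succ, h4, one_mul] at h; exact h
          rw [h1, mul_one]
        · have h1 : (w : P2) = 1 := by rw [pow_succ, h, one_mul] at h4; exact h4
          rw [h1, mul_one]
        · exact h
      classical
      haveI : Fintype W := Fintype.ofFinite _
      have hW4 : (Finset.univ : Finset W).card = 4 := by rw [Finset.card_univ, ← Nat.card_eq_fintype_card, hW]; norm_num
      obtain ⟨⟨a, haW⟩, -, ha1⟩ := Finset.exists_mem_notMem_of_card_lt_card
        (show ({1} : Finset W).card < Finset.univ.card by rw [Finset.card_singleton, hW4]; norm_num)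
      obtain ⟨⟨b, hbW⟩, -, hb1⟩ := Finset.exists_mem_notMem_of_card_lt_card
        (show ({1, ⟨a, haW⟩} : Finset W).card < Finset.univ.card from lt_of_le_of_lt Finset.card_le_two (by rw [hW4]; norm_num))
      simp only [Finset.mem_insert, Finset.mem_singleton, not_or] at ha1 hb1
      have ha0 : (a : P2) ≠ 1 := fun e => ha1 (Subtype.ext (Subtype.ext e))
      have hb0 : (b : P2) ≠ 1 := fun e => hb1.1 (Subtype.ext (Subtype.ext e))
      have hab : (a : P2) ≠ b := fun e => hb1.2 (Subtype.ext (Subtype.ext e.symm))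
      have hinv : ∀ {w : sub H g}, w ∈ W → (w : P2)⁻¹ = w := fun hw => inv_eq_of_mul_eq_one_left (hWsq _ hw)
      have hcomm : (a : P2) * b = b * a := by
        have h := hinv (mul_mem haW hbW)
        rw [Subgroup.coe_mul, mul_inv_rev, hinv haW, hinv hbW] at h
        exact h.symm
      let φ : sub H g →* alternatingGroup (Fin 5) := f.toMonoidHom.comp (Subgroup.inclusion inf_le_left)
      let κ : sub H g →* alternatingGroup (Fin 5) :=
        { toFun := fun w => f ⟨_, (mem_sub.mp w.2).2⟩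
          map_one' := by
            rw [show (⟨_, (mem_sub.mp (1 : sub H g).2).2⟩ : H) = 1 from Subtype.ext (by simp), map_one]
          map_mul' := fun u v => by
            rw [← map_mul]; congr 1; apply Subtype.ext
            simp only [Subgroup.coe_mul]; group }
      have hκinj : Function.Injective κ := fun u v e => Subtype.ext (by
        have := congrArg Subtype.val (f.injective e)
        simp only at this
        exact mul_left_cancel (mul_right_cancel this))
      have hφinj : Function.Injective φ := f.injective.comp (Subgroup.inclusion_injective _)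
      have kl : ∀ (χ : sub H g →* alternatingGroup (Fin 5)), Function.Injective χ → ∃ h : alternatingGroup (Fin 5),
          (h * χ a * h⁻¹ = dA5.x ∨ h * χ a * h⁻¹ = dA5.y ∨ h * χ a * h⁻¹ = dA5.x * dA5.y) ∧
          (h * χ b * h⁻¹ = dA5.x ∨ h * χ b * h⁻¹ = dA5.y ∨ h * χ b * h⁻¹ = dA5.x * dA5.y) := fun χ hχ =>
        a5_klein _ _ (by rw [← map_mul, show a * a = 1 from Subtype.ext (hWsq _ haW), map_one])
          (by rw [← map_mul, show b * b = 1 from Subtype.ext (hWsq _ hbW), map_one])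
          (by rw [← map_mul, ← map_mul, show a * b = b * a from Subtype.ext hcomm])
          (fun e => ha0 (congrArg Subtype.val (hχ (e.trans (map_one χ).symm))))
          (fun e => hb0 (congrArg Subtype.val (hχ (e.trans (map_one χ).symm))))
          (fun e => hab (congrArg Subtype.val (hχ e)))
      obtain ⟨h₁, ha₁, hb₁⟩ := kl φ hφinj
      obtain ⟨h₂, ha₂, hb₂⟩ := kl κ hκinj
      have hV := dA5.isPair f
      haveI := SL2Four.pairGroup_isKleinFour hV
      have hmemV : ∀ v, (v = dA5.x ∨ v = dA5.y ∨ v = dA5.x * dA5.y) → ((f.symm v : H) : P2) ∈ pairGroup hV := by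
        rintro v (rfl | rfl | rfl)
        · exact Or.inr (Or.inl rfl)
        · exact Or.inr (Or.inr (Or.inl rfl))
        · refine Or.inr (Or.inr (Or.inr ?_))
          rw [map_mul, Subgroup.coe_mul]; rfl
      obtain ⟨k₁, hk₁⟩ : ∃ k, k = ((f.symm h₁ : H) : P2) := ⟨_, rfl⟩
      obtain ⟨k₂, hk₂⟩ : ∃ k, k = ((f.symm h₂ : H) : P2) := ⟨_, rfl⟩
      have hφv : ∀ w, ((f.symm (h₁ * φ w * h₁⁻¹) : H) : P2) = k₁ * w * k₁⁻¹ := fun w => by
        rw [hk₁]; simp [φ]; rfl
      have hκv : ∀ w, ((f.symm (h₂ * κ w * h₂⁻¹) : H) : P2) = k₂ * (g⁻¹ * w * g) * k₂⁻¹ := fun w => by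
        rw [hk₂]; simp [κ]
      have hx1 : k₁ * a * k₁⁻¹ ∈ pairGroup hV := hφv a ▸ hmemV _ ha₁
      have hy1 : k₁ * b * k₁⁻¹ ∈ pairGroup hV := hφv b ▸ hmemV _ hb₁
      have hx2 : k₂ * (g⁻¹ * a * g) * k₂⁻¹ ∈ pairGroup hV := hκv a ▸ hmemV _ ha₂
      have hy2 : k₂ * (g⁻¹ * b * g) * k₂⁻¹ ∈ pairGroup hV := hκv b ▸ hmemV _ hb₂
      have hab2 : IsPair ((a : P2), (b : P2)) :=
        ⟨orderOf_eq_prime (by rw [pow_two]; exact hWsq _ haW) ha0,
          orderOf_eq_prime (by rw [pow_two]; exact hWsq _ hbW) hb0, hcomm, hab⟩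
      have mapPair : ∀ k : P2, IsPair (k * a * k⁻¹, k * b * k⁻¹) := fun k => by
        obtain ⟨p1, p2, p3, p4⟩ := hab2
        refine ⟨?_, ?_, p3.map (MulAut.conj k).toMonoidHom, fun e => p4 (mul_left_cancel (mul_right_cancel e))⟩
        · show orderOf (MulAut.conj k (a : P2)) = 2
          rw [MulEquiv.orderOf_eq]; exact p1
        · show orderOf (MulAut.conj k (b : P2)) = 2
          rw [MulEquiv.orderOf_eq]; exact p2
      have e1 := SL2Four.eq_pairGroup (V := pairGroup hV) (mapPair k₁) hx1 hy1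
      have e2 := SL2Four.eq_pairGroup (V := pairGroup hV) (mapPair (k₂ * g⁻¹))
        (by convert hx2 using 1; group) (by convert hy2 using 1; group)
      have m1 := SL2Four.map_pairGroup k₁ hab2 (mapPair k₁)
      have m2 := SL2Four.map_pairGroup (k₂ * g⁻¹) hab2 (mapPair (k₂ * g⁻¹))
      rw [← e1] at m1
      rw [← e2] at m2
      have hn : k₂ * g⁻¹ * k₁⁻¹ ∈ Subgroup.normalizer (pairGroup hV : Set P2) := by
        rw [Subgroup.mem_normalizer_iff_map_conj_eq]
        nth_rewrite 1 [← m1]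
        rw [Subgroup.map_map]
        conv_rhs => rw [← m2]
        congr 1
        ext z
        simp [mul_assoc]
      have hNH : Subgroup.normalizer (pairGroup hV : Set P2) ≤ H := by
        have hle : pairGroup hV ≤ Subgroup.normalizer (pairGroup hV : Set P2) ⊓ H := le_inf Subgroup.le_normalizer (by
          rintro u (rfl | rfl | rfl | rfl)
          · exact one_mem H
          · exact (f.symm _).2
          · exact (f.symm _).2
          · exact mul_mem (f.symm _).2 (f.symm _).2)
        have h4 : 4 ∣ Nat.card (Subgroup.normalizer (pairGroup hV : Set P2) ⊓ H : Subgroup P2) := by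
          rw [← (IsKleinFour.card_four : Nat.card (pairGroup hV) = 4)]
          exact Subgroup.card_dvd_of_le hle
        obtain ⟨z, hz⟩ : ∃ z : alternatingGroup (Fin 5),
            z = ⟨Equiv.swap 0 1 * Equiv.swap 1 2, Equiv.Perm.mem_alternatingGroup.mpr (by decide)⟩ := ⟨_, rfl⟩
        have hz3 : orderOf ((f.symm z : H) : P2) = 3 := by
          haveI : Fact (Nat.Prime 3) := ⟨Nat.prime_three⟩
          rw [Subgroup.orderOf_coe, f.symm.orderOf_eq, hz]
          exact orderOf_eq_prime (by decide +kernel) (by decide +kernel)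
        have h3 : 3 ∣ Nat.card (Subgroup.normalizer (pairGroup hV : Set P2) ⊓ H : Subgroup P2) := by
          rw [← hz3, ← Nat.card_zpowers]
          refine Subgroup.card_dvd_of_le (Subgroup.zpowers_le.mpr ⟨?_, (f.symm z).2⟩)
          exact dA5.mem_normalizer f z (fun v hv => hz ▸ dA5_three v hv)
        have h12' := Nat.Coprime.mul_dvd_of_dvd_of_dvd (by decide : Nat.Coprime 4 3) h4 h3
        rcases card_normalizer_klein h2 hV with ⟨hc, -⟩ | ⟨-, h8⟩
        · exact (Subgroup.eq_of_le_of_card_ge inf_le_left (by rw [hc]; exact Nat.le_of_dvd Nat.card_pos h12')).ge.trans inf_le_right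
        · omega
      refine hg ?_
      have := mul_mem (mul_mem (inv_mem (hk₂ ▸ (f.symm h₂).2 : k₂ ∈ H)) (hNH hn)) (hk₁ ▸ (f.symm h₁).2 : k₁ ∈ H)
      have e : k₂⁻¹ * (k₂ * g⁻¹ * k₁⁻¹) * k₁ = g⁻¹ := by group
      rw [e] at this
      exact inv_mem_iff.mp this
  have := hbin.two_transitive (by rcases hq with h | h
                                  · rw [index_eq h2 hH (i := 6) (by rw [h]; norm_num) (by norm_num)]; norm_num
                                  · rw [index_eq h2 hH (i := 11) (by rw [h]; norm_num) (by norm_num)]; norm_num)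
    (two_transitive_of_meet hmeet)
  have hP := two_mul_card_P2 (F := F) h2
  rcases hq with h | h <;> rw [h] at hP
  · rw [index_eq h2 hH (i := 6) (by rw [h]; norm_num) (by norm_num)] at this
    norm_num [Nat.factorial] at this hP
    omega
  · rw [index_eq h2 hH (i := 11) (by rw [h]; norm_num) (by norm_num)] at this
    norm_num [Nat.factorial] at this hP
    omega
where
  not_square_conj (h2 : (2 : F) ≠ 0) (hq : Fintype.card F = 9 ∨ Fintype.card F = 11) {b n : P2} (hb : orderOf b = 5) (hn : n * b * n⁻¹ = b * b) : False := by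
    obtain ⟨A, rfl⟩ := PSL2.pr_surjective b
    obtain ⟨N, rfl⟩ := PSL2.pr_surjective n
    have hns : ¬ IsSc A.1 := fun h => by
      rw [pr_eq_one_iff.mpr h, orderOf_one] at hb
      omega
    rw [← map_inv, ← map_mul, ← map_mul, ← map_mul, PSL2.pr_eq_iff] at hn
    obtain ⟨ε, hε, he⟩ := hn
    have htr := congrArg Matrix.trace he
    rw [← trace_conj (isConj_iff.mpr ⟨N, rfl⟩ : IsConj A (N * A * N⁻¹)), Matrix.SpecialLinearGroup.coe_mul, sq_eq,
      Matrix.trace_smul, Matrix.trace_sub, Matrix.trace_smul, Matrix.trace_one, Fintype.card_fin, smul_eq_mul,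
      smul_eq_mul] at htr
    push_cast at htr
    obtain ⟨t, ht⟩ : ∃ t, t = A.1.trace := ⟨_, rfl⟩
    rw [← ht] at htr
    have hfac : (t - 2 * ε) * (t + ε) = 0 := by linear_combination (-ε) * htr + (-(t * t) + 2 - 2) * hε
    rcases mul_eq_zero.mp hfac with h | h
    · obtain ⟨p, hp⟩ := CharP.exists F
      haveI : Fact p.Prime := ⟨CharP.char_is_prime F p⟩
      obtain ⟨x, hx, hc⟩ := exists_pr_uS hns (by rw [← ht, show t = 2 * ε by linear_combination h]; linear_combination 4 * hε)
      obtain ⟨c, hc⟩ := isConj_iff.mp hc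
      have hord := orderOf_pr_uS p hx
      rw [← hc, ← MulAut.conj_apply, MulEquiv.orderOf_eq, hb] at hord
      obtain ⟨m, -, hm⟩ := FiniteField.card F p
      have h5 : 5 ∣ Fintype.card F := by rw [hm, hord]; exact dvd_pow_self p m.ne_zero
      omega
    · have h3 : PSL2.pr A ^ 3 = 1 := by
        rw [← map_pow, pr_eq_one_iff]
        refine ⟨ε, ?_⟩
        rw [Matrix.SpecialLinearGroup.coe_pow, pow_succ, pow_two, sq_eq, ← ht, Matrix.sub_mul, Matrix.smul_mul, sq_eq,
          ← ht, Matrix.one_mul, show t = -ε by linear_combination h]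
        ext i j
        simp only [Matrix.sub_apply, Matrix.smul_apply, smul_eq_mul]
        linear_combination A.1 i j * hε
      have := orderOf_dvd_of_pow_eq_one h3
      rw [hb] at this
      norm_num at this

end Cfsg.Agent.Classical.Binary
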