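import Cfsg.Agent.Lib.Classical.Binary.Core
import Cfsg.Agent.Lib.Classical.Dickson.Classify

/-!
# Witnesses from commuting data: cyclic groups, tori and root groups
-/

set_option autoImplicit false
set_option maxHeartbeats 400000

namespace Cfsg.Agent.Classical.Binary

open Cfsg.Agent.Small Cfsg.Agent.Small.SL2C

variable {F : Type*} [Field F]

local notation "SL2" => Matrix.SpecialLinearGroup (Fin 2) F
local notation "P2" => Matrix.ProjectiveSpecialLinearGroup (Fin 2) F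
local notation "M2" => Matrix (Fin 2) (Fin 2) F

theorem commute_val {A B : SL2} : Commute A B ↔ A.1 * B.1 = B.1 * A.1 :=
  ⟨fun h => congrArg Subtype.val h.eq, fun h => Subtype.ext h⟩

theorem isSc_of_commute {A B S : SL2} (hA : Commute S A) (hB : Commute S B) (hAB : ¬ Commute A B) :
    IsSc S.1 := by
  have hns : ¬ IsSc A.1 := fun ⟨c, hc⟩ => hAB (commute_val.mpr (by rw [hc]; simp))
  obtain ⟨x, y, hS⟩ := exists_comb hns (commute_val.mp hA)
  by_cases hy : y = 0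
  · exact ⟨x, by rw [hS, hy]; simp [comb]⟩
  · exfalso
    refine hAB (commute_val.mpr ?_)
    have h := commute_val.mp hB
    rw [hS] at h
    simp only [comb, Matrix.add_mul, Matrix.mul_add, Matrix.smul_mul, Matrix.mul_smul, Matrix.one_mul,
      Matrix.mul_one] at h
    exact smul_right_injective M2 hy (add_left_cancel h)

theorem pr_conj (U X : SL2) : (PSL2.pr U)⁻¹ * PSL2.pr X * PSL2.pr U = PSL2.pr (U⁻¹ * X * U) := by
  simp

theorem exists_lift_commute {M : Subgroup P2} {A₀ U : SL2} (hM : ∀ s ∈ M, ∃ S, PSL2.pr S = s ∧ Commute S A₀)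
    {s : P2} (hs : (PSL2.pr U)⁻¹ * s * PSL2.pr U ∈ M) :
    ∃ S, PSL2.pr S = s ∧ Commute S (U * A₀ * U⁻¹) := by
  obtain ⟨S, hS, hc⟩ := hM _ hs
  refine ⟨U * S * U⁻¹, ?_, ?_⟩
  · rw [map_mul, map_mul, map_inv, hS]; group
  · exact hc.map (MulAut.conj U).toMonoidHom

/-- Three conjugates of a group of elements commuting with `A₀`. -/
theorem not_triple {M L : Subgroup P2} {A₀ U V W A B : SL2}
    (hM : ∀ s ∈ M, ∃ S, PSL2.pr S = s ∧ Commute S A₀)
    (hU : PSL2.pr U ∈ L) (hV : PSL2.pr V ∈ L) (hW : PSL2.pr W ∈ L)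
    (ha : PSL2.pr (U⁻¹ * A * U) ∈ M) (hb : PSL2.pr (V⁻¹ * B * V) ∈ M)
    (hc : PSL2.pr (W⁻¹ * (B⁻¹ * A) * W) ∈ M) (hA : ¬ IsSc A.1)
    (hUV : ¬ Commute (U * A₀ * U⁻¹) (V * A₀ * V⁻¹)) (hUW : ¬ Commute (U * A₀ * U⁻¹) (W * A₀ * W⁻¹)) :
    ¬ Triple M L := by
  intro h
  rw [← pr_conj] at ha hb hc
  obtain ⟨s, hsU, hsV, hsW⟩ := h (a := PSL2.pr A) (b := PSL2.pr B) hU hV hW ha hb (by rwa [map_mul, map_inv] at hc)
  have two : ∀ {V' : SL2} {x : P2}, (PSL2.pr U)⁻¹ * x * PSL2.pr U ∈ M →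
      (PSL2.pr V')⁻¹ * x * PSL2.pr V' ∈ M → ¬ Commute (U * A₀ * U⁻¹) (V' * A₀ * V'⁻¹) → x = 1 := by
    intro V' x h1 h2 h3
    obtain ⟨S, rfl, hS⟩ := exists_lift_commute hM h1
    obtain ⟨S', hS'e, hS'⟩ := exists_lift_commute hM h2
    obtain ⟨ε, hε, he⟩ := (PSL2.pr_eq_iff _ _).mp hS'e
    have hε0 : ε ≠ 0 := left_ne_zero_of_mul_eq_one hε
    have hSV : Commute S (V' * A₀ * V'⁻¹) := by
      have h := commute_val.mp hS'
      rw [he, Matrix.smul_mul, Matrix.mul_smul] at h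
      exact commute_val.mpr (smul_right_injective M2 hε0 h)
    exact pr_eq_one_iff.mpr (isSc_of_commute hS hSV h3)
  obtain rfl := two hsU hsV hUV
  rw [inv_one, one_mul] at hsW
  exact hA (pr_eq_one_iff.mp (two ha hsW hUW))

section Cyclic

variable [Fintype F]

/-- Three rotations of one class with product one. -/
theorem cyclic_core {A₀ A B : SL2} {ε : F} (hε : ε * ε = 1) (ht : A₀.1.trace * A₀.1.trace ≠ 4)
    (hA : A.1.trace = A₀.1.trace) (hB : B.1.trace = A₀.1.trace)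
    (hC : (B⁻¹ * A).1.trace = ε * A₀.1.trace) (hAB : ¬ Commute A B) :
    ¬ IsBin (Subgroup.zpowers (PSL2.pr A₀)) := by
  intro hbin
  obtain ⟨C, hCe⟩ : ∃ C : SL2, C.1 = ε • (B⁻¹ * A).1 :=
    ⟨⟨_, by rw [Matrix.det_smul, (B⁻¹ * A).2, mul_one, Fintype.card_fin, pow_two, hε]⟩, rfl⟩
  have hprC : PSL2.pr C = PSL2.pr (B⁻¹ * A) := (PSL2.pr_eq_iff _ _).mpr ⟨ε, hε, hCe⟩
  have hCt : C.1.trace = A₀.1.trace := by rw [hCe, Matrix.trace_smul, hC, smul_eq_mul, ← mul_assoc, hε, one_mul]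
  have hns := not_isSc_of_trace ht
  have conj : ∀ X : SL2, X.1.trace = A₀.1.trace → ∃ U, U * A₀ * U⁻¹ = X := fun X hX =>
    isConj_iff.mp (isConj_of_trace hns (not_isSc_of_trace (by rw [hX]; exact ht)) hX.symm (Or.inr ht))
  obtain ⟨U, hU⟩ := conj A hA
  obtain ⟨V, hV⟩ := conj B hB
  obtain ⟨W, hW⟩ := conj C hCt
  have hAC : ¬ Commute A C := fun h => hAB (by
    have h' := commute_val.mp h
    rw [hCe, Matrix.smul_mul, Matrix.mul_smul] at h'
    have h2 : Commute A (B⁻¹ * A) := commute_val.mpr (smul_right_injective M2 (left_ne_zero_of_mul_eq_one hε) h')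
    have h3 := h2.mul_right (Commute.refl A).inv_right
    rw [mul_inv_cancel_right] at h3
    exact Commute.inv_right_iff.mp h3)
  refine not_triple (U := U) (V := V) (W := W) (A := A) (B := B) (L := ⊤) (A₀ := A₀) (M := Subgroup.zpowers (PSL2.pr A₀)) ?_
    trivial trivial trivial ?_ ?_ ?_ (not_isSc_of_trace (by rw [hA]; exact ht)) (by rwa [hU, hV]) (by rwa [hU, hW])
    hbin.triple
  · rintro s ⟨n, rfl⟩
    exact ⟨A₀ ^ n, map_zpow _ _ _, (Commute.refl A₀).zpow_left n⟩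
  · rw [← hU]; simp [mul_assoc]
  · rw [← hV]; simp [mul_assoc]
  · rw [← pr_conj, ← hprC, ← hW]; simp [mul_assoc]

/-- A cyclic group of semisimple type is not binary, apart from order three in characteristic two. -/
theorem cyclic_not_bin {A₀ : SL2} (ht : A₀.1.trace * A₀.1.trace ≠ 4)
    (h : (2 : F) ≠ 0 ∨ A₀.1.trace * A₀.1.trace ≠ 1) : ¬ IsBin (Subgroup.zpowers (PSL2.pr A₀)) := by
  obtain ⟨t, htt⟩ : ∃ t, t = A₀.1.trace := ⟨_, rfl⟩
  have ht0 := ht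
  rw [← htt] at ht h
  obtain ⟨ε, hε, h1, h2⟩ : ∃ ε : F, ε * ε = 1 ∧ ε * t ≠ -1 ∧ ε * t ≠ 2 := by
    by_cases h1 : t * t = 1
    · refine ⟨t, h1, ?_, ?_⟩ <;> rw [h1]
      · intro e; exact (h.resolve_right (not_not.mpr h1)) (by linear_combination e)
      · intro e; exact one_ne_zero (by linear_combination -e : (1 : F) = 0)
    · exact ⟨1, one_mul 1, fun e => h1 (by rw [one_mul] at e; rw [e]; ring), fun e => ht (by rw [one_mul] at e; rw [e]; ring)⟩
  have hδ : (4 : F) - t * t ≠ 0 := sub_ne_zero.mpr (Ne.symm ht)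
  obtain ⟨κ, hκ⟩ : ∃ κ, κ = (ε * t + 1) * (ε * t - 2) ^ 2 := ⟨_, rfl⟩
  have hκ0 : κ ≠ 0 := hκ ▸ mul_ne_zero (fun e => h1 (eq_neg_of_add_eq_zero_left e)) (pow_ne_zero _ (sub_ne_zero.mpr h2))
  obtain ⟨x, y, hxy⟩ := Qf_surjective (t := t) (d := (1 : F)) (Or.inr (by rw [mul_one]; exact ht)) (-(κ / (4 - t * t)))
  obtain ⟨a, ha⟩ : ∃ a, a = (2 * t - ε * (t * t)) / (4 - t * t) := ⟨_, rfl⟩
  obtain ⟨b, hb⟩ : ∃ b, b = (2 * (ε * t) - t * t) / (4 - t * t) := ⟨_, rfl⟩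
  have ea : (4 - t * t) * a = 2 * t - ε * (t * t) := by rw [ha, mul_div_cancel₀ _ hδ]
  have eb : (4 - t * t) * b = 2 * (ε * t) - t * t := by rw [hb, mul_div_cancel₀ _ hδ]
  have e1 : 2 * a + t * b = t := mul_left_cancel₀ hδ (by linear_combination 2 * ea + t * eb)
  have e2 : t * a + 2 * b = ε * t := mul_left_cancel₀ hδ (by linear_combination t * ea + 2 * eb)
  have e0 : (4 - t * t) * (a * a + t * a * b + b * b - t * a - ε * t * b + 1) = κ :=
    mul_left_cancel₀ hδ (by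
      rw [hκ]
      linear_combination ((4 - t * t) * a + (2 * t - ε * (t * t)) + t * (4 - t * t) * b - t * (4 - t * t)) * ea +
        ((4 - t * t) * b + (2 * (ε * t) - t * t) + t * (2 * t - ε * (t * t)) - ε * t * (4 - t * t)) * eb +
        (8 * t ^ 2 - 4 * ε * t ^ 3 - 2 * t ^ 4 + ε * t ^ 5) * hε)
  rw [Qf] at hxy
  have e3 : (4 - t * t) * (x * x + t * x * y + 1 * (y * y)) = -κ := by rw [hxy, mul_neg, mul_div_cancel₀ _ hδ]
  obtain ⟨u, hu⟩ : ∃ u, u = a + x := ⟨_, rfl⟩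
  obtain ⟨v, hv⟩ : ∃ v, v = b + y := ⟨_, rfl⟩
  obtain ⟨w, hw⟩ : ∃ w, w = v + t * u - ε * t := ⟨_, rfl⟩
  have hdet : u * (t - u) - v * w = 1 := by
    refine mul_left_cancel₀ hδ ?_
    subst hw hu hv
    linear_combination -e0 - e3 - x * (4 - t * t) * e1 - y * (4 - t * t) * e2
  let A : SL2 := ⟨!![0, 1; -1, t], by simp [Matrix.det_fin_two]⟩
  let B : SL2 := ⟨!![u, v; w, t - u], by rw [Matrix.det_fin_two]; simpa using hdet⟩
  refine cyclic_core (A := A) (B := B) hε ht0 ?_ ?_ ?_ ?_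
  · rw [← htt]; simp [A, Matrix.trace_fin_two]
  · rw [← htt]; simp [B, Matrix.trace_fin_two]
  · rw [← htt, Matrix.SpecialLinearGroup.coe_mul, Matrix.SpecialLinearGroup.coe_inv]; simp [A, B, Matrix.SpecialLinearGroup.coe_inv, Matrix.adjugate_fin_two, Matrix.trace_fin_two, Matrix.mul_apply, Fin.sum_univ_two]
    linear_combination -hw
  · intro hc
    have h00 := congrFun (congrFun (commute_val.mp hc) 0) 0
    have h01 := congrFun (congrFun (commute_val.mp hc) 0) 1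
    simp [A, B, Matrix.mul_apply, Fin.sum_univ_two] at h00 h01
    apply hκ0
    rw [hκ]
    grind

end Cyclic

/-- The affine witness: diagonal rotations fixing `0`, `1` and `1 / (μ + 1)`. -/
theorem not_triple_torus {M L : Subgroup P2} (hM : ∀ s ∈ M, ∃ S, PSL2.pr S = s ∧ S.1 0 1 = 0 ∧ S.1 1 0 = 0)
    {l : Fˣ} (hl : PSL2.pr (PSL2.hS l) ∈ M) (hl2 : (l : F) * l ≠ 1) {z : F} (hz : ((l : F) * l + 1) * z = 1)
    (h1 : PSL2.pr (PSL2.uS (1 : F)) ∈ L) (hzL : PSL2.pr (PSL2.uS z) ∈ L) : ¬ Triple M L := by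
  have hl0 : (l : F) ≠ 0 := l.ne_zero
  have hsub : ((l : F)⁻¹ - l) ≠ 0 := fun e => hl2 (by field_simp at e; linear_combination -e)
  have hz0 : z ≠ 0 := fun e => by simp [e] at hz
  refine not_triple (A₀ := PSL2.hS l) (U := 1) (V := PSL2.uS 1) (W := PSL2.uS z) (A := PSL2.hS l)
    (B := PSL2.uS 1 * (PSL2.hS l)⁻¹ * (PSL2.uS 1)⁻¹) ?_ (by rw [map_one]; exact one_mem L) h1 hzL
    (by simpa using hl) ?_ ?_ ?_ ?_ ?_
  · intro s hs
    obtain ⟨S, rfl, h01, h10⟩ := hM s hs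
    refine ⟨S, rfl, commute_val.mpr ?_⟩
    rw [Matrix.eta_fin_two S.1, h01, h10, PSL2.hS_val]
    simp [Matrix.mul_fin_two, mul_comm]
  · rw [show (PSL2.uS (1 : F))⁻¹ * (PSL2.uS 1 * (PSL2.hS l)⁻¹ * (PSL2.uS 1)⁻¹) * PSL2.uS 1 = (PSL2.hS l)⁻¹ by group,
      map_inv]
    exact inv_mem hl
  · rw [show (PSL2.uS z)⁻¹ * ((PSL2.uS 1 * (PSL2.hS l)⁻¹ * (PSL2.uS 1)⁻¹)⁻¹ * PSL2.hS l) * PSL2.uS z =
      PSL2.hS l * PSL2.hS l from ?_, map_mul]
    · exact mul_mem hl hl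
    apply Subtype.ext
    ext i j
    fin_cases i <;> fin_cases j <;> simp [Matrix.SpecialLinearGroup.coe_inv, Matrix.adjugate_fin_two, Matrix.mul_apply, Fin.sum_univ_two] <;> grind
  · exact not_isSc_of_trace (fun e => hl2 (by
      simp [Matrix.trace_fin_two] at e
      field_simp at e
      grind)) 
  · intro h
    have h01 := congrFun (congrFun (commute_val.mp h) 0) 1
    simp [Matrix.SpecialLinearGroup.coe_inv, Matrix.adjugate_fin_two, Matrix.mul_apply, Fin.sum_univ_two] at h01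
    grind
  · intro h
    have h01 := congrFun (congrFun (commute_val.mp h) 0) 1
    simp [Matrix.SpecialLinearGroup.coe_inv, Matrix.adjugate_fin_two, Matrix.mul_apply, Fin.sum_univ_two] at h01
    grind

theorem pr_uS_int {M : Subgroup P2} (h1 : PSL2.pr (PSL2.uS (1 : F)) ∈ M) (n : ℤ) :
    PSL2.pr (PSL2.uS (n : F)) ∈ M := by
  have e : PSL2.pr (PSL2.uS (n : F)) = (PSL2.uP (Multiplicative.ofAdd (1 : F))) ^ n := by
    rw [← map_zpow, ← ofAdd_zsmul, zsmul_one]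
    rfl
  rw [e]
  exact zpow_mem h1 n

/-- The unipotent witness in odd characteristic. -/
theorem not_triple_unip (h2 : (2 : F) ≠ 0) {M L : Subgroup P2}
    (hM : ∀ s ∈ M, ∃ S, PSL2.pr S = s ∧ Commute S (PSL2.uS (1 : F)))
    (h1 : PSL2.pr (PSL2.uS (1 : F)) ∈ M) (hw : PSL2.pr (PSL2.wS : SL2) ∈ L)
    (hv : PSL2.pr (PSL2.vS (-2 : F)) ∈ L) : ¬ Triple M L := by
  refine not_triple (A₀ := PSL2.uS 1) (U := 1) (V := PSL2.wS) (W := PSL2.vS (-2)) (A := PSL2.uS 1)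
    (B := PSL2.vS 4) hM (by rw [map_one]; exact one_mem L) hw hv (by simpa using h1) ?_ ?_
    (not_isSc_of_01 (by simp)) ?_ ?_
  · rw [show PSL2.pr ((PSL2.wS : SL2)⁻¹ * PSL2.vS 4 * PSL2.wS) = PSL2.pr (PSL2.uS ((-4 : ℤ) : F)) from ?_]
    · exact pr_uS_int h1 _
    congr 1
    apply Subtype.ext
    ext i j
    fin_cases i <;> fin_cases j <;> simp [Matrix.SpecialLinearGroup.coe_inv, Matrix.adjugate_fin_two, Matrix.mul_apply, Fin.sum_univ_two]
  · rw [show PSL2.pr ((PSL2.vS (-2 : F))⁻¹ * ((PSL2.vS 4)⁻¹ * PSL2.uS 1) * PSL2.vS (-2)) = PSL2.pr (PSL2.uS ((-1 : ℤ) : F)) from ?_]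
    · exact pr_uS_int h1 _
    refine (PSL2.pr_eq_iff _ _).mpr ⟨-1, by ring, ?_⟩
    ext i j
    fin_cases i <;> fin_cases j <;> simp [Matrix.SpecialLinearGroup.coe_inv, Matrix.adjugate_fin_two, Matrix.mul_apply, Fin.sum_univ_two] <;> ring
  · intro h
    have h00 := congrFun (congrFun (commute_val.mp h) 0) 0
    simp [Matrix.SpecialLinearGroup.coe_inv, Matrix.adjugate_fin_two, Matrix.mul_apply, Fin.sum_univ_two] at h00
  · intro h
    have h00 := congrFun (congrFun (commute_val.mp h) 0) 0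
    simp [Matrix.SpecialLinearGroup.coe_inv, Matrix.adjugate_fin_two, Matrix.mul_apply, Fin.sum_univ_two] at h00
    have : (4 : F) ≠ 0 := by rw [show (4 : F) = 2 * 2 by norm_num]; exact mul_ne_zero h2 h2
    grind

end Cfsg.Agent.Classical.Binary
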